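import Groth.Agent.AlgSpB.Art.EtaleChart
import Groth.Agent.AlgSp.Codim0
import Groth.Agent.AlgSp.Quot
import Groth.Agent.AlgSp.Basic
import Groth.Agent.AlgSp.PointsMor
import Groth.Agent.AlgSpB.Open
import Groth.Agent.AlgSpB.OpenGlue
import Groth.Agent.AlgSpB.Points
import Groth.Agent.GrpdLib.InvAffine
import Mathlib.RingTheory.Ideal.MinimalPrime.Localization
import Mathlib.AlgebraicGeometry.Limits

/-!
# Scheme neighbourhoods of codimension zero points with finite etale charts
-/

universe u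

open CategoryTheory CategoryTheory.Limits AlgebraicGeometry TopologicalSpace

set_option backward.isDefEq.respectTransparency false
set_option backward.isDefEq.respectTransparency.types false
set_option autoImplicit false

namespace Groth.Agent.AlgSpB.Art

/-- A compact set of a spectrum not containing a minimal prime misses a neighbourhood of it. -/
theorem exists_basicOpen_disjoint {A : Type u} [CommRing A] (p : PrimeSpectrum A)
    (hp : p.asIdeal ∈ minimalPrimes A) (Q : Set (PrimeSpectrum A)) (hQo : IsOpen Q) (hQc : IsCompact Q)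
    (hpQ : p ∉ Q) : ∃ y : A, y ∉ p.asIdeal ∧ ∀ z ∈ Q, y ∈ z.asIdeal := by
  classical
  have hcov : Q ⊆ ⋃ f : {f : A // (PrimeSpectrum.basicOpen f : Set (PrimeSpectrum A)) ⊆ Q},
      (PrimeSpectrum.basicOpen (f : A) : Set (PrimeSpectrum A)) := by
    intro z hz
    obtain ⟨_, ⟨f, rfl⟩, hzf, hf⟩ :=
      PrimeSpectrum.isTopologicalBasis_basic_opens.exists_subset_of_mem_open hz hQo
    exact Set.mem_iUnion.2 ⟨⟨f, hf⟩, hzf⟩
  obtain ⟨t, ht⟩ := hQc.elim_finite_subcover _ (fun f => (PrimeSpectrum.basicOpen (Subtype.val f)).isOpen) hcov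
  have hy : ∀ f : {f : A // (PrimeSpectrum.basicOpen f : Set (PrimeSpectrum A)) ⊆ Q},
      ∃ y : A, y ∉ p.asIdeal ∧ ∃ n : ℕ, y * f.1 ^ n = 0 := by
    intro f
    have hf : f.1 ∈ p.asIdeal := by_contra fun hc => hpQ (f.2 hc)
    have h := IsLocalization.AtPrime.radical_map_of_mem_minimalPrimes
      (A := Localization.AtPrime p.asIdeal) p.asIdeal ⊥ hp
    rw [Ideal.map_bot] at h
    obtain ⟨n, hn⟩ := h.ge (Ideal.mem_map_of_mem _ hf)
    rw [Ideal.mem_bot, ← map_pow,
      IsLocalization.map_eq_zero_iff p.asIdeal.primeCompl (Localization.AtPrime p.asIdeal)] at hn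
    obtain ⟨⟨y, hy⟩, hyn⟩ := hn
    exact ⟨y, hy, n, hyn⟩
  choose y hyp n hyn using hy
  refine ⟨∏ f ∈ t, y f, fun hmem => ?_, fun z hz => ?_⟩
  · obtain ⟨f, -, hf⟩ := (p.isPrime.prod_mem_iff).1 hmem
    exact hyp f hf
  · obtain ⟨f, hft, hzf⟩ := Set.mem_iUnion₂.1 (ht hz)
    have : y f ∈ z.asIdeal := by
      refine (z.isPrime.mem_or_mem (x := y f) (y := f.1 ^ n f) ?_).resolve_right fun hc => hzf (z.isPrime.mem_of_pow_mem _ hc)
      rw [hyn f]; exact zero_mem _
    exact Ideal.mem_of_dvd _ (Finset.dvd_prod_of_mem y hft) this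

/-- Finitely many generic points of a quasi-separated scheme lie in an affine open. -/
theorem exists_affine_of_generic (U : Scheme.{u}) [QuasiSeparatedSpace ↥U] (F : Set ↥U) (hF : F.Finite)
    (hgen : ∀ x ∈ F, ∀ z : ↥U, z ⤳ x → z = x) : ∃ V : U.Opens, IsAffineOpen V ∧ F ⊆ V := by
  refine hF.induction_on_subset (motive := fun F' _ => ∃ V : U.Opens, IsAffineOpen V ∧ F' ⊆ V) F
    ⟨⊥, isAffineOpen_bot U, Set.empty_subset _⟩ fun {η F'} hη hF' hηF' ⟨V, hV, hVF⟩ => ?_
  by_cases hηV : η ∈ V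
  · exact ⟨V, hV, Set.insert_subset hηV hVF⟩
  have hF'f : F'.Finite := hF.subset hF'
  let C : Set ↥U := ⋃ x ∈ F', closure {x}
  have hC : IsClosed C := hF'f.isClosed_biUnion fun _ _ => isClosed_closure
  have hηC : η ∉ C := fun h => by
    obtain ⟨x, hx, hηx⟩ := Set.mem_iUnion₂.1 h
    exact hηF' (hgen η hη x (specializes_iff_mem_closure.2 hηx) ▸ hx)
  obtain ⟨A, hA, hηA, hAC⟩ := exists_isAffineOpen_mem_and_subset (x := η) (U := ⟨Cᶜ, hC.isOpen_compl⟩) hηC
  let Q : Set (PrimeSpectrum Γ(U, A)) := hA.fromSpec ⁻¹' ((A : Set ↥U) ∩ V)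
  have hQc : IsCompact Q := by
    have h := QuasiSeparatedSpace.inter_isCompact _ _ A.isOpen hA.isCompact V.isOpen hV.isCompact
    exact hA.fromSpec.isOpenEmbedding.isInducing.isCompact_preimage' h
      (hA.range_fromSpec ▸ Set.inter_subset_left)
  let p := hA.primeIdealOf ⟨η, hηA⟩
  have hpη : hA.fromSpec p = η := hA.fromSpec_primeIdealOf ⟨η, hηA⟩
  have hp : p.asIdeal ∈ minimalPrimes Γ(U, A) := by
    rw [← PrimeSpectrum.stableUnderGeneralization_singleton]
    rintro a b hba rfl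
    have := hgen η hη (hA.fromSpec b) (hpη ▸ hba.map hA.fromSpec.continuous)
    exact hA.fromSpec.isOpenEmbedding.injective (this.trans hpη.symm)
  obtain ⟨y, hy, hyQ⟩ := exists_basicOpen_disjoint p hp Q
    ((A.isOpen.inter V.isOpen).preimage hA.fromSpec.continuous) hQc
    (fun h => hηV (by have h2 := h.2; rwa [hpη] at h2))
  have hηy : η ∈ U.basicOpen y := by
    rw [← hpη]
    have : p ∈ hA.fromSpec ⁻¹ᵁ U.basicOpen y := by rw [hA.fromSpec_preimage_basicOpen]; exact hy
    exact this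
  have hdis : Disjoint (U.basicOpen y) V := by
    rw [← Opens.coe_disjoint, Set.disjoint_left]
    intro z hz hzV
    have hzA : z ∈ A := U.basicOpen_le y hz
    let q := hA.primeIdealOf ⟨z, hzA⟩
    have hqz : hA.fromSpec q = z := hA.fromSpec_primeIdealOf ⟨z, hzA⟩
    have hq : q ∈ hA.fromSpec ⁻¹ᵁ U.basicOpen y := by
      change hA.fromSpec q ∈ U.basicOpen y; rw [hqz]; exact hz
    rw [hA.fromSpec_preimage_basicOpen] at hq
    exact hq (hyQ q (show hA.fromSpec q ∈ (A : Set ↥U) ∩ V by rw [hqz]; exact ⟨hzA, hzV⟩))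
  exact ⟨U.basicOpen y ⊔ V, (hA.basicOpen y).sup_of_disjoint hV hdis,
    Set.insert_subset (Or.inl hηy) fun x hx => Or.inr (hVF hx)⟩

open _root_.AlgSp

variable {S : Scheme.{u}}

/-- A space with a finite etale surjective chart whose fibres lie in affines is a scheme. -/
theorem isRepresentable_of_finite_etale (Y : Space S) {U : Over S} (a : (yon S).obj U ⟶ Y.obj)
    (hf : RepWith @IsFinite a) (he : RepWith @Etale a) (hs : RepWith @Surjective a)
    (horb : ∀ u : U.left, ∃ W : U.left.Opens, IsAffineOpen W ∧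
      ∀ u' : U.left, Points.ofPt a u' = Points.ofPt a u → u' ∈ W) : Y.obj.obj.IsRepresentable := by
  obtain ⟨R, t, s, hR⟩ := exists_pullback_yon he.1 a
  have hsf : IsFinite s.left := hf.2 _ _ _ hR
  have hse : Etale s.left := he.2 _ _ _ hR
  have heq : IsEqvRel s t := isEqvRel_of_isPullback hR
  obtain ⟨M, q, h1, h2, h3, h4, hq⟩ := exists_finLocFree_quotient t s heq fun u => by
    obtain ⟨W, hW, hu⟩ := horb u
    refine ⟨W, hW, fun r hr => hu _ ?_⟩
    rw [← hr, ← ofPt_map_comp, ← ofPt_map_comp, hR.w]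
  have : Sheaf.IsLocallySurjective a := Groth.Agent.AlgSp.isLocallySurjective_of_etale_surjective a he hs
  have : Sheaf.IsLocallySurjective ((yon S).map q) :=
    Groth.Agent.AlgSp.isLocallySurjective_of_repWith _
      ((repWith_yon_map_iff _ _).2 h2) ((repWith_yon_map_iff _ _).2 h3) ((repWith_yon_map_iff _ _).2 h4)
  obtain ⟨c1⟩ := Groth.Agent.AlgSp.isColimit_of_isPullback a hR
  obtain ⟨c2⟩ := Groth.Agent.AlgSp.isColimit_of_isPullback ((yon S).map q) hq
  let e : (yon S).obj M ≅ Y.obj := c2.coconePointUniqueUpToIso c1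
  exact isRepresentable_of_iso e

/-- Around a codimension zero point a space with a finite etale chart from a quasi-separated scheme is a scheme. -/
theorem exists_scheme_nhd (X : Space S) {U : Over S} (a : (yon S).obj U ⟶ X.obj)
    (hf : RepWith @IsFinite a) (he : RepWith @Etale a) (hs : RepWith @Surjective a) [QuasiSeparatedSpace ↥U.left]
    (x : Points X.obj) (hx : HasAt (fun U u => ringKrullDim ↥(U.presheaf.stalk u) = 0) X.obj x) :
    ∃ (X' : Space S) (j : X' ⟶ X), RepWith @IsOpenImmersion j.hom ∧ X'.obj.obj.IsRepresentable ∧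
      x ∈ Set.range (Points.map j.hom) := by
  obtain ⟨u₀, rfl⟩ := surjective_ofPt hs x
  obtain ⟨R, t, s, hR⟩ := exists_pullback_yon he.1 a
  have hsf : IsFinite s.left := hf.2 _ _ _ hR
  have hfib : ∀ u u' : U.left, Points.ofPt a u' = Points.ofPt a u → u' ∈ t.left '' (s.left ⁻¹' {u}) := by
    intro u u' h
    obtain ⟨r, h1, h2⟩ := (ofPt_eq_ofPt_iff hR u' u).1 h
    exact ⟨r, h2, h1⟩
  obtain ⟨V, hV, hFV⟩ := exists_affine_of_generic U.left (Points.ofPt a ⁻¹' {Points.ofPt a u₀})
    (((s.left.finite_preimage_singleton u₀).image _).subset fun u' h => hfib u₀ u' h)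
    (fun u hu z hz => by
      have h0 : closure {u} ∈ irreducibleComponents (U.left : Type u) :=
        (Groth.Agent.AlgSp.codim0_iff_chart he u).1 (by rw [hu]; exact hx)
      exact hz.antisymm ((Groth.Agent.FlatMor.GenericPts.closure_mem_irreducibleComponents_iff u).1 h0 z hz) |>.eq)
  let T : Set (Points X.obj) := {y | ∀ u, Points.ofPt a u = y → u ∈ V}
  have hT : IsOpen T := by
    refine (isOpenQuotientMap_ofPt he hs).isQuotientMap.isOpen_preimage.1 ?_
    have he' : Points.ofPt a ⁻¹' T = (s.left '' (t.left ⁻¹' (V : Set ↥U.left)ᶜ))ᶜ := by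
      ext u
      constructor
      · rintro h ⟨r, hr, rfl⟩
        exact hr (h (t.left r) (by rw [← ofPt_map_comp, ← ofPt_map_comp, hR.w]))
      · intro h u' hu'
        obtain ⟨r, hr1, hr2⟩ := hfib u u' hu'
        by_contra hc
        exact h ⟨r, show t.left r ∉ V by rw [hr2]; exact hc, hr1⟩
    rw [he']
    exact (s.left.isClosedMap _ ((V.isOpen.isClosed_compl).preimage t.left.continuous)).isOpen_compl
  have hxT : Points.ofPt a u₀ ∈ T := fun u hu => hFV hu
  let W : U.left.Opens := ⟨Points.ofPt a ⁻¹' T, hT.preimage (Points.continuous_ofPt a)⟩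
  obtain ⟨X', j, hj, hjr⟩ := exists_openSubspace X hT
  have := mono_of_isOpenImmersion hj
  obtain ⟨UW, snd, fst, sq⟩ := hj.1 a
  have : IsOpenImmersion snd.left := hj.2 _ _ _ sq
  have hrange : Set.range snd.left = (W : Set ↥U.left) := by
    rw [range_snd_eq sq, hjr]; rfl
  refine ⟨X', j, hj, isRepresentable_of_finite_etale X' fst (MorphismProperty.of_isPullback sq.flip hf)
    (MorphismProperty.of_isPullback sq.flip he) (MorphismProperty.of_isPullback sq.flip hs) (fun v => ?_),
    hjr ▸ hxT⟩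
  let O : Set ↥U.left := Points.ofPt a ⁻¹' {Points.ofPt a (snd.left v)}
  have hvW : snd.left v ∈ W := hrange.le ⟨v, rfl⟩
  obtain ⟨f, hfW, hfO⟩ := GrpdLib.exists_basicOpen_le_of_finite hV (U := W) (O := O)
    (((s.left.finite_preimage_singleton (snd.left v)).image _).subset fun u' h => hfib _ u' h)
    (fun u hu => show Points.ofPt a u ∈ T by rw [hu]; exact hvW) (fun u hu => hvW u hu)
  refine ⟨snd.left ⁻¹ᵁ U.left.basicOpen f, (hV.basicOpen f).preimage_of_isOpenImmersion _
    (fun z hz => by rw [Scheme.Hom.mem_opensRange]; exact hrange.ge (hfW hz)), fun v' hv' => hfO ?_⟩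
  have := congrArg (Points.map j.hom) hv'
  rw [Points.map_ofPt, Points.map_ofPt, sq.w, ofPt_map_comp, ofPt_map_comp] at this
  exact this

end Groth.Agent.AlgSpB.Art
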