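import Groth.Agent.AlgSpB.Points
import Groth.Agent.AlgSpB.LqfLocal
import Mathlib.AlgebraicGeometry.Morphisms.FlatMono
import Mathlib.AlgebraicGeometry.Morphisms.UniversallyOpen

/-!
# Finite open pieces of the base changes of a cover

For `p : h_U ⟶ F` representable, flat and locally of finite presentation, a piece over `V ⟶ U`
is an open subscheme of `U ×_F V` which is finite over `V`.
-/

universe u

open CategoryTheory CategoryTheory.Limits AlgebraicGeometry

set_option backward.isDefEq.respectTransparency false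
set_option backward.isDefEq.respectTransparency.types false
set_option autoImplicit false

namespace Groth.Agent.AlgSpB.Art

open _root_.AlgSp

variable {S : Scheme.{u}} {F : Sp S} {U : Over S}

theorem range_comp_subset {A B : Over S} (k : A ⟶ B) {Z : Scheme.{u}} (f : B.left ⟶ Z) (s : Set Z)
    (h : ∀ b, f b ∈ s) : ∀ a, (k.left ≫ f) a ∈ s := fun a => h (k.left a)

/-- The projection of a pullback of `h_U ⟶ F` to the other factor is separated when `U` is. -/
theorem isSeparated_snd [U.left.IsSeparated] {p : (yon S).obj U ⟶ F} {T XT : Over S} {tU : XT ⟶ U}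
    {tT : XT ⟶ T} {g : (yon S).obj T ⟶ F} (sq : IsPullback ((yon S).map tU) ((yon S).map tT) p g) :
    IsSeparated tT.left := by
  let m : XT.left ⟶ pullback U.hom T.hom := pullback.lift tU.left tT.left (by rw [Over.w, Over.w])
  have : Mono m := ⟨fun {Z} a b hab => by
    have h1 : a ≫ tU.left = b ≫ tU.left := by
      simpa [m] using congrArg (· ≫ pullback.fst U.hom T.hom) hab
    have h2 : a ≫ tT.left = b ≫ tT.left := by
      simpa [m] using congrArg (· ≫ pullback.snd U.hom T.hom) hab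
    have hst : a ≫ XT.hom = b ≫ XT.hom := by rw [← Over.w tT, reassoc_of% h2]
    let a' : Over.mk (a ≫ XT.hom) ⟶ XT := Over.homMk a rfl
    let b' : Over.mk (a ≫ XT.hom) ⟶ XT := Over.homMk b hst.symm
    have e : a' = b' := (yon S).map_injective (sq.hom_ext
      (by rw [← Functor.map_comp, ← Functor.map_comp]
          exact congrArg (yon S).map (Over.OverMorphism.ext h1))
      (by rw [← Functor.map_comp, ← Functor.map_comp]
          exact congrArg (yon S).map (Over.OverMorphism.ext h2)))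
    exact congrArg (fun k : Over.mk (a ≫ XT.hom) ⟶ XT => k.left) e⟩
  have : IsSeparated U.hom := inferInstance
  have e : m ≫ pullback.snd U.hom T.hom = tT.left := pullback.lift_snd _ _ _
  rw [← e]
  infer_instance

/-- An open piece, finite over `V`, of the pullback of `p` along `V ⟶ U ⟶ F`. -/
structure Pc (p : (yon S).obj U ⟶ F) where
  V : Over S
  f : V ⟶ U
  X : Over S
  xU : X ⟶ U
  xV : X ⟶ V
  sq : IsPullback ((yon S).map xU) ((yon S).map xV) p ((yon S).map f ≫ p)
  W : X.left.Opens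
  fin : IsFinite (W.ι ≫ xV.left)

variable {p : (yon S).obj U ⟶ F} (P : Pc p)

namespace Pc

/-- The `T`-points of a piece. -/
def Mem {T : Over S} (y : T ⟶ U) (v : T ⟶ P.V) : Prop :=
  ∃ x : T ⟶ P.X, x ≫ P.xU = y ∧ x ≫ P.xV = v ∧ ∀ t, x.left t ∈ P.W

/-- Two points of `V` have the same piece. -/
def Rel {T : Over S} (a b : T ⟶ P.V) : Prop :=
  (yon S).map (a ≫ P.f) ≫ p = (yon S).map (b ≫ P.f) ≫ p ∧
    ∀ (T' : Over S) (k : T' ⟶ T) (y : T' ⟶ U), P.Mem y (k ≫ a) ↔ P.Mem y (k ≫ b)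

theorem Mem.map {T T' : Over S} {y : T ⟶ U} {v : T ⟶ P.V} (h : P.Mem y v) (k : T' ⟶ T) :
    P.Mem (k ≫ y) (k ≫ v) := by
  obtain ⟨x, rfl, rfl, h3⟩ := h
  exact ⟨k ≫ x, Category.assoc _ _ _, Category.assoc _ _ _, fun t => h3 (k.left t)⟩

theorem Mem.eq_F {T : Over S} {y : T ⟶ U} {v : T ⟶ P.V} (h : P.Mem y v) :
    (yon S).map y ≫ p = (yon S).map (v ≫ P.f) ≫ p := by
  obtain ⟨x, rfl, rfl, -⟩ := h
  simp only [Functor.map_comp, Category.assoc, P.sq.w]

theorem Rel.refl {T : Over S} (a : T ⟶ P.V) : P.Rel a a := ⟨rfl, fun _ _ _ => Iff.rfl⟩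

theorem Rel.symm {T : Over S} {a b : T ⟶ P.V} (h : P.Rel a b) : P.Rel b a :=
  ⟨h.1.symm, fun T' k y => (h.2 T' k y).symm⟩

theorem Rel.trans {T : Over S} {a b c : T ⟶ P.V} (h : P.Rel a b) (h' : P.Rel b c) : P.Rel a c :=
  ⟨h.1.trans h'.1, fun T' k y => (h.2 T' k y).trans (h'.2 T' k y)⟩

theorem Rel.map {T T' : Over S} {a b : T ⟶ P.V} (h : P.Rel a b) (k : T' ⟶ T) :
    P.Rel (k ≫ a) (k ≫ b) :=
  ⟨by have h1 := h.1; simp only [Category.assoc, Functor.map_comp] at h1 ⊢; rw [h1],
    fun T'' k' y => by simp only [← Category.assoc]; exact h.2 T'' (k' ≫ k) y⟩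

theorem Rel.mem {T : Over S} {a b : T ⟶ P.V} (h : P.Rel a b) {y : T ⟶ U} (hy : P.Mem y a) :
    P.Mem y b := by
  have := (h.2 T (𝟙 T) y).1 (by rwa [Category.id_comp])
  rwa [Category.id_comp] at this

theorem flat_xV (hp : RepWith (@Flat ⊓ @LocallyOfFinitePresentation) p) : Flat P.xV.left :=
  (hp.2 _ _ _ P.sq).1

theorem lfp_xV (hp : RepWith (@Flat ⊓ @LocallyOfFinitePresentation) p) :
    LocallyOfFinitePresentation P.xV.left :=
  (hp.2 _ _ _ P.sq).2

/-- The piece as a scheme over `S`. -/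
noncomputable def Z : Over S := Over.mk (P.W.ι ≫ P.X.hom)

/-- The inclusion of the piece. -/
noncomputable def incl : P.Z ⟶ P.X := Over.homMk P.W.ι rfl

/-- The projection of the piece to `U`. -/
noncomputable def zU : P.Z ⟶ U := P.incl ≫ P.xU

/-- The projection of the piece to `V`. -/
noncomputable def zV : P.Z ⟶ P.V := P.incl ≫ P.xV

theorem mem_zU_zV : P.Mem P.zU P.zV := ⟨P.incl, rfl, rfl, fun t => t.2⟩

theorem mem_iff {T : Over S} (y : T ⟶ U) (v : T ⟶ P.V) :
    P.Mem y v ↔ ∃ z : T ⟶ P.Z, z ≫ P.zU = y ∧ z ≫ P.zV = v := by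
  refine ⟨fun ⟨x, h1, h2, h3⟩ => ?_, fun ⟨z, h1, h2⟩ => ?_⟩
  · have hr : Set.range x.left ⊆ Set.range P.W.ι := by
      rw [Scheme.Opens.range_ι]; rintro _ ⟨t, rfl⟩; exact h3 t
    let z : T ⟶ P.Z := Over.homMk (IsOpenImmersion.lift P.W.ι x.left hr) (by
      change IsOpenImmersion.lift P.W.ι x.left hr ≫ P.W.ι ≫ P.X.hom = _
      rw [IsOpenImmersion.lift_fac_assoc, Over.w])
    have e : z ≫ P.incl = x := Over.OverMorphism.ext (IsOpenImmersion.lift_fac _ _ _)
    exact ⟨z, by rw [zU, reassoc_of% e, h1], by rw [zV, reassoc_of% e, h2]⟩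
  · subst h1 h2
    exact P.mem_zU_zV.map P z

theorem z_hom_ext {T : Over S} {a b : T ⟶ P.Z} (h1 : a ≫ P.zU = b ≫ P.zU) (h2 : a ≫ P.zV = b ≫ P.zV) :
    a = b := by
  have e : a ≫ P.incl = b ≫ P.incl := (yon S).map_injective (P.sq.hom_ext
    (by simp only [← Functor.map_comp, Category.assoc]; exact congrArg (yon S).map h1)
    (by simp only [← Functor.map_comp, Category.assoc]; exact congrArg (yon S).map h2))
  apply Over.OverMorphism.ext
  exact (cancel_mono P.W.ι).1 (congrArg (fun k : T ⟶ P.X => k.left) e)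

theorem zV_props (hp : RepWith (@Flat ⊓ @LocallyOfFinitePresentation) p) :
    IsFinite P.zV.left ∧ Flat P.zV.left ∧ LocallyOfFinitePresentation P.zV.left := by
  have := P.flat_xV hp
  have := P.lfp_xV hp
  exact ⟨P.fin, inferInstanceAs (Flat (P.W.ι ≫ P.xV.left)),
    inferInstanceAs (LocallyOfFinitePresentation (P.W.ι ≫ P.xV.left))⟩

theorem isClopenMap_of_finite {A B : Scheme.{u}} (g : A ⟶ B) [IsFinite g] [Flat g]
    [LocallyOfFinitePresentation g] {s : Set A} (h : IsClopen s) : IsClopen (g '' s) :=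
  ⟨g.isClosedMap _ h.1, g.isOpenMap _ h.2⟩

variable [U.left.IsSeparated]

/-- The locus where two points of `V` have the same piece is open and closed. -/
theorem exists_locus (hp : RepWith (@Flat ⊓ @LocallyOfFinitePresentation) p) {T : Over S}
    (a b : T ⟶ P.V) (hab : (yon S).map (a ≫ P.f) ≫ p = (yon S).map (b ≫ P.f) ≫ p) :
    ∃ C : T.left.Opens, IsClopen (C : Set T.left) ∧
      ∀ (T' : Over S) (k : T' ⟶ T), P.Rel (k ≫ a) (k ≫ b) ↔ ∀ t, k.left t ∈ C := by
  obtain ⟨XT, tU, tT, sT⟩ := exists_pullback_yon hp.1 ((yon S).map (a ≫ P.f) ≫ p)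
  have hwa : (yon S).map tU ≫ p = (yon S).map (tT ≫ a) ≫ (yon S).map P.f ≫ p := by
    rw [sT.w]; simp only [Functor.map_comp, Category.assoc]
  have hwb : (yon S).map tU ≫ p = (yon S).map (tT ≫ b) ≫ (yon S).map P.f ≫ p := by
    rw [sT.w, hab]; simp only [Functor.map_comp, Category.assoc]
  obtain ⟨ma, hma1, hma2⟩ := P.sq.exists_lift _ _ hwa
  obtain ⟨mb, hmb1, hmb2⟩ := P.sq.exists_lift _ _ hwb
  obtain ⟨ma, rfl⟩ := (yon S).map_surjective ma
  obtain ⟨mb, rfl⟩ := (yon S).map_surjective mb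
  rw [← Functor.map_comp] at hma1 hma2 hmb1 hmb2
  replace hma1 := (yon S).map_injective hma1
  replace hma2 := (yon S).map_injective hma2
  replace hmb1 := (yon S).map_injective hmb1
  replace hmb2 := (yon S).map_injective hmb2
  have := isSeparated_snd sT
  have : Flat tT.left := (hp.2 _ _ _ sT).1
  have : LocallyOfFinitePresentation tT.left := (hp.2 _ _ _ sT).2
  -- both pulled back pieces are finite over `T`
  have hfin : ∀ (c : T ⟶ P.V) (m : XT ⟶ P.X), m ≫ P.xU = tU → m ≫ P.xV = tT ≫ c →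
      (yon S).map (c ≫ P.f) ≫ p = (yon S).map (a ≫ P.f) ≫ p →
      IsFinite ((m.left ⁻¹ᵁ P.W).ι ≫ tT.left) := by
    intro c m h1 h2 hc
    have s1 : IsPullback ((yon S).map m) ((yon S).map tT) ((yon S).map P.xV) ((yon S).map c) := by
      refine IsPullback.of_right ?_ (by rw [← Functor.map_comp, ← Functor.map_comp, h2]) P.sq
      rw [← Functor.map_comp, h1, ← Category.assoc, ← Functor.map_comp, hc]
      exact sT
    have s2 : IsPullback m.left tT.left P.xV.left c.left :=
      isPullback_map_left (IsPullback.of_map (yon S) h2 s1)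
    exact MorphismProperty.of_isPullback (P := @IsFinite)
      ((isPullback_morphismRestrict m.left P.W).paste_vert s2) P.fin
  let A := ma.left ⁻¹ᵁ P.W
  let B := mb.left ⁻¹ᵁ P.W
  have hA : IsFinite (A.ι ≫ tT.left) := hfin a ma hma1 hma2 rfl
  have hB : IsFinite (B.ι ≫ tT.left) := hfin b mb hmb1 hmb2 hab.symm
  have hclosed : ∀ O : XT.left.Opens, IsFinite (O.ι ≫ tT.left) → IsClosed (O : Set XT.left) := by
    intro O hO
    have : IsProper O.ι := IsProper.of_comp O.ι tT.left
    rw [← Scheme.Opens.range_ι]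
    exact O.ι.isClosedMap.isClosed_range
  have hdiff : ∀ O O' : XT.left.Opens, IsFinite (O.ι ≫ tT.left) → IsFinite (O'.ι ≫ tT.left) →
      IsClopen (tT.left '' ((O : Set XT.left) \ O')) := by
    intro O O' hO hO'
    have : Flat (O.ι ≫ tT.left) := inferInstance
    have : LocallyOfFinitePresentation (O.ι ≫ tT.left) := inferInstance
    have e : tT.left '' ((O : Set XT.left) \ O') = (O.ι ≫ tT.left) '' (O.ι ⁻¹' (O' : Set XT.left))ᶜ := by
      ext t
      constructor
      · rintro ⟨q, ⟨h1, h2⟩, rfl⟩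
        exact ⟨⟨q, h1⟩, h2, rfl⟩
      · rintro ⟨q, h, rfl⟩
        exact ⟨q.1, ⟨q.2, h⟩, rfl⟩
    rw [e]
    exact isClopenMap_of_finite _ (IsClopen.compl
      ⟨(hclosed O' hO').preimage O.ι.continuous, O'.2.preimage O.ι.continuous⟩)
  let D : Set T.left := tT.left '' ((A : Set XT.left) \ B) ∪ tT.left '' ((B : Set XT.left) \ A)
  have hD : IsClopen D := (hdiff A B hA hB).union (hdiff B A hB hA)
  refine ⟨⟨Dᶜ, hD.compl.2⟩, hD.compl, fun T' k => ⟨fun hk t ht => ?_, fun hk => ⟨?_, fun T'' k' y => ?_⟩⟩⟩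
  · -- necessity
    have key : ∀ (q : XT.left) (c c' : T ⟶ P.V) (m m' : XT ⟶ P.X), m ≫ P.xU = tU → m ≫ P.xV = tT ≫ c →
        m' ≫ P.xU = tU → m' ≫ P.xV = tT ≫ c' → m.left q ∈ P.W → m'.left q ∉ P.W → tT.left q = k.left t →
        ¬ (∀ (T'' : Over S) (k' : T'' ⟶ T') (y : T'' ⟶ U), P.Mem y (k' ≫ k ≫ c) → P.Mem y (k' ≫ k ≫ c')) := by
      intro q c c' m m' h1 h2 h1' h2' hq hq' hqt hmem
      obtain ⟨w, hw1, hw2⟩ := Scheme.Pullback.exists_preimage_pullback q t hqt
      let O : (pullback tT.left k.left).Opens := (pullback.fst tT.left k.left) ⁻¹ᵁ (m.left ⁻¹ᵁ P.W)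
      let T'' : Over S := Over.mk (O.ι ≫ pullback.snd tT.left k.left ≫ T'.hom)
      let k' : T'' ⟶ T' := Over.homMk (O.ι ≫ pullback.snd tT.left k.left) (by simp [T''])
      let x : T'' ⟶ XT := Over.homMk (O.ι ≫ pullback.fst tT.left k.left) (by
        rw [Category.assoc, ← Over.w tT, pullback.condition_assoc, Over.w k]; rfl)
      have hxk : x ≫ tT = k' ≫ k := Over.OverMorphism.ext (by
        simp only [Over.comp_left, x, k', Over.homMk_left, Category.assoc, pullback.condition])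
      obtain ⟨x', e1, e2, e3⟩ := hmem T'' k' (x ≫ tU) ⟨x ≫ m, by rw [Category.assoc, h1],
        by rw [Category.assoc, h2, reassoc_of% hxk], fun t => t.2⟩
      have hx' : x' = x ≫ m' := (yon S).map_injective (P.sq.hom_ext
        (by rw [← Functor.map_comp, ← Functor.map_comp, e1, Category.assoc, h1'])
        (by rw [← Functor.map_comp, ← Functor.map_comp, e2, Category.assoc, h2', reassoc_of% hxk]))
      let wO : ↥O := ⟨w, show m.left ((pullback.fst tT.left k.left) w) ∈ P.W by rw [hw1]; exact hq⟩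
      have := e3 wO
      rw [hx'] at this
      exact hq' (by rw [← hw1]; exact this)
    rcases ht with ⟨q, ⟨hqA, hqB⟩, hqt⟩ | ⟨q, ⟨hqB, hqA⟩, hqt⟩
    · exact key q a b ma mb hma1 hma2 hmb1 hmb2 hqA hqB hqt fun T'' k' y h => (hk.2 T'' k' y).1 h
    · exact key q b a mb ma hmb1 hmb2 hma1 hma2 hqB hqA hqt fun T'' k' y h => (hk.2 T'' k' y).2 h
  · simp only [Category.assoc, Functor.map_comp] at hab ⊢
    rw [hab]
  · have key : ∀ (c c' : T ⟶ P.V) (m m' : XT ⟶ P.X), m ≫ P.xU = tU → m ≫ P.xV = tT ≫ c →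
        m' ≫ P.xU = tU → m' ≫ P.xV = tT ≫ c' →
        (∀ q, tT.left q ∉ D → m.left q ∈ P.W → m'.left q ∈ P.W) →
        (yon S).map (c ≫ P.f) ≫ p = (yon S).map (a ≫ P.f) ≫ p →
        P.Mem y (k' ≫ k ≫ c) → P.Mem y (k' ≫ k ≫ c') := by
      intro c c' m m' h1 h2 h1' h2' hsub hc hy
      have hyF := hy.eq_F P
      obtain ⟨x', e1, e2⟩ := sT.exists_lift ((yon S).map y) ((yon S).map (k' ≫ k)) (by
        rw [hyF, ← hc]; simp only [Functor.map_comp, Category.assoc])
      obtain ⟨x', rfl⟩ := (yon S).map_surjective x'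
      rw [← Functor.map_comp] at e1 e2
      replace e1 := (yon S).map_injective e1
      replace e2 := (yon S).map_injective e2
      obtain ⟨x, f1, f2, f3⟩ := hy
      have hx : x = x' ≫ m := (yon S).map_injective (P.sq.hom_ext
        (by rw [← Functor.map_comp, ← Functor.map_comp, f1, Category.assoc, h1, e1])
        (by rw [← Functor.map_comp, ← Functor.map_comp, f2, Category.assoc, h2, reassoc_of% e2]))
      refine ⟨x' ≫ m', by rw [Category.assoc, h1', e1], by rw [Category.assoc, h2', reassoc_of% e2],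
        fun t => hsub (x'.left t) ?_ ?_⟩
      · have : tT.left (x'.left t) = k.left (k'.left t) :=
          congrArg (fun g : T'' ⟶ T => g.left t) e2
        rw [this]
        exact hk _
      · have := f3 t
        rw [hx] at this
        exact this
    constructor
    · exact key a b ma mb hma1 hma2 hmb1 hmb2
        (fun q hq h => by_contra fun h' => hq (Or.inl ⟨q, ⟨h, h'⟩, rfl⟩)) rfl
    · exact key b a mb ma hmb1 hmb2 hma1 hma2
        (fun q hq h => by_contra fun h' => hq (Or.inr ⟨q, ⟨h, h'⟩, rfl⟩)) hab.symm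

end Pc

end Groth.Agent.AlgSpB.Art
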