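import Groth.Agent.AlgSp.QCMor
import Groth.Agent.AlgSpB.Open
import Groth.Agent.AlgSp.PointsMor
import Groth.Agent.AlgSpB.Charts
import Groth.Agent.AlgSpB.Points
import Groth.Prelude.Def_AlgSp4
import Mathlib.AlgebraicGeometry.AffineSpace
import Mathlib.AlgebraicGeometry.Morphisms.Affine
import Mathlib.AlgebraicGeometry.ResidueField

/-!
# Universal closedness of quasi-compact morphisms is tested on affine spaces
-/

universe u

open CategoryTheory CategoryTheory.Limits AlgebraicGeometry Opposite Topology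

set_option backward.isDefEq.respectTransparency false
set_option backward.isDefEq.respectTransparency.types false
set_option autoImplicit false

namespace Groth.Agent.AlgSpB.Art

open _root_.AlgSp

/-- In a pushout of commutative rings every element is a sum of products. -/
theorem span_products_eq_top {A B R C : CommRingCat.{u}} {g : A ⟶ B} {k : A ⟶ R} {α : B ⟶ C} {β : R ⟶ C}
    (h : IsPushout g k α β) (c : C) :
    c ∈ AddSubgroup.closure {x : C | ∃ b r, x = α b * β r} := by
  let P : Set C := {x : C | ∃ b r, x = α b * β r}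
  let M : Submonoid C :=
    { carrier := P
      one_mem' := ⟨1, 1, by simp⟩
      mul_mem' := by
        rintro _ _ ⟨b, r, rfl⟩ ⟨b', r', rfl⟩
        exact ⟨b * b', r * r', by rw [map_mul, map_mul]; ring⟩ }
  let Z : Subring C := Subring.closure P
  let α' : B ⟶ CommRingCat.of Z := CommRingCat.ofHom (α.hom.codRestrict Z fun b =>
    Subring.subset_closure ⟨b, 1, by simp⟩)
  let β' : R ⟶ CommRingCat.of Z := CommRingCat.ofHom (β.hom.codRestrict Z fun r =>
    Subring.subset_closure ⟨1, r, by simp⟩)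
  let ι : CommRingCat.of Z ⟶ C := CommRingCat.ofHom Z.subtype
  have hw : g ≫ α' = k ≫ β' := CommRingCat.hom_ext (RingHom.ext fun a => Subtype.ext (ConcreteCategory.congr_hom h.w a))
  have hid : h.desc α' β' hw ≫ ι = 𝟙 C := by
    apply h.hom_ext
    · rw [h.inl_desc_assoc]; rfl
    · rw [h.inr_desc_assoc]; rfl
  have hc : c ∈ Z := by
    have := (h.desc α' β' hw c).2
    rwa [show ((h.desc α' β' hw c : Z) : C) = c from ConcreteCategory.congr_hom hid c] at this
  have := (Subring.mem_closure_iff.1 hc)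
  rwa [show (Submonoid.closure P : Set C) = P from congrArg SetLike.coe M.closure_eq] at this

/-- Vanishing loci in the residue fields. -/
theorem notMem_basicOpen_iff {X : Scheme.{u}} (x : X) (s : Γ(X, ⊤)) :
    x ∉ X.basicOpen s ↔ X.Γevaluation x s = 0 :=
  (X.evaluation_eq_zero_iff_notMem_basicOpen (U := ⊤) x trivial s).symm

variable {S : Scheme.{u}}

/-- Closedness after every base change to an affine scheme over `V` follows from closedness over affine spaces. -/
theorem isClosedMap_of_affineSpace {X Y : Sp S} (hX : IsAlgSpace X) (hY : IsAlgSpace Y) (f : X ⟶ Y)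
    (hf : IsQuasiCompactMor f) {V : Over S} [IsAffine V.left] (b : (yon S).obj V ⟶ Y)
    (H : ∀ n : ℕ, IsClosedMap (Points.map (pullback.snd f ((yon S).map
      (Over.homMk (𝔸(ULift.{u} (Fin n); V.left) ↘ V.left) :
        Over.mk ((𝔸(ULift.{u} (Fin n); V.left) ↘ V.left) ≫ V.hom) ⟶ V) ≫ b))))
    {Z : Over S} [IsAffine Z.left] (k : Z ⟶ V) :
    IsClosedMap (Points.map (pullback.snd f ((yon S).map k ≫ b))) := by
  intro C hC
  -- an affine chart of `X ×_Y V`
  have := Groth.Agent.AlgSpB.compactSpace_points_of_isQuasiCompactSp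
    (hf (IsAlgSpace.yon_obj V) (Groth.Agent.AlgSp.isQuasiCompactSp_yon V) b _ _ (IsPullback.of_hasPullback f b))
  obtain ⟨T₀, a₀, ha₀, has₀⟩ := (Groth.Agent.AlgSp.isAlgSpace_pullback hY hX (IsAlgSpace.yon_obj V) f b).atlas
  obtain ⟨T, e, hT, ha, has⟩ := Groth.Agent.AlgSpB.exists_affine_chart_of_compactSpace ha₀ has₀
  generalize (yon S).map e ≫ a₀ = a at ha has
  obtain ⟨q, hq⟩ := (yon S).map_surjective (a ≫ pullback.snd f b)
  -- the chart pulled back along a morphism to `V`
  have hbc : ∀ {W : Over S} (w : W ⟶ V), ∃ (u : pullback f ((yon S).map w ≫ b) ⟶ pullback f b)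
      (aW : (yon S).obj (pullback q w) ⟶ pullback f ((yon S).map w ≫ b)),
      u ≫ pullback.fst f b = pullback.fst f ((yon S).map w ≫ b) ∧
      u ≫ pullback.snd f b = pullback.snd f ((yon S).map w ≫ b) ≫ (yon S).map w ∧
      aW ≫ pullback.snd f ((yon S).map w ≫ b) = (yon S).map (pullback.snd q w) ∧
      IsPullback ((yon S).map (pullback.fst q w)) aW a u := by
    intro W w
    let u := pullback.lift (pullback.fst f ((yon S).map w ≫ b))
      (pullback.snd f ((yon S).map w ≫ b) ≫ (yon S).map w) (by rw [Category.assoc]; exact pullback.condition)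
    have hu1 : u ≫ pullback.fst f b = pullback.fst f ((yon S).map w ≫ b) := pullback.lift_fst _ _ _
    have hu2 : u ≫ pullback.snd f b = pullback.snd f ((yon S).map w ≫ b) ≫ (yon S).map w := pullback.lift_snd _ _ _
    have squ : IsPullback u (pullback.snd f ((yon S).map w ≫ b)) (pullback.snd f b) ((yon S).map w) :=
      IsPullback.of_right (by rw [hu1]; exact IsPullback.of_hasPullback f ((yon S).map w ≫ b)) hu2
        (IsPullback.of_hasPullback f b)
    have sqT := (IsPullback.of_hasPullback q w).map (yon S)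
    rw [hq] at sqT
    let aW := squ.lift ((yon S).map (pullback.fst q w) ≫ a) ((yon S).map (pullback.snd q w))
      (by rw [Category.assoc]; exact sqT.w)
    refine ⟨u, aW, hu1, hu2, squ.lift_snd _ _ _, IsPullback.of_bot ?_ (squ.lift_fst _ _ _).symm squ⟩
    rw [squ.lift_snd]
    exact sqT
  have haff : ∀ {W : Over S} (w : W ⟶ V) [IsAffine W.left], IsAffine (pullback q w).left := fun {W} w _ =>
    haveI : IsAffine ((Over.forget S).obj T) := hT
    haveI : IsAffineHom ((Over.forget S).map w) := isAffineHom_of_isAffine (X := W.left) (Y := V.left) w.left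
    IsAffine.of_isPullback ((IsPullback.of_hasPullback q w).map (Over.forget S))
  obtain ⟨uZ, aZ, hZ1, hZ2, hZ3, sqZ⟩ := hbc k
  have : IsAffine (pullback q k).left := haff k
  let TZ : Scheme.{u} := (pullback q k).left
  let π : TZ ⟶ Z.left := (pullback.snd q k).left
  have haZs : RepWith @Surjective aZ := MorphismProperty.of_isPullback sqZ has
  let CT : Set TZ := Points.ofPt aZ ⁻¹' C
  have hCT : IsClosed CT := hC.preimage (Points.continuous_ofPt aZ)
  refine (Points.schemeHomeo Z).isClosed_preimage.1 (isOpen_compl_iff.1 (isOpen_iff_forall_mem_open.2 fun z hz => ?_))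
  have hzC : ∀ t ∈ CT, π t ≠ z := fun t ht h => hz ⟨_, ht, by
    rw [Points.map_ofPt, hZ3, Points.ofPt_eq_map_ofScheme]
    exact (Points.map_yon_map_apply (pullback.snd q k) t).trans (by rw [h])⟩
  -- the finitely many functions
  let R := Γ(Z.left, ⊤)
  let Cr := Γ(TZ, ⊤)
  let β : R →+* Cr := π.appTop.hom
  let α : Γ(T.left, ⊤) →+* Cr := (pullback.fst q k).left.appTop.hom
  let J : Ideal Cr := ⨅ t ∈ CT, RingHom.ker (TZ.Γevaluation t).hom
  let p : Ideal R := RingHom.ker (Z.left.Γevaluation z).hom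
  have : p.IsPrime := RingHom.ker_isPrime _
  have hJ : ∀ s : Cr, s ∈ J ↔ ∀ t ∈ CT, t ∉ TZ.basicOpen s := fun s => by
    simp only [J, Ideal.mem_iInf, RingHom.mem_ker, notMem_basicOpen_iff]
    rfl
  obtain ⟨r, hr, hrJ⟩ : ∃ r, r ∉ p ∧ β r ∈ J ⊔ p.map β := by
    by_contra hne
    push Not at hne
    have hd : Disjoint ((J ⊔ p.map β : Ideal Cr) : Set Cr) (Submonoid.map β p.primeCompl : Submonoid Cr) :=
      Set.disjoint_right.2 (by rintro _ ⟨r, hr, rfl⟩; exact hne r hr)
    obtain ⟨Q, hQ, hle, hdis⟩ := Ideal.exists_le_prime_disjoint _ _ hd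
    have hA : IsAffineOpen (⊤ : TZ.Opens) := isAffineOpen_top TZ
    let x : TZ := hA.fromSpec ⟨Q, hQ⟩
    have hx : ∀ s : Cr, x ∈ TZ.basicOpen s ↔ s ∉ Q := fun s => by
      change (⟨Q, hQ⟩ : PrimeSpectrum Cr) ∈ hA.fromSpec ⁻¹ᵁ TZ.basicOpen s ↔ _
      rw [hA.fromSpec_preimage_basicOpen]
      rfl
    have hxC : x ∈ CT := by
      by_contra hxC
      obtain ⟨_, ⟨_, ⟨s, rfl⟩, rfl⟩, hxs, hs⟩ := (isBasis_basicOpen TZ).exists_subset_of_mem_open hxC hCT.isOpen_compl
      exact (hx s).1 hxs (hle (Ideal.mem_sup_left ((hJ s).2 fun t ht hts => hs hts ht)))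
    refine hzC x hxC ?_
    have key : ∀ r : R, π x ∈ Z.left.basicOpen r ↔ z ∈ Z.left.basicOpen r := fun r => by
      have h1 : π x ∈ Z.left.basicOpen r ↔ β r ∉ Q := by
        rw [← hx]
        change x ∈ π ⁻¹ᵁ Z.left.basicOpen r ↔ _
        rw [Scheme.preimage_basicOpen_top]
      have h2 : z ∈ Z.left.basicOpen r ↔ r ∉ p := by
        rw [← not_iff_not, not_not, notMem_basicOpen_iff]; rfl
      rw [h1, h2]
      exact not_congr ⟨fun h => by_contra fun hr => Set.disjoint_left.1 hdis h ⟨r, hr, rfl⟩,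
        fun h => hle (Ideal.mem_sup_right (Ideal.mem_map_of_mem β h))⟩
    refine ((isBasis_basicOpen Z.left).inseparable_iff.2 ?_).eq
    rintro _ ⟨_, ⟨r, rfl⟩, rfl⟩
    exact key r
  obtain ⟨j, hj, c, hc, hjc⟩ := Submodule.mem_sup.1 hrJ
  -- `c` is a finite sum of products
  have hc' : ∃ (n : ℕ) (p' : Fin n → R) (b' : Fin n → Γ(T.left, ⊤)),
      (∀ i, p' i ∈ p) ∧ c = ∑ i, β (p' i) * α (b' i) := by
    have : IsAffine ((Over.forget S).obj T) := hT
    have : IsAffine ((Over.forget S).obj Z) := ‹IsAffine Z.left›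
    have : IsAffine ((Over.forget S).obj V) := ‹IsAffine V.left›
    have hpo := isPushout_appTop_of_isPullback ((IsPullback.of_hasPullback q k).map (Over.forget S))
    have hgen : c ∈ AddSubgroup.closure {x : Cr | ∃ p₀ ∈ p, ∃ b₀, x = β p₀ * α b₀} := by
      refine Submodule.span_induction (p := fun c _ => c ∈ AddSubgroup.closure {x : Cr | ∃ p₀ ∈ p, ∃ b₀, x = β p₀ * α b₀})
        ?_ (zero_mem _) (fun _ _ _ _ => add_mem) (fun s c hmem hc => ?_) hc
      · rintro _ ⟨p₀, hp₀, rfl⟩
        exact AddSubgroup.subset_closure ⟨p₀, hp₀, 1, by rw [map_one, mul_one]⟩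
      · clear hmem
        induction span_products_eq_top hpo s using AddSubgroup.closure_induction with
        | zero => rw [zero_smul]; exact zero_mem _
        | add _ _ _ _ h1 h2 => rw [add_smul]; exact add_mem h1 h2
        | neg _ _ h1 => rw [neg_smul]; exact neg_mem h1
        | mem x hx =>
          obtain ⟨b₁, r₁, rfl⟩ := hx
          induction hc using AddSubgroup.closure_induction with
          | zero => rw [smul_zero]; exact zero_mem _
          | add _ _ _ _ h1 h2 => rw [smul_add]; exact add_mem h1 h2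
          | neg _ _ h1 => rw [smul_neg]; exact neg_mem h1
          | mem y hy =>
            obtain ⟨p₀, hp₀, b₀, rfl⟩ := hy
            let r₁' : R := r₁
            let b₁' : Γ(T.left, ⊤) := b₁
            refine AddSubgroup.subset_closure ⟨r₁' * p₀, p.mul_mem_left _ hp₀, b₁' * b₀, ?_⟩
            change (α b₁' * β r₁') * (β p₀ * α b₀) = _
            rw [map_mul, map_mul]; ring
    clear hjc hc
    induction hgen using AddSubgroup.closure_induction with
    | zero => exact ⟨0, Fin.elim0, Fin.elim0, fun i => i.elim0, by simp⟩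
    | mem x hx =>
      obtain ⟨p₀, hp₀, b₀, rfl⟩ := hx
      exact ⟨1, fun _ => p₀, fun _ => b₀, fun _ => hp₀, by simp⟩
    | add x y _ _ hx hy =>
      obtain ⟨n, p₁, b₁, h₁, rfl⟩ := hx
      obtain ⟨m, p₂, b₂, h₂, rfl⟩ := hy
      exact ⟨n + m, Fin.append p₁ p₂, Fin.append b₁ b₂, fun i => by cases i using Fin.addCases <;> simp [h₁, h₂],
        by simp [Fin.sum_univ_add]⟩
    | neg x _ hx =>
      obtain ⟨n, p₁, b₁, h₁, rfl⟩ := hx
      exact ⟨n, fun i => -p₁ i, b₁, fun i => neg_mem (h₁ i), by simp [Finset.sum_neg_distrib]⟩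
  obtain ⟨n, p', b', hp', hcsum⟩ := hc'
  -- the point of the affine space
  let pn : Over.mk ((𝔸(ULift.{u} (Fin (n + 1)); V.left) ↘ V.left) ≫ V.hom) ⟶ V := Over.homMk (𝔸(ULift.{u} (Fin (n + 1)); V.left) ↘ V.left)
  let v : ULift.{u} (Fin (n + 1)) → R := fun i => Fin.cons (α := fun _ => R) r p' i.down
  let φ : Z ⟶ Over.mk ((𝔸(ULift.{u} (Fin (n + 1)); V.left) ↘ V.left) ≫ V.hom) :=
    Over.homMk (AffineSpace.homOfVector k.left v) (by
      change _ ≫ _ ≫ V.hom = _
      rw [AffineSpace.homOfVector_over_assoc, Over.w k])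
  have hφ : φ ≫ pn = k := Over.OverMorphism.ext (AffineSpace.homOfVector_over _ _)
  have : IsAffine (Over.mk ((𝔸(ULift.{u} (Fin (n + 1)); V.left) ↘ V.left) ≫ V.hom)).left :=
    inferInstanceAs (IsAffine 𝔸(ULift.{u} (Fin (n + 1)); V.left))
  obtain ⟨uN, aN, hN1, hN2, hN3, sqN⟩ := hbc pn
  have : IsAffine (pullback q pn).left := haff pn
  let TN : Scheme.{u} := (pullback q pn).left
  let κT : pullback q k ⟶ pullback q pn := pullback.lift (pullback.fst q k) (pullback.snd q k ≫ φ)
    (by rw [Category.assoc, hφ]; exact pullback.condition)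
  let κP : pullback f ((yon S).map k ≫ b) ⟶ pullback f ((yon S).map pn ≫ b) :=
    pullback.lift (pullback.fst _ _) (pullback.snd _ _ ≫ (yon S).map φ)
      (by rw [Category.assoc, ← Functor.map_comp_assoc, hφ]; exact pullback.condition)
  have hκu : κP ≫ uN = uZ := by
    apply pullback.hom_ext
    · rw [Category.assoc, hN1, hZ1]; exact pullback.lift_fst _ _ _
    · rw [Category.assoc, hN2, hZ2, ← Category.assoc, pullback.lift_snd, Category.assoc, ← Functor.map_comp, hφ]
  have hκa : (yon S).map κT ≫ aN = aZ ≫ κP := by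
    apply pullback.hom_ext
    · rw [Category.assoc, Category.assoc, pullback.lift_fst, ← hN1, ← hZ1, reassoc_of% sqN.w.symm,
        reassoc_of% sqZ.w.symm, ← Functor.map_comp_assoc, pullback.lift_fst]
    · rw [Category.assoc, Category.assoc, pullback.lift_snd, hN3, ← Category.assoc, hZ3, ← Functor.map_comp,
        ← Functor.map_comp, pullback.lift_snd]
  have sqκ : IsPullback ((yon S).map κT) aZ aN κP := by
    refine IsPullback.of_right ?_ hκa sqN
    rw [← Functor.map_comp, pullback.lift_fst, hκu]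
    exact sqZ
  have haN : RepWith @Etale aN := MorphismProperty.of_isPullback sqN ha
  have haNs : RepWith @Surjective aN := MorphismProperty.of_isPullback sqN has
  let x₀ : Γ(TN, ⊤) := (pullback.snd q pn).left.appTop (AffineSpace.coord V.left ⟨0⟩) -
    ∑ i, (pullback.snd q pn).left.appTop (AffineSpace.coord V.left ⟨i.succ⟩) * (pullback.fst q pn).left.appTop (b' i)
  have hcoord : ∀ i, κT.left.appTop ((pullback.snd q pn).left.appTop (AffineSpace.coord V.left i)) = β (v i) := fun i => by
    rw [← CommRingCat.comp_apply, ← Scheme.Hom.comp_appTop, ← Over.comp_left, pullback.lift_snd, Over.comp_left,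
      Scheme.Hom.comp_appTop, CommRingCat.comp_apply]
    exact congrArg π.appTop (AffineSpace.homOfVector_appTop_coord _ _ _)
  have hfst : ∀ s, κT.left.appTop ((pullback.fst q pn).left.appTop s) = α s := fun s => by
    rw [← CommRingCat.comp_apply, ← Scheme.Hom.comp_appTop, ← Over.comp_left, pullback.lift_fst]
  have hx₀ : κT.left.appTop x₀ ∈ J := by
    simp only [x₀, map_sub, map_sum, map_mul, hcoord, hfst]
    have e : β (v ⟨0⟩) - ∑ i, β (v ⟨i.succ⟩) * α (b' i) = j := by
      simp only [v, Fin.cons_zero, Fin.cons_succ]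
      rw [← hjc, hcsum]; abel
    rw [e]; exact hj
  let C₀ : Set (Points (pullback f ((yon S).map pn ≫ b))) := closure (Points.map κP '' C)
  have hsub : Points.ofPt aN ⁻¹' C₀ ⊆ ((TN.basicOpen x₀ : Set TN))ᶜ := by
    rw [(Groth.Agent.AlgSpB.isOpenMap_ofPt haN).preimage_closure_eq_closure_preimage (Points.continuous_ofPt aN)]
    refine closure_minimal ?_ (TN.basicOpen x₀).isOpen.isClosed_compl
    rintro t₀ ⟨c₀, hc₀, hct⟩
    obtain ⟨w, hw1, hw2⟩ := Groth.Agent.AlgSpB.exists_of_isPullback sqκ (Points.schemeHomeo _ t₀) c₀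
      ((Points.ofPt_eq_map_ofScheme aN t₀).symm.trans hct.symm)
    obtain ⟨t, rfl⟩ := (Points.schemeHomeo (pullback q k)).surjective w
    have ht : Points.ofPt aZ t = c₀ := by rw [Points.ofPt_eq_map_ofScheme]; exact hw2
    rw [Points.map_yon_map_apply] at hw1
    rw [← (Points.schemeHomeo _).injective hw1]
    intro hmem
    refine (hJ _).1 hx₀ t (show Points.ofPt aZ t ∈ C by rw [ht]; exact hc₀) ?_
    exact (Scheme.preimage_basicOpen_top κT.left x₀).le hmem
  have hE : IsClosed (Points.schemeHomeo _ ⁻¹' (Points.map (pullback.snd f ((yon S).map pn ≫ b)) '' C₀)) :=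
    (Points.schemeHomeo _).isClosed_preimage.2 (H (n + 1) _ isClosed_closure)
  refine ⟨φ.left ⁻¹' (Points.schemeHomeo _ ⁻¹' (Points.map (pullback.snd f ((yon S).map pn ≫ b)) '' C₀))ᶜ,
    fun z' hz' => ?_, hE.isOpen_compl.preimage φ.left.continuous, ?_⟩
  · rintro ⟨c₀, hc₀, hcz⟩
    refine hz' ⟨Points.map κP c₀, subset_closure ⟨c₀, hc₀, rfl⟩, ?_⟩
    rw [← Points.map_comp, pullback.lift_snd, Points.map_comp, hcz]
    exact Points.map_yon_map_apply φ z'
  · rintro ⟨c₀, hc₀, hcz⟩
    obtain ⟨t₀, rfl⟩ := Groth.Agent.AlgSpB.surjective_ofPt haNs c₀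
    rw [Points.map_ofPt, hN3, Points.ofPt_eq_map_ofScheme] at hcz
    have hz₀ : (pullback.snd q pn).left t₀ = φ.left z :=
      (Points.schemeHomeo _).injective ((Points.map_yon_map_apply (pullback.snd q pn) t₀).symm.trans hcz)
    refine hsub hc₀ ?_
    have hev : ∀ i, (pullback.snd q pn).left t₀ ∈ (𝔸(ULift.{u} (Fin (n + 1)); V.left)).basicOpen (AffineSpace.coord V.left i) ↔
        z ∈ Z.left.basicOpen (v i) := fun i => by
      rw [hz₀]
      change z ∈ (AffineSpace.homOfVector k.left v) ⁻¹ᵁ (𝔸(ULift.{u} (Fin (n + 1)); V.left)).basicOpen (AffineSpace.coord V.left i) ↔ _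
      rw [Scheme.preimage_basicOpen_top]
      exact Iff.of_eq (congrArg (fun s => z ∈ Z.left.basicOpen s) (AffineSpace.homOfVector_appTop_coord _ _ _))
    have hev' : ∀ i, TN.Γevaluation t₀ ((pullback.snd q pn).left.appTop (AffineSpace.coord V.left i)) = 0 ↔
        v i ∈ p := fun i => by
      rw [← notMem_basicOpen_iff, ← Scheme.preimage_basicOpen_top]
      exact (not_congr (hev i)).trans (notMem_basicOpen_iff _ _)
    change t₀ ∈ TN.basicOpen x₀
    by_contra hh
    rw [notMem_basicOpen_iff] at hh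
    simp only [x₀, map_sub, map_sum, map_mul] at hh
    rw [Finset.sum_eq_zero (fun i _ => by
      rw [(hev' ⟨i.succ⟩).2 (by simpa [v] using hp' i), zero_mul]), sub_zero, hev'] at hh
    exact hr (by simpa [v] using hh)

end Groth.Agent.AlgSpB.Art

namespace Groth.Agent.AlgSpB.Art

open _root_.AlgSp

variable {S : Scheme.{u}}

/-- Closedness on points restricts along open immersions of the base. -/
theorem isClosedMap_restrict {P P' B B' : Sp S} {π : P ⟶ B} {π' : P' ⟶ B'} {m : P' ⟶ P} {ι : B' ⟶ B}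
    (sq : IsPullback m π' π ι) (hι : RepWith @IsOpenImmersion ι) (h : IsClosedMap (Points.map π)) :
    IsClosedMap (Points.map π') := by
  have hm : RepWith @IsOpenImmersion m := MorphismProperty.of_isPullback sq.flip hι
  have := Groth.Agent.AlgSpB.mono_of_isOpenImmersion hm
  have := Groth.Agent.AlgSpB.mono_of_isOpenImmersion hι
  have hme : IsOpenEmbedding (Points.map m) := IsOpenEmbedding.of_continuous_injective_isOpenMap
    (Points.continuous_map m) (Groth.Agent.AlgSpB.injective_map_of_mono m)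
    (Groth.Agent.AlgSp.isOpenMap_map_of_repWith (Groth.Agent.AlgSp.repWith_mono (Q := @UniversallyOpen)
      (fun g (hg : IsOpenImmersion g) => (inferInstance : UniversallyOpen g)) hm))
  intro C hC
  obtain ⟨D, hD, rfl⟩ := hme.isInducing.isClosed_iff.1 hC
  have : Points.map π' '' (Points.map m ⁻¹' D) = Points.map ι ⁻¹' (Points.map π '' D) := by
    ext z
    constructor
    · rintro ⟨w, hw, rfl⟩
      exact ⟨_, hw, by rw [← Points.map_comp, ← Points.map_comp, sq.w]⟩
    · rintro ⟨d, hd, hdz⟩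
      obtain ⟨w, hw1, hw2⟩ := Groth.Agent.AlgSpB.exists_of_isPullback sq d z hdz
      exact ⟨w, show Points.map m w ∈ D by rwa [hw1], hw2⟩
  rw [this]
  exact (h _ hD).preimage (Points.continuous_map ι)

end Groth.Agent.AlgSpB.Art
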