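import Groth.Agent.AlgSpB.Art.EtaleChart
import Groth.Agent.AlgSp.SchImageQC
import Groth.Agent.Wt.EtNbhd

/-!
# A sheaf with a locally quasi-finite flat cover by a scheme is an algebraic space
-/

universe u

open CategoryTheory CategoryTheory.Limits AlgebraicGeometry

set_option backward.isDefEq.respectTransparency false
set_option backward.isDefEq.respectTransparency.types false
set_option autoImplicit false

namespace Groth.Agent.AlgSpB.Art

open _root_.AlgSp

variable {S : Scheme.{u}} {F : Sp S} {U : Over S}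

/-- An etale neighbourhood of a point with a finite piece through the identity section. -/
theorem exists_piece [IsAffine U.left] {p : (yon S).obj U ⟶ F}
    (hp : RepWith (@Flat ⊓ @LocallyOfFinitePresentation) p) (hq : RepWith @LocallyQuasiFinite p) (u : U.left) :
    ∃ (P : Pc p) (v : P.V.left), IsAffine P.V.left ∧ Etale P.f.left ∧ P.Mem P.f (𝟙 P.V) ∧ P.f.left v = u ∧
      ∀ x x' : P.X.left, x ∈ P.W → x' ∈ P.W → P.xV.left x = v → P.xV.left x' = v → x = x' := by
  obtain ⟨X, x₁, x₂, sq⟩ := exists_pullback_yon hp.1 p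
  obtain ⟨δ, hδ1, hδ2⟩ := sq.exists_lift (𝟙 _) (𝟙 _) rfl
  obtain ⟨δ, rfl⟩ := (yon S).map_surjective δ
  rw [← Functor.map_comp] at hδ1 hδ2
  have h1 : δ ≫ x₁ = 𝟙 U := (yon S).map_injective (hδ1.trans ((yon S).map_id U).symm)
  have h2 : δ ≫ x₂ = 𝟙 U := (yon S).map_injective (hδ2.trans ((yon S).map_id U).symm)
  have : LocallyOfFinitePresentation x₂.left := (hp.2 _ _ _ sq).2
  have : LocallyQuasiFinite x₂.left := hq.2 _ _ _ sq
  have hδu : x₂.left (δ.left u) = u := congrArg (fun k : U ⟶ U => k.left u) h2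
  obtain ⟨U', g, u', hN, W, z, hW, hz⟩ := Wt.EtNbhd.exists_finPart x₂.left (δ.left u) (x₂.left.quasiFiniteAt _)
  have : Etale g := hN.etale
  have hgu : g u' = u := hN.base_eq.trans hδu
  let σ : U' ⟶ pullback x₂.left g := pullback.lift (g ≫ δ.left) (𝟙 U') (by
    rw [Category.assoc, ← Over.comp_left, h2, Over.id_left, Category.id_comp]; exact Category.comp_id g)
  have hσ : σ u' = z := by
    obtain ⟨z₀, -, huniq⟩ := Wt.EtNbhd.existsUnique_lift x₂.left g (δ.left u) u' (by rw [hδu, hgu]) hN.residue_bijective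
    rw [huniq z hz hW.map_eq]
    refine huniq _ ?_ ?_
    · rw [← Scheme.Hom.comp_apply, pullback.lift_fst, Scheme.Hom.comp_apply, hgu]
    · rw [← Scheme.Hom.comp_apply, pullback.lift_snd]; rfl
  obtain ⟨_, ⟨O₀, hO, rfl⟩, hu', hOW⟩ := U'.isBasis_affineOpens.exists_subset_of_mem_open
    (show u' ∈ σ ⁻¹ᵁ W from (hσ ▸ hW.mem : σ u' ∈ W)) (σ ⁻¹ᵁ W).2
  let O : U'.Opens := O₀
  let V : Over S := Over.mk (O.ι ≫ g ≫ U.hom)
  let f : V ⟶ U := Over.homMk (O.ι ≫ g) (Category.assoc _ _ _)
  let XV := pullback x₂ f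
  let m₂ : XV ⟶ V := pullback.snd x₂ f
  let m₁ : XV ⟶ U := pullback.fst x₂ f ≫ x₁
  have sqV : IsPullback ((yon S).map m₁) ((yon S).map m₂) p ((yon S).map f ≫ p) := by
    simp only [m₁, Functor.map_comp]
    exact (((IsPullback.of_hasPullback x₂ f).map (yon S)).flip.paste_vert sq.flip).flip
  have sl := isPullback_map_left (IsPullback.of_hasPullback x₂ f)
  -- compare with the piece over `U'`
  have sb : IsPullback (pullback.fst x₂.left g) (pullback.snd x₂.left g) x₂.left g := IsPullback.of_hasPullback _ _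
  obtain ⟨ρ, hρ1, hρ2⟩ := sb.exists_lift (pullback.fst x₂ f).left (m₂.left ≫ O.ι) (by
    rw [Category.assoc]; exact sl.w)
  have sρ : IsPullback ρ m₂.left (pullback.snd x₂.left g) O.ι :=
    IsPullback.of_right (by rw [hρ1]; exact sl) hρ2 sb
  have hfin : IsFinite ((ρ ⁻¹ᵁ W).ι ≫ m₂.left) :=
    MorphismProperty.of_isPullback ((isPullback_morphismRestrict ρ W).paste_vert sρ) hW.finite
  let P : Pc p := ⟨V, f, XV, m₁, m₂, sqV, ρ ⁻¹ᵁ W, hfin⟩
  obtain ⟨τ, hτ1, hτ2⟩ := (IsPullback.of_hasPullback x₂ f).exists_lift (f ≫ δ) (𝟙 V) (by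
    rw [Category.assoc, h2, Category.comp_id, Category.id_comp])
  have hτ : τ.left ≫ ρ = O.ι ≫ σ := by
    refine sb.hom_ext ?_ ?_
    · rw [Category.assoc, hρ1, Category.assoc, pullback.lift_fst, ← Category.assoc]
      exact congrArg (fun k : V ⟶ X => k.left) hτ1
    · rw [Category.assoc, hρ2, Category.assoc, pullback.lift_snd, Category.comp_id, ← Category.assoc,
        ← Over.comp_left, hτ2]
      exact Category.id_comp _
  refine ⟨P, (⟨u', hu'⟩ : O), hO, inferInstanceAs (Etale (O.ι ≫ g)), ⟨τ, ?_, hτ2, fun t => ?_⟩, hgu,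
    fun x x' hx hx' e e' => ?_⟩
  · simp only [P, m₁]
    rw [reassoc_of% hτ1, h1, Category.comp_id]
  · show ρ (τ.left t) ∈ W
    rw [← Scheme.Hom.comp_apply, hτ, Scheme.Hom.comp_apply]
    exact hOW t.2
  · have e1 : ρ x = z := hW.unique _ hx (by
      rw [← Scheme.Hom.comp_apply, hρ2, Scheme.Hom.comp_apply]; exact congrArg O.ι e)
    have e2 : ρ x' = z := hW.unique _ hx' (by
      rw [← Scheme.Hom.comp_apply, hρ2, Scheme.Hom.comp_apply]; exact congrArg O.ι e')
    have : IsOpenImmersion ρ := MorphismProperty.of_isPullback sρ.flip inferInstance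
    exact ρ.isOpenEmbedding.injective (e1.trans e2.symm)

theorem isAlgSpace_of_lqf_cover (hd : Representable (Limits.diag F)) (p : (yon S).obj U ⟶ F)
    (hp : RepWith (@Flat ⊓ @LocallyOfFinitePresentation) p) (hq : RepWith @LocallyQuasiFinite p)
    (hs : RepWith @Surjective p) : IsAlgSpace F := by
  have key : ∀ u : U.left, ∃ (M : Over S) (m : (yon S).obj M ⟶ F), RepWith @Etale m ∧
      ∃ y : M.left, Points.ofPt m y = Points.ofPt p u := by
    intro u
    obtain ⟨_, ⟨O, hO, rfl⟩, hu, -⟩ := U.left.isBasis_affineOpens.exists_subset_of_mem_open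
      (Set.mem_univ u) isOpen_univ
    let O' : U.left.Opens := O
    let Ua : Over S := Over.mk (O'.ι ≫ U.hom)
    let ι : Ua ⟶ U := Over.homMk O'.ι rfl
    have : IsAffine Ua.left := hO
    have hι : IsOpenImmersion ι.left := inferInstanceAs (IsOpenImmersion O'.ι)
    have : MorphismProperty.IsMultiplicative (@LocallyOfFinitePresentation : MorphismProperty Scheme.{u}) :=
      { id_mem := fun X => (inferInstance : LocallyOfFinitePresentation (𝟙 X)) }
    have hpa : RepWith (@Flat ⊓ @LocallyOfFinitePresentation) ((yon S).map ι ≫ p) :=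
      Groth.Agent.AlgSp.repWith_inf
        ((repWith_isMultiplicative (S := S) @Flat).comp_mem _ _
          ((repWith_yon_map_iff _ _).2 (inferInstance : Flat ι.left))
          (Groth.Agent.AlgSp.repWith_mono (fun _ h => h.1) hp))
        ((repWith_isMultiplicative (S := S) @LocallyOfFinitePresentation).comp_mem _ _
          ((repWith_yon_map_iff _ _).2 (inferInstance : LocallyOfFinitePresentation ι.left))
          (Groth.Agent.AlgSp.repWith_mono (fun _ h => h.2) hp))
    have : MorphismProperty.IsMultiplicative (@LocallyQuasiFinite : MorphismProperty Scheme.{u}) :=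
      { id_mem := fun X => (inferInstance : LocallyQuasiFinite (𝟙 X)) }
    have hqa : RepWith @LocallyQuasiFinite ((yon S).map ι ≫ p) :=
      (repWith_isMultiplicative (S := S) @LocallyQuasiFinite).comp_mem _ _
        ((repWith_yon_map_iff _ _).2 (inferInstance : LocallyQuasiFinite ι.left)) hq
    obtain ⟨P, v, _, _, hid, hv, huniq⟩ := exists_piece hpa hqa (⟨u, hu⟩ : O')
    obtain ⟨P', v', _, _, hG, hid', hv', huniq'⟩ := exists_good hpa P hid v huniq
    obtain ⟨V, R, g, t, s, v₀, _, _, hv₀, hR, _, _, _, hF, hloc⟩ :=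
      exists_finite_rel hpa P' hG hid' v' huniq'
    obtain ⟨M, q, m, hm, hqs, hqm⟩ := exists_etale_chart hpa hd g t s hR hF hloc
    refine ⟨M, m, hm, q.left v₀, ?_⟩
    rw [← ofPt_map_comp, hqm, ← Category.assoc, ← Functor.map_comp, ofPt_map_comp]
    congr 1
    change ι.left (g.left v₀) = u
    rw [hv₀, hv', hv]
    rfl
  choose M m hm y hy using key
  obtain ⟨W, ε, l, hε, hcov, hdis, hl⟩ := Groth.Agent.AlgSp.SchImageQC.exists_sigma_glue M m
  have he : RepWith @Etale l :=
    Groth.Agent.AlgSp.repWith_of_disjoint_cover ε hε hcov hdis l (fun j => by rw [hl]; exact hm j)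
  refine Groth.Agent.AlgSp.isAlgSpace_of_etale_surjective l he
    (repWith_surjective_of_surjective_ofPt he.1 fun x => ?_)
  obtain ⟨u, rfl⟩ := surjective_ofPt hs x
  exact ⟨(ε u).left (y u), by rw [← ofPt_map_comp, hl]; exact hy u⟩

end Groth.Agent.AlgSpB.Art
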