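import Groth.Agent.AlgSpB.Art.Slice
import Groth.Agent.AlgSpB.Art.LqfCover

/-!
# Artin's theorem: a sheaf with a flat, locally finitely presented cover is an algebraic space
-/

universe u

open CategoryTheory CategoryTheory.Limits AlgebraicGeometry

set_option backward.isDefEq.respectTransparency false
set_option backward.isDefEq.respectTransparency.types false
set_option autoImplicit false

namespace Groth.Agent.AlgSpB.Art

open _root_.AlgSp

variable {S : Scheme.{u}} {F : Sp S} {U : Over S}

theorem repWith_comp_lfp {A B : Over S} (f : A ⟶ B) [LocallyOfFinitePresentation f.left]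
    {a : (yon S).obj B ⟶ F} (ha : RepWith @LocallyOfFinitePresentation a) :
    RepWith @LocallyOfFinitePresentation ((yon S).map f ≫ a) := by
  have : MorphismProperty.IsMultiplicative (@LocallyOfFinitePresentation : MorphismProperty Scheme.{u}) :=
    { id_mem := fun X => (inferInstance : LocallyOfFinitePresentation (𝟙 X)) }
  exact (repWith_isMultiplicative (S := S) @LocallyOfFinitePresentation).comp_mem _ _
    ((repWith_yon_map_iff _ _).2 ‹LocallyOfFinitePresentation f.left›) ha

/-- Around each point a flat cover has a flat quasi-finite slice. -/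
theorem exists_slice_lqf (hd : Representable (Limits.diag F)) {p : (yon S).obj U ⟶ F}
    (hp : RepWith (@Flat ⊓ @LocallyOfFinitePresentation) p) (u₀ : U.left) :
    ∃ (W : Over S) (g : W ⟶ U) (z : W.left), RepWith @Flat ((yon S).map g ≫ p) ∧
      RepWith @LocallyOfFinitePresentation ((yon S).map g ≫ p) ∧
      RepWith @LocallyQuasiFinite ((yon S).map g ≫ p) ∧
      Points.ofPt ((yon S).map g ≫ p) z = Points.ofPt p u₀ := by
  obtain ⟨Z', q, U₀, Y, yZ, y₀, y, hq, sY, hy, O, hyO, hOf, hOq⟩ := exists_slice hp u₀
  let T₀ : Over S := Over.mk (U₀.ι ≫ U.hom)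
  let ι₀ : T₀ ⟶ U := Over.homMk U₀.ι rfl
  have : IsOpenImmersion ι₀.left := inferInstanceAs (IsOpenImmersion U₀.ι)
  have hb1 : RepWith @Flat ((yon S).map ι₀ ≫ p) := (repWith_isMultiplicative (S := S) @Flat).comp_mem _ _
    ((repWith_yon_map_iff _ _).2 (inferInstance : Flat ι₀.left))
    (Groth.Agent.AlgSp.repWith_mono (fun _ h => h.1) hp)
  have hb2 : RepWith @LocallyOfFinitePresentation ((yon S).map ι₀ ≫ p) :=
    repWith_comp_lfp ι₀ (Groth.Agent.AlgSp.repWith_mono (fun _ h => h.2) hp)
  have : Flat yZ.left := hb1.2 _ _ _ sY.flip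
  have : LocallyOfFinitePresentation yZ.left := hb2.2 _ _ _ sY.flip
  let W₀ : Z'.left.Opens := ⟨yZ.left '' O, yZ.left.isOpenMap _ O.2⟩
  let W : Over S := Over.mk (W₀.ι ≫ Z'.hom)
  let i : W ⟶ Z' := Over.homMk W₀.ι rfl
  have hiI : IsOpenImmersion i.left := inferInstanceAs (IsOpenImmersion W₀.ι)
  let Ω : Over S := Over.mk (O.ι ≫ Y.hom)
  let j : Ω ⟶ Y := Over.homMk O.ι rfl
  have : IsOpenImmersion j.left := inferInstanceAs (IsOpenImmersion O.ι)
  obtain ⟨π, hπ⟩ := exists_lift_of_forall_mem i (j ≫ yZ) (fun x => by
    change yZ.left (O.ι x) ∈ Set.range W₀.ι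
    rw [Scheme.Opens.range_ι]
    exact ⟨_, x.2, rfl⟩)
  have hπl : π.left ≫ W₀.ι = O.ι ≫ yZ.left := congrArg (fun k : Ω ⟶ Z' => k.left) hπ
  have : Flat π.left := by
    have : Flat (π.left ≫ W₀.ι) := hπl ▸ inferInstance
    exact MorphismProperty.of_postcomp (W := @Flat) (W' := @IsOpenImmersion) π.left W₀.ι inferInstance this
  have : LocallyOfFinitePresentation π.left := by
    have : LocallyOfFinitePresentation (π.left ≫ W₀.ι) := hπl ▸ inferInstance
    exact MorphismProperty.of_postcomp (W := @LocallyOfFinitePresentation) (W' := @IsOpenImmersion) π.left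
      W₀.ι inferInstance this
  have : Surjective π.left := ⟨fun x => by
    obtain ⟨a, ha, e⟩ := x.2
    refine ⟨⟨a, ha⟩, Subtype.ext ?_⟩
    exact (congrArg (fun k : Ω.left ⟶ Z'.left => k (⟨a, ha⟩ : O)) hπl).trans e⟩
  let g : W ⟶ U := i ≫ q
  have hlfp : RepWith @LocallyOfFinitePresentation ((yon S).map g ≫ p) := by
    have : LocallyOfFinitePresentation g.left :=
      inferInstanceAs (LocallyOfFinitePresentation (W₀.ι ≫ q.left))
    exact repWith_comp_lfp g (Groth.Agent.AlgSp.repWith_mono (fun _ h => h.2) hp)
  have key : ∀ (T Q : Over S) (ξ : (yon S).obj T ⟶ F) (fst : (yon S).obj Q ⟶ (yon S).obj W) (snd : Q ⟶ T),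
      IsPullback fst ((yon S).map snd) ((yon S).map g ≫ p) ξ → Flat snd.left ∧ LocallyQuasiFinite snd.left := by
    intro T Q ξ fst snd sq
    obtain ⟨QZ, rfl⟩ := (yon S).map_surjective fst
    obtain ⟨T', tU, tT, sT⟩ := exists_pullback_yon hb1.1 ξ
    have : Flat tT.left := hb1.2 _ _ _ sT
    let E := pullback QZ π
    let eQ : E ⟶ Q := pullback.fst QZ π
    let eO : E ⟶ Ω := pullback.snd QZ π
    have sE := isPullback_map_left (IsPullback.of_hasPullback QZ π)
    have : Flat eQ.left := MorphismProperty.of_isPullback sE.flip ‹Flat π.left›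
    have : Surjective eQ.left := MorphismProperty.of_isPullback sE.flip ‹Surjective π.left›
    have sEF : IsPullback ((yon S).map eO) ((yon S).map (eQ ≫ snd)) ((yon S).map π ≫ (yon S).map g ≫ p) ξ := by
      rw [Functor.map_comp]
      exact ((IsPullback.of_hasPullback QZ π).map (yon S)).paste_horiz sq.flip |>.flip
    have hc : (yon S).map π ≫ (yon S).map g ≫ p = (yon S).map (j ≫ y₀) ≫ (yon S).map ι₀ ≫ p := by
      rw [← Category.assoc, ← Functor.map_comp, show π ≫ g = (j ≫ yZ) ≫ q by
        simp only [g, ← hπ, Category.assoc]]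
      simp only [Functor.map_comp, Category.assoc]
      exact congrArg ((yon S).map j ≫ ·) sY.w
    obtain ⟨e', he1, he2⟩ := sT.exists_lift ((yon S).map (eO ≫ j ≫ y₀)) ((yon S).map (eQ ≫ snd)) (by
      rw [← sEF.w, hc]; simp only [Functor.map_comp, Category.assoc])
    obtain ⟨e', rfl⟩ := (yon S).map_surjective e'
    rw [← Functor.map_comp] at he1 he2
    replace he1 := (yon S).map_injective he1
    replace he2 := (yon S).map_injective he2
    have se' : IsPullback ((yon S).map eO) ((yon S).map e') ((yon S).map (j ≫ y₀)) ((yon S).map tU) := by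
      refine IsPullback.of_bot ?_ (by rw [← Functor.map_comp, ← Functor.map_comp, he1]) sT
      rw [← Functor.map_comp, he2, ← hc]
      exact sEF
    have se'' := isPullback_map_left (IsPullback.of_map (yon S) he1.symm se')
    have hfe : Flat e'.left := MorphismProperty.of_isPullback (P := @Flat) se'' hOf
    have hqe : LocallyQuasiFinite e'.left := MorphismProperty.of_isPullback (P := @LocallyQuasiFinite) se'' hOq
    constructor
    · have : Flat (eQ.left ≫ snd.left) := by
        have e : eQ.left ≫ snd.left = e'.left ≫ tT.left := congrArg (fun k : E ⟶ T => k.left) he2.symm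
        rw [e]
        infer_instance
      exact GrpdLib.flat_of_comp_flat_surjective eQ.left snd.left
    · have : LocallyOfFinitePresentation snd.left := hlfp.2 _ _ _ sq
      rw [← Scheme.Hom.quasiFiniteLocus_eq_top_iff]
      refine TopologicalSpace.Opens.ext (Set.eq_univ_of_forall fun x => ?_)
      obtain ⟨w, rfl⟩ := eQ.left.surjective x
      let Q' := pullback snd tT
      obtain ⟨ψ, hψ1, hψ2⟩ := (IsPullback.of_hasPullback snd tT).exists_lift eQ e' he2.symm
      obtain ⟨χ, hχ1, hχ2⟩ := sY.exists_lift ((yon S).map (pullback.fst snd tT ≫ QZ ≫ i))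
        ((yon S).map (pullback.snd snd tT ≫ tU)) (by
        have eF := sq.w
        simp only [g, Functor.map_comp, Category.assoc] at eF ⊢
        rw [eF, sT.w, ← Functor.map_comp_assoc, ← Functor.map_comp_assoc, pullback.condition])
      obtain ⟨χ, rfl⟩ := (yon S).map_surjective χ
      rw [← Functor.map_comp] at hχ1 hχ2
      replace hχ1 := (yon S).map_injective hχ1
      replace hχ2 := (yon S).map_injective hχ2
      have hw : ψ ≫ χ = eO ≫ j := by
        apply (yon S).map_injective
        refine sY.hom_ext ?_ ?_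
        · rw [← Functor.map_comp, ← Functor.map_comp, Category.assoc, Category.assoc, hχ1, reassoc_of% hψ1,
            ← hπ, ← Category.assoc eO π i]
          exact congrArg (yon S).map ((Category.assoc _ _ _).symm.trans (congrArg (· ≫ i) pullback.condition))
        · rw [← Functor.map_comp, ← Functor.map_comp, Category.assoc, Category.assoc, hχ2, reassoc_of% hψ2, he1]
      have sψ : IsPullback ψ eO χ j := by
        refine ⟨⟨hw⟩, ⟨PullbackCone.IsLimit.mk _ (fun c => pullback.lift (c.fst ≫ pullback.fst snd tT) c.snd ?_)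
          (fun c => ?_) (fun c => pullback.lift_snd _ _ _) (fun c m h1 h2 => ?_)⟩⟩
        · have : Mono i := (Over.forget S).mono_of_mono_map (inferInstanceAs (Mono W₀.ι))
          rw [← cancel_mono i]
          have e := congrArg (· ≫ yZ) c.condition
          simp only [Category.assoc, hχ1] at e
          rw [Category.assoc, Category.assoc, e, Category.assoc, hπ]
        · apply pullback.hom_ext
          · rw [Category.assoc, hψ1]; exact pullback.lift_fst _ _ _
          · apply (yon S).map_injective
            refine sT.hom_ext ?_ ?_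
            · rw [← Functor.map_comp, ← Functor.map_comp, Category.assoc, Category.assoc, reassoc_of% hψ2, he1,
                pullback.lift_snd_assoc]
              have e := congrArg (· ≫ y₀) c.condition
              simp only [Category.assoc, hχ2] at e
              rw [← e, Category.assoc]
            · rw [← Functor.map_comp, ← Functor.map_comp, Category.assoc, Category.assoc, reassoc_of% hψ2, he2,
                pullback.lift_fst_assoc]
              simp only [Category.assoc, pullback.condition]
        · apply pullback.hom_ext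
          · rw [pullback.lift_fst, ← h1, Category.assoc, hψ1]
          · rw [pullback.lift_snd, h2]
      have : IsOpenImmersion ψ.left :=
        MorphismProperty.of_isPullback (isPullback_map_left sψ).flip ‹IsOpenImmersion j.left›
      have hqf : (pullback.snd snd tT).left.QuasiFiniteAt (ψ.left w) := by
        rw [← Scheme.Hom.quasiFiniteAt_comp_iff_of_isOpenImmersion (f := ψ.left), ← Over.comp_left, hψ2]
        exact e'.left.quasiFiniteAt w
      have := (EtStruct.quasiFiniteAt_baseChange_iff snd.left
        (isPullback_map_left (IsPullback.of_hasPullback snd tT)) (ψ.left w)).1 hqf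
      rwa [show (pullback.fst snd tT).left (ψ.left w) = eQ.left w from
        congrArg (fun k : E ⟶ Q => k.left w) hψ1] at this
  have hrep : Representable ((yon S).map g ≫ p) := Functor.relativelyRepresentable.of_diag hd _
  refine ⟨W, g, π.left (⟨y, hyO⟩ : O), ⟨hrep, fun T Q ξ fst snd sq => (key T Q ξ fst snd sq).1⟩, hlfp,
    ⟨hrep, fun T Q ξ fst snd sq => (key T Q ξ fst snd sq).2⟩, ?_⟩
  rw [← ofPt_map_comp, ← Category.assoc, ← Functor.map_comp, show π ≫ g = j ≫ yZ ≫ q by
    simp only [g, reassoc_of% hπ]]
  simp only [Functor.map_comp, Category.assoc]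
  rw [sY.w, ofPt_map_comp, ofPt_map_comp, ofPt_map_comp]
  exact congrArg (Points.ofPt p) hy

/-- A flat lfp surjective cover by a scheme yields one which is also locally quasi-finite. -/
theorem exists_lqf_cover (hd : Representable (Limits.diag F)) {p : (yon S).obj U ⟶ F}
    (hp : RepWith (@Flat ⊓ @LocallyOfFinitePresentation) p) (hs : RepWith @Surjective p) :
    ∃ (W : Over S) (g : W ⟶ U), RepWith (@Flat ⊓ @LocallyOfFinitePresentation) ((yon S).map g ≫ p) ∧
      RepWith @LocallyQuasiFinite ((yon S).map g ≫ p) ∧ RepWith @Surjective ((yon S).map g ≫ p) := by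
  choose Wc gc z hf hl hq hz using exists_slice_lqf hd hp
  obtain ⟨W, ε, l, hε, hcov, hdis, hl'⟩ :=
    Groth.Agent.AlgSp.SchImageQC.exists_sigma_glue Wc (fun u => (yon S).map (gc u))
  obtain ⟨g, rfl⟩ := (yon S).map_surjective l
  have hcomp : ∀ u, (yon S).map (ε u) ≫ (yon S).map g ≫ p = (yon S).map (gc u) ≫ p := fun u => by
    rw [reassoc_of% (hl' u)]
  have h1 : RepWith @Flat ((yon S).map g ≫ p) :=
    Groth.Agent.AlgSp.repWith_of_disjoint_cover ε hε hcov hdis _ (fun u => by rw [hcomp]; exact hf u)
  have h2 : RepWith @LocallyOfFinitePresentation ((yon S).map g ≫ p) :=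
    Groth.Agent.AlgSp.repWith_of_disjoint_cover ε hε hcov hdis _ (fun u => by rw [hcomp]; exact hl u)
  have h3 : RepWith @LocallyQuasiFinite ((yon S).map g ≫ p) :=
    Groth.Agent.AlgSp.repWith_of_disjoint_cover ε hε hcov hdis _ (fun u => by rw [hcomp]; exact hq u)
  refine ⟨W, g, Groth.Agent.AlgSp.repWith_inf h1 h2, h3,
    repWith_surjective_of_surjective_ofPt h1.1 fun x => ?_⟩
  obtain ⟨u, rfl⟩ := surjective_ofPt hs x
  exact ⟨(ε u).left (z u), by rw [← ofPt_map_comp, hcomp]; exact hz u⟩

/-- **Artin's theorem**. A sheaf with representable diagonal and a representable flat, locally finitely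
presented, surjective map from a scheme is an algebraic space. -/
theorem isAlgSpace_of_fppf_cover (hd : Representable (Limits.diag F)) (p : (yon S).obj U ⟶ F)
    (hp : RepWith (@Flat ⊓ @LocallyOfFinitePresentation) p) (hs : RepWith @Surjective p) :
    IsAlgSpace F := by
  obtain ⟨W, g, h1, h2, h3⟩ := exists_lqf_cover hd hp hs
  exact isAlgSpace_of_lqf_cover hd _ h1 h2 h3

end Groth.Agent.AlgSpB.Art
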