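import Mathlib.FieldTheory.IsAlgClosed.Classification
import Mathlib.FieldTheory.IsAlgClosed.AlgebraicClosure
import Mathlib.RingTheory.Localization.FractionRing
import Mathlib.SetTheory.Cardinal.Order

/-!
# Big algebraically closed fields are homogeneous
-/

universe u

open scoped Cardinal

namespace Groth.Agent.AlgSpB.Art

theorem exists_compat_equiv {k K L : Type u} [Field k] [Field K] [Field L] [Algebra k K] [Algebra k L]
    [IsAlgClosed K] [IsAlgClosed L] (hk : max #k ℵ₀ < #K) (hKL : #K = #L) :
    ∃ τ : K ≃+* L, ∀ x, τ (algebraMap k K x) = algebraMap k L x := by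
  obtain ⟨s, hs⟩ := exists_isTranscendenceBasis k K
  obtain ⟨t, ht⟩ := exists_isTranscendenceBasis k L
  have card : ∀ (M : Type u) [Field M] [Algebra k M] [IsAlgClosed M] (r : Set M),
      IsTranscendenceBasis k ((↑) : r → M) → max #k ℵ₀ < #M → #r = #M := fun M _ _ _ r hr hM => by
    refine le_antisymm (Cardinal.mk_set_le r) ?_
    have h1 := IsAlgClosed.cardinal_le_max_transcendence_basis' (R := k) (fun x : r => (x : M)) hr
    by_contra h
    rw [not_le] at h
    refine absurd h1 (not_le.2 ?_)
    exact max_lt (max_lt (lt_of_le_of_lt (le_max_left _ _) hM) h) (lt_of_le_of_lt (le_max_right _ _) hM)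
  have e : #s = #t := by rw [card K s hs hk, card L t ht (hKL ▸ hk), hKL]
  obtain ⟨e⟩ := Cardinal.eq.1 e
  let := IsAlgClosed.isAlgClosure_of_transcendence_basis _ hs
  let := IsAlgClosed.isAlgClosure_of_transcendence_basis _ ht
  let e0 : Algebra.adjoin k (Set.range ((↑) : s → K)) ≃ₐ[k] Algebra.adjoin k (Set.range ((↑) : t → L)) :=
    hs.1.aevalEquiv.symm.trans ((MvPolynomial.renameEquiv k e).trans ht.1.aevalEquiv)
  refine ⟨IsAlgClosure.equivOfEquiv K L e0.toRingEquiv, fun x => ?_⟩
  have h := IsAlgClosure.equivOfEquiv_algebraMap K L e0.toRingEquiv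
    (algebraMap k (Algebra.adjoin k (Set.range ((↑) : s → K))) x)
  rw [← IsScalarTower.algebraMap_apply] at h
  rw [h]
  show algebraMap _ L (e0 (algebraMap k _ x)) = _
  rw [AlgEquiv.commutes, ← IsScalarTower.algebraMap_apply]

/-- Two embeddings of a field into a field become conjugate in a large algebraically closed extension. -/
theorem exists_big_field {k Ω : Type u} [Field k] [Field Ω] (a b : k →+* Ω) :
    ∃ (K : Type u) (_ : Field K) (j : Ω →+* K), IsAlgClosed K ∧
      ∃ τ : K ≃+* K, (τ : K →+* K).comp (j.comp a) = j.comp b := by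
  let κ := Set (Ω × ℕ)
  let F := FractionRing (MvPolynomial κ Ω)
  let K := AlgebraicClosure F
  let j : Ω →+* K := (algebraMap F K).comp ((algebraMap (MvPolynomial κ Ω) F).comp MvPolynomial.C)
  have hκ : #κ ≤ #K := Cardinal.mk_le_of_injective
    (f := fun i => algebraMap F K (algebraMap (MvPolynomial κ Ω) F (MvPolynomial.X i)))
    ((algebraMap F K).injective.comp ((IsFractionRing.injective _ F).comp MvPolynomial.X_injective))
  have h1 : #(Ω × ℕ) < #κ := by
    rw [Cardinal.mk_set]; exact Cardinal.cantor _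
  have hk : max #k ℵ₀ < #K := by
    refine lt_of_lt_of_le ?_ hκ
    refine max_lt (lt_of_le_of_lt ?_ h1) (lt_of_le_of_lt ?_ h1)
    · exact Cardinal.mk_le_of_injective (f := fun x => (a x, 0)) fun x y e => a.injective (congrArg Prod.fst e)
    · exact Cardinal.aleph0_le_mk _
  obtain ⟨τ, hτ⟩ := @exists_compat_equiv k K K _ _ _ (j.comp a).toAlgebra (j.comp b).toAlgebra _ _ hk rfl
  exact ⟨K, inferInstance, j, inferInstance, τ, RingHom.ext hτ⟩

end Groth.Agent.AlgSpB.Art
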