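import Groth.Agent.AlgSp.LimScheme
import Groth.Agent.AlgSp.ClosedSub
import Groth.Agent.AlgSp.AffineMor
import Groth.Agent.AlgSp.LimAffine
import Groth.Agent.AlgSp.LimAffineMor
import Groth.Agent.AlgSpB.RedInduced

/-!
# Chains of closed subspaces
-/

universe u

open CategoryTheory CategoryTheory.Limits AlgebraicGeometry Opposite

set_option backward.isDefEq.respectTransparency false
set_option backward.isDefEq.respectTransparency.types false
set_option autoImplicit false

namespace Groth.Agent.AlgSpB.Art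

open _root_.AlgSp

variable {S : Scheme.{u}}

/-- Factorisation through a subsheaf is tested on representable sheaves. -/
theorem exists_factor_of_yon {F Z T : Sp S} {i : Z ⟶ F} [Mono i] (f : T ⟶ F)
    (h : ∀ (T' : Over S) (g : (yon S).obj T' ⟶ T), ∃ k, k ≫ i = g ≫ f) : ∃ k : T ⟶ Z, k ≫ i = f := by
  have : Sheaf.IsLocallySurjective (pullback.snd i f) := by
    refine AlgSpB.locSurj_of_lifts _ fun T' g => ?_
    obtain ⟨k, hk⟩ := h T' g
    refine ⟨Presieve.singleton (𝟙 T'.left), Precoverage.mem_coverings_of_isIso _, fun W m hm => ?_⟩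
    exact ⟨(yon S).map (Over.homMk m rfl : Over.mk (m ≫ T'.hom) ⟶ T') ≫ pullback.lift k g hk, by
      rw [Category.assoc, pullback.lift_snd]⟩
  have : IsIso (pullback.snd i f) := AlgSpB.isIso_of_mono_of_locSurj _
  exact ⟨inv (pullback.snd i f) ≫ pullback.fst i f, by
    rw [Category.assoc, pullback.condition, IsIso.inv_hom_id_assoc]⟩

/-- A closed subspace of a quasi-compact quasi-separated space is quasi-compact and quasi-separated. -/
theorem qcqs_of_isClosedImmersion {X Z : Sp S} (hX : IsAlgSpace X) (hqc : IsQuasiCompactSp X)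
    (hqs : IsQuasiSeparatedSp X) {i : Z ⟶ X} (hi : RepWith @IsClosedImmersion i) :
    IsQuasiCompactSp Z ∧ IsQuasiSeparatedSp Z := by
  have : Mono i := AlgSpB.mono_of_isClosedImmersion hi
  refine ⟨Groth.Agent.AlgSp.isQuasiCompactMor_of_repWith hX (Groth.Agent.AlgSp.repWith_mono
    (fun g (hg : IsClosedImmersion g) => (inferInstance : QuasiCompact g)) hi) hX hqc (𝟙 _) (𝟙 _) i
      (IsPullback.id_horiz i), Groth.Agent.AlgSp.LimAffine.isQuasiSeparatedSp_of_mor i ?_ hqs⟩
  have : IsIso (pullback.diagonal i) := (pullback.isIso_diagonal_iff i).2 inferInstance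
  refine ⟨Functor.relativelyRepresentable.of_isIso (F := yon S) _, fun _ _ g fst snd sq => ?_⟩
  have : IsIso ((yon S).map snd) := sq.isIso_snd_of_isIso
  have : IsIso snd := isIso_of_reflects_iso _ (yon S)
  have : IsIso snd.left := inferInstanceAs (IsIso ((Over.forget S).map snd))
  exact (inferInstance : QuasiCompact snd.left)

/-- If the intersection of a codirected family of closed subspaces of a quasi-compact quasi-separated space is a
scheme then so is one of them. -/
theorem exists_scheme_of_iInter [QuasiSeparatedSpace S] {X : Sp S} (hX : IsAlgSpace X) (hqc : IsQuasiCompactSp X)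
    (hqs : IsQuasiSeparatedSp X) {J : Type u} [Preorder J] [IsDirectedOrder Jᵒᵈ] [Nonempty J] (Z : J → Sp S)
    (i : ∀ j, Z j ⟶ X) (hi : ∀ j, RepWith @IsClosedImmersion (i j))
    (hle : ∀ {a b : J}, a ≤ b → ∃ k : Z a ⟶ Z b, k ≫ i b = i a) {Zinf : Sp S} (iinf : Zinf ⟶ X)
    (hiinf : RepWith @IsClosedImmersion iinf) (hfac : ∀ j, ∃ k : Zinf ⟶ Z j, k ≫ i j = iinf)
    (huniv : ∀ (T : Over S) (f : (yon S).obj T ⟶ X), (∀ j, ∃ k, k ≫ i j = f) → ∃ k, k ≫ iinf = f)
    (hrep : Zinf.obj.IsRepresentable) : ∃ j, (Z j).obj.IsRepresentable := by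
  have := fun j => AlgSpB.mono_of_isClosedImmersion (hi j)
  have := AlgSpB.mono_of_isClosedImmersion hiinf
  have hZ : ∀ j, IsAlgSpace (Z j) := fun j => AlgSpB.isAlgSpace_of_mono_representable hX (i j) (hi j).1
  choose k hk using @hle
  let D : J ⥤ Sp S :=
    { obj := Z
      map := fun {a b} φ => k (leOfHom φ)
      map_id := fun a => (cancel_mono (i a)).1 (by rw [hk, Category.id_comp])
      map_comp := fun {a b c} φ ψ => (cancel_mono (i c)).1 (by rw [hk, Category.assoc, hk, hk]) }
  choose π hπ using hfac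
  let c : Cone D :=
    { pt := Zinf
      π := { app := π, naturality := fun a b φ => (cancel_mono (i b)).1 (by
        show (𝟙 Zinf ≫ π b) ≫ i b = (π a ≫ k (leOfHom φ)) ≫ i b
        rw [Category.id_comp, hπ, Category.assoc, hk, hπ]) } }
  have hex : ∀ s : Cone D, ∃ l : s.pt ⟶ Zinf, ∀ j, l ≫ π j = s.π.app j := by
    intro s
    obtain ⟨j₀⟩ := ‹Nonempty J›
    obtain ⟨l, hl⟩ := exists_factor_of_yon (i := iinf) (s.π.app j₀ ≫ i j₀) fun T g => huniv T _ fun j => by
      obtain ⟨m, hmj, hm₀⟩ := exists_ge_ge (α := Jᵒᵈ) (OrderDual.toDual j) (OrderDual.toDual j₀)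
      have h1 := s.w (homOfLE (show OrderDual.ofDual m ≤ j from hmj))
      have h2 := s.w (homOfLE (show OrderDual.ofDual m ≤ j₀ from hm₀))
      refine ⟨g ≫ s.π.app j, ?_⟩
      rw [← h1, ← h2]
      simp only [Category.assoc]
      congr 2
      exact (hk _).trans (hk _).symm
    refine ⟨l, fun j => (cancel_mono (i j)).1 ?_⟩
    obtain ⟨m, hmj, hm₀⟩ := exists_ge_ge (α := Jᵒᵈ) (OrderDual.toDual j) (OrderDual.toDual j₀)
    rw [Category.assoc, hπ, hl, ← s.w (homOfLE (show OrderDual.ofDual m ≤ j from hmj)),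
      ← s.w (homOfLE (show OrderDual.ofDual m ≤ j₀ from hm₀))]
    simp only [Category.assoc]
    congr 1
    exact (hk _).trans (hk _).symm
  choose l hl using hex
  have hc : IsLimit c :=
    { lift := l
      fac := hl
      uniq := fun s m hm => by
        obtain ⟨j₀⟩ := ‹Nonempty J›
        rw [← cancel_mono iinf, ← hπ j₀, ← Category.assoc, ← Category.assoc, hl s j₀]
        exact congrArg (· ≫ i j₀) (hm j₀) }
  have : IsCofiltered J := IsCofiltered.of_equivalence (orderDualEquivalence Jᵒᵈ).symm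
  refine Groth.Agent.AlgSp.LimScheme.exists_scheme_stage (D := D) (fun j => hZ j) ?_
    (fun j => (qcqs_of_isClosedImmersion hX hqc hqs (hi j)).1) (fun j => (qcqs_of_isClosedImmersion hX hqc hqs (hi j)).2)
    hc hrep
  intro a b φ
  refine (Groth.Agent.AlgSp.isAffineMor_iff _).2 (Groth.Agent.AlgSp.repWith_mono
    (fun g (hg : IsClosedImmersion g) => (inferInstance : IsAffineHom g)) ?_)
  have sqk : IsPullback (𝟙 (Z a)) (D.map φ) (i a) (i b) :=
    IsPullback.of_horiz_isIso_mono ⟨by rw [Category.id_comp]; exact (hk (leOfHom φ)).symm⟩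
  exact MorphismProperty.of_isPullback (P := RepWith (S := S) @IsClosedImmersion) sqk (hi a)

end Groth.Agent.AlgSpB.Art
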