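import Groth.Agent.Thick.Unram
import Mathlib.AlgebraicGeometry.Morphisms.ClosedImmersion
import Mathlib.AlgebraicGeometry.Morphisms.Finite
import Mathlib.RingTheory.Nakayama

/-!
# Closed immersions are detected on nil thickenings
-/

universe u

open CategoryTheory CategoryTheory.Limits AlgebraicGeometry

set_option backward.isDefEq.respectTransparency false
set_option backward.isDefEq.respectTransparency.types false
set_option autoImplicit false

namespace Groth.Agent.AlgSpB.Art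

/-- The kernel of a surjective closed immersion on an affine open consists of nilpotents. -/
theorem isNilpotent_of_mem_ker {V V' : Scheme.{u}} (ι : V' ⟶ V) [Surjective ι] {W : V.Opens}
    (hW : IsAffineOpen W) {a : Γ(V, W)} (ha : (ι.app W).hom a = 0) : IsNilpotent a := by
  have h0 : V.basicOpen a = ⊥ := by
    ext x
    obtain ⟨x', rfl⟩ := ι.surjective x
    refine iff_of_false (fun hx => ?_) (fun h => h.elim)
    have : x' ∈ ι ⁻¹ᵁ V.basicOpen a := hx
    rw [Scheme.preimage_basicOpen, ha, Scheme.basicOpen_zero] at this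
    exact this
  exact (Scheme.isNilpotent_iff_basicOpen_eq_bot_of_isCompact hW.isCompact a).2 h0

/-- A finite morphism which is a closed immersion over a surjective closed subscheme is a closed immersion. -/
theorem isClosedImmersion_of_finite {T T' V V' : Scheme.{u}} {ι : V' ⟶ V} {ιT : T' ⟶ T} {h' : T' ⟶ V'}
    {h : T ⟶ V} (hc : IsPullback ιT h' h ι) [IsClosedImmersion ι] [Surjective ι] [IsFinite h]
    [IsClosedImmersion h'] : IsClosedImmersion h := by
  have : IsAffineHom h := inferInstance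
  rw [isClosedImmersion_iff_isAffineHom]
  refine ⟨‹_›, fun W hW => ?_⟩
  obtain ⟨e, hpo⟩ := Groth.Agent.Thick.Unram.isPushout_appLE hc hW (hW.preimage h) le_rfl
  have hsurj : Function.Surjective (h'.app (ι ⁻¹ᵁ W)).hom := h'.app_surjective _ (hW.preimage ι)
  have hι : Function.Surjective (ι.app W).hom := ι.app_surjective W hW
  let φ := (h.app W).hom
  let I := RingHom.ker (ι.app W).hom
  let J := I.map φ
  have hfin : φ.Finite := h.finite_app W hW
  let πJ : Γ(T, h ⁻¹ᵁ W) ⟶ CommRingCat.of (Γ(T, h ⁻¹ᵁ W) ⧸ J) := CommRingCat.ofHom (Ideal.Quotient.mk J)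
  let σ : Γ(V', ι ⁻¹ᵁ W) ⟶ CommRingCat.of (Γ(T, h ⁻¹ᵁ W) ⧸ J) :=
    CommRingCat.ofHom ((ι.app W).hom.liftOfSurjective hι
      ⟨(Ideal.Quotient.mk J).comp φ, fun x hx => Ideal.Quotient.eq_zero_iff_mem.2 (Ideal.mem_map_of_mem φ hx)⟩)
  have hw : h.appLE W (h ⁻¹ᵁ W) le_rfl ≫ πJ = ι.app W ≫ σ := by
    ext x
    show Ideal.Quotient.mk J ((h.appLE W (h ⁻¹ᵁ W) le_rfl).hom x) = σ.hom ((ι.app W).hom x)
    rw [show σ.hom ((ι.app W).hom x) = Ideal.Quotient.mk J (φ x) from
      RingHom.liftOfRightInverse_comp_apply _ _ _ _ x, Scheme.Hom.appLE_eq_app]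
  letI := φ.toAlgebra
  have : Module.Finite Γ(V, W) Γ(T, h ⁻¹ᵁ W) := hfin
  let N : Submodule Γ(V, W) Γ(T, h ⁻¹ᵁ W) := LinearMap.range (Algebra.linearMap _ _)
  have hJ : (J : Set Γ(T, h ⁻¹ᵁ W)) ⊆ (I • (⊤ : Submodule Γ(V, W) Γ(T, h ⁻¹ᵁ W)) : Submodule _ _) := by
    rw [Ideal.smul_top_eq_map]
    exact fun x hx => hx
  have htop : ⊤ ≤ N ⊔ I • (⊤ : Submodule Γ(V, W) Γ(T, h ⁻¹ᵁ W)) := by
    intro b _
    obtain ⟨a', ha'⟩ := hsurj ((T'.presheaf.map (eqToHom (by rw [← Scheme.Hom.comp_preimage, ← hc.w,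
      Scheme.Hom.comp_preimage])).op).hom ((ιT.app (h ⁻¹ᵁ W)).hom b))
    obtain ⟨a, rfl⟩ := hι a'
    have h1 : πJ.hom b = πJ.hom (φ a) := by
      have e1 := ConcreteCategory.congr_hom (hpo.inl_desc πJ σ hw) b
      have e2 := ConcreteCategory.congr_hom (hpo.inr_desc πJ σ hw) ((ι.app W).hom a)
      have e3 : σ.hom ((ι.app W).hom a) = πJ.hom (φ a) := RingHom.liftOfRightInverse_comp_apply _ _ _ _ a
      rw [← e1, ← e3, ← e2]
      show (hpo.desc πJ σ hw).hom ((ιT.app (h ⁻¹ᵁ W)).hom b) =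
        (hpo.desc πJ σ hw).hom ((h'.appLE (ι ⁻¹ᵁ W) (ιT ⁻¹ᵁ h ⁻¹ᵁ W) e).hom ((ι.app W).hom a))
      congr 1
      rw [Scheme.Hom.appLE, CommRingCat.comp_apply, ha', ← CommRingCat.comp_apply, ← T'.presheaf.map_comp]
      simp
    have hmem := hJ ((Ideal.Quotient.eq).1 h1)
    exact Submodule.mem_sup.2 ⟨φ a, ⟨a, rfl⟩, b - φ a, hmem, by abel⟩
  have hIjac : I ≤ Ideal.jacobson ⊥ := fun x hx =>
    Ideal.ringJacobson_le_jacobson (nilradical_le_jacobson _ (isNilpotent_of_mem_ker ι hW hx))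
  have := Submodule.le_of_le_smul_of_le_jacobson_bot (N' := ⊤) Module.Finite.fg_top hIjac htop
  intro b
  exact this (Submodule.mem_top (x := b))

end Groth.Agent.AlgSpB.Art
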