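import Mathlib.RingTheory.Valuation.LocalSubring
import Mathlib.AlgebraicGeometry.ResidueField
import Mathlib.AlgebraicGeometry.GammaSpecAdjunction

/-!
# Composite valuation rings along two specializations
-/

universe u

open CategoryTheory AlgebraicGeometry IsLocalRing

set_option backward.isDefEq.respectTransparency false
set_option backward.isDefEq.respectTransparency.types false
set_option autoImplicit false

namespace Groth.Agent.AlgSpB.Art

/-- The composite of a valuation ring with a valuation ring of its residue field. -/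
noncomputable def compositeVal {Ω : Type u} [Field Ω] (V₁ : ValuationSubring Ω)
    (V₂ : ValuationSubring (ResidueField V₁)) : ValuationSubring Ω where
  toSubring := (V₂.toSubring.comap (residue V₁)).map V₁.subtype
  mem_or_inv_mem' x := by
    rcases V₁.mem_or_inv_mem x with hx | hx
    · rcases V₂.mem_or_inv_mem (residue V₁ ⟨x, hx⟩) with h | h
      · exact .inl ⟨⟨x, hx⟩, h, rfl⟩
      · by_cases hu : IsUnit (⟨x, hx⟩ : V₁)
        · obtain ⟨w, hw⟩ := hu
          refine .inr ⟨(w⁻¹ : V₁ˣ), ?_, ?_⟩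
          · show residue V₁ ((w⁻¹ : V₁ˣ) : V₁) ∈ V₂
            rwa [map_units_inv, hw]
          · show (((w⁻¹ : V₁ˣ) : V₁) : Ω) = x⁻¹
            refine eq_inv_of_mul_eq_one_left ?_
            have := congrArg Subtype.val w.inv_mul
            rwa [hw] at this
        · refine .inl ⟨⟨x, hx⟩, ?_, rfl⟩
          show residue V₁ ⟨x, hx⟩ ∈ V₂
          rw [(residue_eq_zero_iff _).2 hu]
          exact zero_mem _
    · by_cases hu : IsUnit (⟨x⁻¹, hx⟩ : V₁)
      · obtain ⟨w, hw⟩ := hu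
        rcases V₂.mem_or_inv_mem (residue V₁ ⟨x⁻¹, hx⟩) with h | h
        · exact .inr ⟨⟨x⁻¹, hx⟩, h, rfl⟩
        · refine .inl ⟨(w⁻¹ : V₁ˣ), ?_, ?_⟩
          · show residue V₁ ((w⁻¹ : V₁ˣ) : V₁) ∈ V₂
            rwa [map_units_inv, hw]
          · show (((w⁻¹ : V₁ˣ) : V₁) : Ω) = x
            have := congrArg Subtype.val w.inv_mul
            rw [hw] at this
            exact (eq_inv_of_mul_eq_one_left this).trans (inv_inv x)
      · refine .inr ⟨⟨x⁻¹, hx⟩, ?_, rfl⟩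
        show residue V₁ ⟨x⁻¹, hx⟩ ∈ V₂
        rw [(residue_eq_zero_iff _).2 hu]
        exact zero_mem _

theorem compositeVal_le {Ω : Type u} [Field Ω] (V₁ : ValuationSubring Ω)
    (V₂ : ValuationSubring (ResidueField V₁)) : compositeVal V₁ V₂ ≤ V₁ := by
  rintro _ ⟨x, -, rfl⟩
  exact x.2

theorem mem_compositeVal {Ω : Type u} [Field Ω] (V₁ : ValuationSubring Ω)
    (V₂ : ValuationSubring (ResidueField V₁)) {x : V₁} (hx : residue V₁ x ∈ V₂) :
    (x : Ω) ∈ compositeVal V₁ V₂ :=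
  ⟨x, hx, rfl⟩

/-- Two specializations are realised by a valuation ring and a coarsening of it. -/
theorem exists_valuationSubring_chain {T O : Scheme.{u}} (q : T ⟶ O) {Ω : Type u} [Field Ω]
    (ξ : Spec (CommRingCat.of Ω) ⟶ T) (t : T) (ht : ξ (closedPoint Ω) ⤳ t) (e : O) (he : q t ⤳ e) :
    ∃ (V₁ V : ValuationSubring Ω) (hle : V ≤ V₁) (l₁ : Spec (CommRingCat.of V₁) ⟶ T)
      (y : Spec (CommRingCat.of V) ⟶ O),
      Spec.map (CommRingCat.ofHom V₁.subtype) ≫ l₁ = ξ ∧ l₁ (closedPoint V₁) = t ∧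
      Spec.map (CommRingCat.ofHom (ValuationSubring.inclusion V V₁ hle)) ≫ y = l₁ ≫ q ∧
      y (closedPoint V) = e := by
  let u₀ := ξ (closedPoint Ω)
  obtain ⟨κ, hκ⟩ : ∃ κ : T.residueField u₀ ⟶ CommRingCat.of Ω, Spec.map κ ≫ T.fromSpecResidueField u₀ = ξ :=
    ⟨(T.SpecToEquivOfField Ω ξ).2, (T.SpecToEquivOfField Ω).symm_apply_apply ξ⟩
  let ψ : T.presheaf.stalk t ⟶ CommRingCat.of Ω := T.presheaf.stalkSpecializes ht ≫ T.residue u₀ ≫ κ
  obtain ⟨V₁, h₁, hl₁⟩ := IsLocalRing.exists_factor_valuationRing ψ.hom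
  let ψ₁ : T.presheaf.stalk t ⟶ CommRingCat.of V₁ := CommRingCat.ofHom (ψ.hom.codRestrict V₁.toSubring h₁)
  let χ₁ : O.presheaf.stalk e ⟶ CommRingCat.of V₁ := O.presheaf.stalkSpecializes he ≫ q.stalkMap t ≫ ψ₁
  obtain ⟨V₂, h₂, hl₂⟩ := IsLocalRing.exists_factor_valuationRing ((residue V₁).comp χ₁.hom)
  have hmem : ∀ a, ((χ₁.hom a : V₁) : Ω) ∈ compositeVal V₁ V₂ := fun a => mem_compositeVal V₁ V₂ (h₂ a)
  let χ : O.presheaf.stalk e ⟶ CommRingCat.of (compositeVal V₁ V₂) :=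
    CommRingCat.ofHom ((V₁.subtype.comp χ₁.hom).codRestrict (compositeVal V₁ V₂).toSubring hmem)
  have hloc : IsLocalHom χ.hom := by
    refine ⟨fun a ha => ?_⟩
    obtain ⟨c, hc⟩ := ha.exists_right_inv
    obtain ⟨c₁, hc₁, hc₂⟩ := c.2
    refine hl₂.map_nonunit a (IsUnit.of_mul_eq_one ⟨residue V₁ c₁, hc₁⟩ (Subtype.ext ?_))
    show residue V₁ (χ₁.hom a) * residue V₁ c₁ = 1
    rw [← map_mul, show χ₁.hom a * c₁ = 1 from Subtype.ext ?_, map_one]
    have h := congrArg Subtype.val hc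
    show (χ₁.hom a : Ω) * (c₁ : Ω) = 1
    rw [show (c₁ : Ω) = ((c : compositeVal V₁ V₂) : Ω) from hc₂]
    exact h
  refine ⟨V₁, compositeVal V₁ V₂, compositeVal_le V₁ V₂, Spec.map ψ₁ ≫ T.fromSpecStalk t,
    Spec.map χ ≫ O.fromSpecStalk e, ?_, ?_, ?_, ?_⟩
  · rw [← Spec.map_comp_assoc]
    show Spec.map ψ ≫ _ = ξ
    simp only [ψ, Spec.map_comp, Category.assoc, Scheme.SpecMap_stalkSpecializes_fromSpecStalk]
    exact hκ
  · rw [Scheme.Hom.comp_apply]
    have : Spec.map ψ₁ (closedPoint V₁) = closedPoint (T.presheaf.stalk t) :=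
      letI : IsLocalHom ψ₁.hom := hl₁
      IsLocalRing.comap_closedPoint ψ₁.hom
    rw [this, Scheme.fromSpecStalk_closedPoint]
  · rw [← Spec.map_comp_assoc]
    show Spec.map χ₁ ≫ _ = _
    simp only [χ₁, Spec.map_comp, Category.assoc, Scheme.SpecMap_stalkSpecializes_fromSpecStalk,
      Scheme.SpecMap_stalkMap_fromSpecStalk]
  · rw [Scheme.Hom.comp_apply]
    have : Spec.map χ (closedPoint (compositeVal V₁ V₂)) = closedPoint (O.presheaf.stalk e) :=
      IsLocalRing.comap_closedPoint χ.hom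
    rw [this, Scheme.fromSpecStalk_closedPoint]

end Groth.Agent.AlgSpB.Art
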