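import Groth.Agent.DimIneq.Basic
import Groth.Agent.Wt.GeomPts
import Mathlib.AlgebraicGeometry.Morphisms.QuasiFinite
import Mathlib.RingTheory.DiscreteValuationRing.Basic

/-!
# The closure of a closed point of the generic fibre over a discrete valuation ring is quasi-finite
-/

universe u

open CategoryTheory CategoryTheory.Limits AlgebraicGeometry TopologicalSpace IsLocalRing

set_option backward.isDefEq.respectTransparency false
set_option backward.isDefEq.respectTransparency.types false
set_option autoImplicit false

namespace Groth.Agent.AlgSpB.Art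

/-- A point of the spectrum of a discrete valuation ring is closed or generic. -/
theorem eq_closedPoint_or_eq_bot (A : Type u) [CommRing A] [IsDomain A] [IsDiscreteValuationRing A]
    (p : Spec (CommRingCat.of A)) : p = closedPoint A ∨ p.asIdeal = ⊥ := by
  by_cases h : p.asIdeal = ⊥
  · exact .inr h
  · exact .inl (PrimeSpectrum.ext (IsLocalRing.eq_maximalIdeal (p.2.isMaximal h)))

/-- A dense finite set of closed points of the generic fibre forces quasi-finiteness. -/
theorem locallyQuasiFinite_of_dense_generic {A : Type u} [CommRing A] [IsDomain A] [IsDiscreteValuationRing A]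
    {K : Type u} [Field K] [Algebra A K] [IsFractionRing A K]
    {W E : Scheme.{u}} [IsAffine W] (q : W ⟶ Spec (CommRingCat.of A)) [LocallyOfFiniteType q]
    (e₁ : E ⟶ Spec (CommRingCat.of K)) (e₂ : E ⟶ W)
    (w : e₂ ≫ q = e₁ ≫ Spec.map (CommRingCat.ofHom (algebraMap A K))) [LocallyQuasiFinite e₁]
    [IsClosedImmersion (pullback.lift e₂ e₁ w)] (hd : DenseRange e₂) :
    LocallyQuasiFinite q := by
  let j := Spec.map (CommRingCat.ofHom (algebraMap A K))
  have : IsPreimmersion j := IsPreimmersion.of_isLocalization (nonZeroDivisors A)
  let m := pullback.lift (f := q) (g := j) e₂ e₁ w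
  have : IsAffine E := isAffine_of_isAffineHom m
  have : QuasiCompact e₁ := inferInstance
  have hfin : Finite E := Set.finite_univ_iff.1 ((e₁.finite_preimage_singleton default).subset
    fun x _ => (Subsingleton.elim _ _ : e₁ x = default))
  have hj : Topology.IsInducing j := j.isEmbedding.isInducing
  have hjr : ∀ p, (j p).asIdeal = ⊥ := fun p => by
    show Ideal.comap (algebraMap A K) p.asIdeal = ⊥
    rw [(Ideal.eq_bot_or_top p.asIdeal).resolve_right p.2.ne_top]
    exact Ideal.comap_bot_of_injective _ (IsFractionRing.injective A K)
  have hFη : ∀ e, (q (e₂ e)).asIdeal = ⊥ := fun e => by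
    rw [← Scheme.Hom.comp_apply, w, Scheme.Hom.comp_apply]
    exact hjr _
  have hcl : ∀ x : W, ∃ e, e₂ e ⤳ x := fun x => by
    have hx : x ∈ closure (⋃ e, {e₂ e}) := by rw [Set.iUnion_singleton_eq_range]; exact hd x
    rw [closure_iUnion_of_finite] at hx
    obtain ⟨e, he⟩ := Set.mem_iUnion.1 hx
    exact ⟨e, specializes_iff_mem_closure.2 he⟩
  -- the generic fibre consists of the given points
  have hη : ∀ x : W, (q x).asIdeal = ⊥ → x ∈ Set.range e₂ := fun x hx => by
    obtain ⟨e, he⟩ := hcl x
    obtain ⟨p, hp⟩ : ∃ p, j p = q x := ⟨default, PrimeSpectrum.ext ((hjr _).trans hx.symm)⟩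
    obtain ⟨z, hz1, -⟩ := Scheme.Pullback.exists_preimage_pullback x p (f := q) (g := j) hp.symm
    let π := pullback.fst q j
    have : π z ∈ closure (π '' Set.range m) := by
      rw [hz1, ← Set.range_comp]
      refine closure_mono ?_ (specializes_iff_mem_closure.1 he)
      rintro _ rfl
      exact ⟨e, by rw [Function.comp_apply, ← Scheme.Hom.comp_apply, pullback.lift_fst]⟩
    have hπ : IsPreimmersion π := inferInstance
    rw [← Set.mem_preimage, ← π.isEmbedding.isInducing.closure_eq_preimage_closure_image,
      m.isClosedEmbedding.isClosed_range.closure_eq] at this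
    obtain ⟨e', he'⟩ := this
    exact ⟨e', by rw [← hz1, ← he', ← Scheme.Hom.comp_apply, pullback.lift_fst]⟩
  -- the dimension
  have hdim : topologicalKrullDim W ≤ 1 := by
    have h := Groth.Agent.DimIneq.topologicalKrullDim_le q 0 fun ξ hξ => by
      obtain ⟨e, he⟩ := hcl ξ
      obtain rfl : ξ = e₂ e := by
        have h1 : closure {ξ} ⊆ closure {e₂ e} :=
          closure_minimal (Set.singleton_subset_iff.2 (specializes_iff_mem_closure.1 he)) isClosed_closure
        exact (he.antisymm (specializes_iff_mem_closure.2
          (hξ.2 isIrreducible_singleton.closure h1 (subset_closure rfl)))).eq.symm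
      have : LocallyQuasiFinite j := inferInstance
      have : LocallyQuasiFinite (e₂ ≫ q) := w ▸ (inferInstance : LocallyQuasiFinite (e₁ ≫ j))
      have hf := Groth.Agent.Wt.GeomPts.residueFieldMap_finite (e₂ ≫ q) e
      rw [Scheme.residueFieldMap_comp, CommRingCat.hom_comp] at hf
      letI := (q.residueFieldMap (e₂ e)).hom.toAlgebra
      letI := (e₂.residueFieldMap e).hom.toAlgebra
      letI := ((e₂.residueFieldMap e).hom.comp (q.residueFieldMap (e₂ e)).hom).toAlgebra
      have : IsScalarTower ((Spec (CommRingCat.of A)).residueField (q (e₂ e))) (W.residueField (e₂ e))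
          (E.residueField e) := .of_algebraMap_eq' rfl
      have : Module.Finite ((Spec (CommRingCat.of A)).residueField (q (e₂ e))) (E.residueField e) := hf
      have : Algebra.IsAlgebraic ((Spec (CommRingCat.of A)).residueField (q (e₂ e))) (W.residueField (e₂ e)) :=
        (Algebra.IsAlgebraic.tower_bot_of_injective (A := E.residueField e)
          (algebraMap (W.residueField (e₂ e)) (E.residueField e)).injective)
      exact (trdeg_eq_zero_iff.2 ‹_›).le
    refine h.trans ?_
    rw [Nat.cast_zero, add_zero]
    exact (PrimeSpectrum.topologicalKrullDim_eq_ringKrullDim A).trans_le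
      (IsPrincipalIdealRing.ringKrullDim_eq_one A (IsDiscreteValuationRing.not_isField A)).le
  -- the closed fibre has no specializations
  have : QuasiCompact q := inferInstance
  have : IsLocallyNoetherian W := LocallyOfFiniteType.isLocallyNoetherian q
  have : IsNoetherian W := ⟨⟩
  refine locallyQuasiFinite_iff_finite_preimage_singleton.2 fun p => ?_
  rcases eq_closedPoint_or_eq_bot A p with rfl | hp
  swap
  · exact (Set.finite_range e₂).subset fun x (hx : q x = p) => hη x (hx ▸ hp)
  let C : Set W := q ⁻¹' {closedPoint A}
  have hC : IsClosed C := (IsLocalRing.isClosed_singleton_closedPoint A).preimage q.continuous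
  have hmin : ∀ x ∈ C, ∀ x' ∈ C, x' ⤳ x → x' = x := by
    intro x hx x' hx' hs
    by_contra hne
    obtain ⟨e, he⟩ := hcl x'
    have h0 : e₂ e ≠ x' := fun h => IsDiscreteValuationRing.not_a_field A
      (((congrArg PrimeSpectrum.asIdeal (show q x' = closedPoint A from hx')).symm).trans (h ▸ hFη e))
    let a₀ : IrreducibleCloseds W := ⟨closure {x}, isIrreducible_singleton.closure, isClosed_closure⟩
    let a₁ : IrreducibleCloseds W := ⟨closure {x'}, isIrreducible_singleton.closure, isClosed_closure⟩
    let a₂ : IrreducibleCloseds W := ⟨closure {e₂ e}, isIrreducible_singleton.closure, isClosed_closure⟩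
    have hlt : ∀ {y z : W}, y ⤳ z → y ≠ z →
        (⟨closure {z}, isIrreducible_singleton.closure, isClosed_closure⟩ : IrreducibleCloseds W) <
          ⟨closure {y}, isIrreducible_singleton.closure, isClosed_closure⟩ := fun {y z} h hyz =>
      lt_of_le_not_ge (closure_minimal (Set.singleton_subset_iff.2 (specializes_iff_mem_closure.1 h)) isClosed_closure)
        fun h' => hyz (h.antisymm (specializes_iff_mem_closure.2 (h' (subset_closure rfl)))).eq
    let c : LTSeries (IrreducibleCloseds W) := ((RelSeries.singleton _ a₀).snoc a₁ (hlt hs hne)).snoc a₂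
      (by rw [RelSeries.last_snoc]; exact hlt he h0)
    have := le_trans (Order.LTSeries.length_le_krullDim c) hdim
    rw [show c.length = 2 from rfl] at this
    exact absurd this (by decide)
  have : NoetherianSpace C := inferInstance
  have : QuasiSober C := hC.isClosedEmbedding_subtypeVal.quasiSober
  have hC' : ∀ c : C, closure ({c} : Set C) ∈ irreducibleComponents C := fun c => by
    refine ⟨isIrreducible_singleton.closure, fun Z hZ hle => ?_⟩
    have hg := hZ.isGenericPoint_genericPoint_closure
    have hgc : hZ.genericPoint ⤳ c := hg.specializes (subset_closure (hle (subset_closure rfl)))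
    have h := hmin _ c.2 _ hZ.genericPoint.2 (hgc.map continuous_subtype_val)
    rw [show c = hZ.genericPoint from Subtype.ext h.symm]
    exact fun z hz => (hg.def).symm ▸ subset_closure hz
  have : Finite (irreducibleComponents C) := NoetherianSpace.finite_irreducibleComponents.to_subtype
  refine Set.finite_coe_iff.1 (Finite.of_injective (α := C) (fun c => (⟨_, hC' c⟩ : irreducibleComponents C)) ?_)
  · intro c d h
    exact (Inseparable.eq (inseparable_iff_closure_eq.2 (Subtype.ext_iff.1 h)))

end Groth.Agent.AlgSpB.Art
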