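import Groth.Agent.AlgSp.Diag
import Groth.Agent.AlgSp.AffineMor
import Groth.Agent.AlgSp.LocPFin
import Groth.Agent.AlgSp.QCMor
import Groth.Agent.AlgSpCov.LocP
import Groth.Agent.AlgSpCov.Instances
import Groth.Agent.LimLib.DVRGeneric
import Groth.Prelude.Def_AlgSpMor5

/-!
# Separatedness over Noetherian bases tested on discrete valuation rings
-/

universe u

open CategoryTheory CategoryTheory.Limits AlgebraicGeometry Opposite

set_option backward.isDefEq.respectTransparency false
set_option backward.isDefEq.respectTransparency.types false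
set_option autoImplicit false

namespace Groth.Agent.AlgSpB.Art

open _root_.AlgSp

variable {S : Scheme.{u}}

/-- Separatedness from universal closedness of the diagonal over affine Noetherian charts. -/
theorem isSeparatedMor_of_diag_charts {X Y : Space S} (f : X ⟶ Y) (hqs : IsQuasiSeparatedMor f.hom)
    (hft : LocP @LocallyOfFiniteType f.hom) (hY : IsLocNoethSp Y.obj)
    (H : ∀ (V W : Over S) (g : (yon S).obj V ⟶ pullback f.hom f.hom) (fst : (yon S).obj W ⟶ X.obj) (snd : W ⟶ V),
      IsAffine V.left → IsLocallyNoetherian V.left → RepWith @Etale g →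
      IsPullback fst ((yon S).map snd) (pullback.diagonal f.hom) g →
      LocallyOfFiniteType snd.left → Mono snd.left → QuasiCompact snd.left → UniversallyClosed snd.left) :
    IsSeparatedMor f.hom := by
  have hPa : IsAlgSpace (pullback f.hom f.hom) :=
    Groth.Agent.AlgSp.isAlgSpace_pullback Y.property X.property X.property f.hom f.hom
  have hN : IsLocNoethSp (pullback f.hom f.hom) :=
    Groth.Agent.AlgSp.isLocNoethSp_of_lft hPa X.property (pullback.fst f.hom f.hom)
      (AlgSpCov.locP_baseChange AlgSpCov.etaleLocal_locallyOfFiniteType X.property Y.property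
        (IsPullback.of_hasPullback f.hom f.hom).flip hft)
      (Groth.Agent.AlgSp.isLocNoethSp_of_lft X.property Y.property f.hom hft hY)
  obtain ⟨V₀, q, hq, hqsur, hV₀⟩ := hN
  obtain ⟨hrep, hl, hm, -⟩ := Groth.Agent.AlgSp.diagonal_props X.property f.hom
  obtain ⟨W₀, snd, fst, sq⟩ := hrep q
  have : IsLocallyNoetherian V₀.left := hV₀
  have : Sheaf.IsLocallySurjective q := Groth.Agent.AlgSp.isLocallySurjective_of_etale_surjective q hq hqsur
  refine Groth.Agent.AlgSp.repWith_isClosedImmersion_of_baseChange _ q sq ((repWith_yon_map_iff _ _).2 ?_)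
  rw [IsZariskiLocalAtTarget.iff_of_iSup_eq_top (P := @IsClosedImmersion) (fun O : V₀.left.affineOpens => O.1)
    (iSup_affineOpens_eq_top _)]
  intro O
  let A : Over S := Over.mk (O.1.ι ≫ V₀.hom)
  let B : Over S := Over.mk ((snd.left ⁻¹ᵁ O.1).ι ≫ W₀.hom)
  let b : B ⟶ A := Over.homMk (snd.left ∣_ O.1) (by
    change (snd.left ∣_ O.1) ≫ O.1.ι ≫ V₀.hom = (snd.left ⁻¹ᵁ O.1).ι ≫ W₀.hom
    rw [morphismRestrict_ι_assoc, Over.w snd])
  let i : B ⟶ W₀ := Over.homMk (snd.left ⁻¹ᵁ O.1).ι rfl
  let j : A ⟶ V₀ := Over.homMk O.1.ι rfl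
  have : IsAffine A.left := O.2
  have : IsLocallyNoetherian A.left := inferInstanceAs (IsLocallyNoetherian O.1.toScheme)
  have hsq : IsPullback i b snd j :=
    IsPullback.of_map (Over.forget S) (by ext; exact (morphismRestrict_ι _ _).symm)
      (isPullback_morphismRestrict snd.left O.1).flip
  have sqA := (hsq.map (yon S)).paste_horiz sq
  have : Etale j.left := inferInstanceAs (Etale O.1.ι)
  have hje := Groth.Agent.AlgSpB.repWith_etale_map_comp j hq
  have h1 : LocallyOfFiniteType b.left := hl.2 _ _ _ sqA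
  have h2 : Mono b.left := hm.2 _ _ _ sqA
  have h3 : QuasiCompact b.left := hqs.2 _ _ _ sqA
  have h4 := H A B _ _ b ‹_› ‹_› hje sqA h1 h2 h3
  change IsClosedImmersion b.left
  exact (IsClosedImmersion.iff_isProper_and_mono b.left).2 ⟨⟨⟩, inferInstance⟩

/-- Two arrows on a scheme agreeing in the spaces give a point of the base changed diagonal. -/
theorem exists_lift_diag {X Y : Sp S} {f : X ⟶ Y} {V W T : Over S} {g : (yon S).obj V ⟶ pullback f f}
    {fst : (yon S).obj W ⟶ X} {snd : W ⟶ V} (sq : IsPullback fst ((yon S).map snd) (pullback.diagonal f) g)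
    (i : T ⟶ V) (h : (yon S).map i ≫ g ≫ pullback.fst f f = (yon S).map i ≫ g ≫ pullback.snd f f) :
    ∃ m : T ⟶ W, m ≫ snd = i := by
  obtain ⟨m, hm⟩ := (yon S).map_surjective (sq.lift ((yon S).map i ≫ g ≫ pullback.fst f f) ((yon S).map i) (by
    apply pullback.hom_ext
    · simp
    · simpa using h))
  exact ⟨m, (yon S).map_injective (by rw [Functor.map_comp, hm, sq.lift_snd])⟩

end Groth.Agent.AlgSpB.Art
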