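import Groth.Agent.AlgSpB.Art.DVRCurve
import Groth.Agent.AlgSpB.RedInduced
import Groth.Agent.AlgSpD.ProperMor
import Groth.Agent.AlgSp.NormQf
import Groth.Agent.AlgSp.ProperSub
import Groth.Agent.AlgSp.QCMor
import Groth.Agent.AlgSpCov.LocPBasic
import Groth.Agent.AlgSpCov.Listed
import Groth.Agent.AlgSpB.Open
import Groth.Agent.AlgSpB.Charts
import Groth.Prelude.Def_AlgSpMor5
import Mathlib.AlgebraicGeometry.ValuativeCriterion

/-!
# Proper morphisms have dotted arrows for squares over discrete valuation rings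
-/

universe u

open CategoryTheory CategoryTheory.Limits AlgebraicGeometry Opposite

set_option backward.isDefEq.respectTransparency false
set_option backward.isDefEq.respectTransparency.types false
set_option autoImplicit false

namespace Groth.Agent.AlgSpB.Art

open _root_.AlgSp

variable {S : Scheme.{u}}

/-- The closure of a point of the generic fibre of a proper space over a discrete valuation ring is quasi-finite. -/
theorem locP_lqf_of_closure_section {A : Type u} [CommRing A] [IsDomain A] [IsDiscreteValuationRing A]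
    {K : Type u} [Field K] [Algebra A K] [IsFractionRing A K] {cA cK : Over S}
    (eA : cA.left ≅ Spec (CommRingCat.of A)) (eK : cK.left ≅ Spec (CommRingCat.of K)) (j : cK ⟶ cA)
    (hj : j.left = eK.hom ≫ Spec.map (CommRingCat.ofHom (algebraMap A K)) ≫ eA.inv)
    {Z : Sp S} (hZ : IsAlgSpace Z) (π : Z ⟶ (yon S).obj cA) (hπs : IsSeparatedMor π)
    (hπf : IsFiniteTypeMor π) (σ : (yon S).obj cK ⟶ Z) (hσ : σ ≫ π = (yon S).map j)
    (hd : Dense (Set.range (Points.map σ))) :
    LocP (@LocallyQuasiFinite ⊓ @LocallyOfFiniteType) π := by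
  have : IsAffine cA.left := IsAffine.of_isIso eA.hom
  have : IsAffine cK.left := IsAffine.of_isIso eK.hom
  have hqsp : IsQuasiCompactSp Z := hπf.2 (IsAlgSpace.yon_obj cA) (Groth.Agent.AlgSp.isQuasiCompactSp_yon cA)
    (𝟙 _) (𝟙 _) π (IsPullback.id_horiz π)
  have := AlgSpB.compactSpace_points_of_isQuasiCompactSp hqsp
  obtain ⟨W₀, a₀, ha₀, has₀⟩ := hZ.atlas
  obtain ⟨W, e, hW, ha, has⟩ := AlgSpB.exists_affine_chart_of_compactSpace ha₀ has₀
  generalize (yon S).map e ≫ a₀ = a at ha has
  obtain ⟨q, hq⟩ := (yon S).map_surjective (a ≫ π)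
  have : IsAffine W.left := hW
  have hlft : LocallyOfFiniteType q.left := hπf.1 a (𝟙 _) q ha (repWith_id _ _) (by rw [Category.comp_id]; exact hq.symm)
  obtain ⟨E, e₂, e₁, sE⟩ := AlgSpB.exists_pullback_yon ha.1 σ
  have he₁ : Etale e₁.left := ha.2 _ _ _ sE
  have hes : Surjective e₁.left := has.2 _ _ _ sE
  have hc : e₂ ≫ q = e₁ ≫ j := (yon S).map_injective (by
    rw [Functor.map_comp, Functor.map_comp, hq, ← hσ, reassoc_of% sE.w])
  have hw : e₂.left ≫ q.left ≫ eA.hom =
      (e₁.left ≫ eK.hom) ≫ Spec.map (CommRingCat.ofHom (algebraMap A K)) := by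
    rw [← Category.assoc, ← Over.comp_left, hc, Over.comp_left, hj]; simp
  have : LocallyOfFiniteType (q.left ≫ eA.hom) := inferInstance
  have := AlgSpB.locallyQuasiFinite_of_etale e₁.left
  have : LocallyQuasiFinite (e₁.left ≫ eK.hom) := inferInstance
  -- the graph is a closed immersion
  let m := pullback.lift (f := q.left ≫ eA.hom) (g := Spec.map (CommRingCat.ofHom (algebraMap A K)))
    e₂.left (e₁.left ≫ eK.hom) hw
  have : IsClosedImmersion m := by
    let G : Over S := pullback q j
    let mG : E ⟶ G := pullback.lift e₂ e₁ hc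
    have hG : IsClosedImmersion mG.left := by
      refine (repWith_yon_map_iff _ _).1 ?_
      have sG := (IsPullback.of_hasPullback q j).map (yon S)
      let φ : pullback a σ ⟶ pullback (a ≫ π) (σ ≫ π) := pullback.mapDesc a σ π
      have hφ : RepWith @IsClosedImmersion φ :=
        Groth.Agent.AlgSp.mapDesc_mem_of_diagonal (Q := RepWith @IsClosedImmersion) a σ π hπs
      rw [hq, ← hσ] at sG
      let i₁ : (yon S).obj E ≅ pullback a σ := sE.isoPullback
      let i₂ : (yon S).obj G ≅ pullback (a ≫ π) (σ ≫ π) := sG.isoPullback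
      have : (yon S).map mG = i₁.hom ≫ φ ≫ i₂.inv := by
        rw [← Category.assoc, Iso.eq_comp_inv]
        apply pullback.hom_ext <;> simp [φ, i₁, i₂, mG, pullback.mapDesc, ← Functor.map_comp]
      rw [this]
      exact (MorphismProperty.cancel_left_of_respectsIso _ _ _).2
        ((MorphismProperty.cancel_right_of_respectsIso _ _ _).2 hφ)
    have sF := (IsPullback.of_hasPullback q j).map (Over.forget S)
    have sF' : IsPullback (pullback.fst q j).left ((pullback.snd q j).left ≫ eK.hom) (q.left ≫ eA.hom)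
        (Spec.map (CommRingCat.ofHom (algebraMap A K))) :=
      IsPullback.of_iso sF (Iso.refl _) (Iso.refl _) eK eA (by simp) (by simp) (by simp) (by
        show j.left ≫ eA.hom = eK.hom ≫ _
        rw [hj]; simp)
    have : m = mG.left ≫ sF'.isoPullback.hom := by
      apply pullback.hom_ext
      · rw [pullback.lift_fst, Category.assoc, sF'.isoPullback_hom_fst, ← Over.comp_left, pullback.lift_fst]
      · rw [pullback.lift_snd, Category.assoc, sF'.isoPullback_hom_snd, ← Category.assoc, ← Over.comp_left,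
          pullback.lift_snd]
    rw [this]
    infer_instance
  have hde : DenseRange e₂.left := by
    have h1 : Set.range e₂.left = Points.ofPt a ⁻¹' Set.range (Points.map σ) := by
      ext w
      constructor
      · rintro ⟨z, rfl⟩
        exact ⟨Points.schemeEquiv cK (e₁.left z), (Points.ofPt_eq_map_ofScheme σ _).symm.trans (by
          rw [← AlgSpB.ofPt_map_comp, ← sE.w, AlgSpB.ofPt_map_comp])⟩
      · rintro ⟨c, hc⟩
        obtain ⟨d, hd1, -⟩ := AlgSpB.exists_of_isPullback sE (Points.schemeEquiv W w) c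
          ((Points.ofPt_eq_map_ofScheme a w).symm.trans hc.symm)
        obtain ⟨z, rfl⟩ := (Points.schemeEquiv E).surjective d
        exact ⟨z, (Points.schemeEquiv W).injective ((Points.map_yon_map_apply e₂ z).symm.trans hd1)⟩
    show Dense (Set.range e₂.left)
    rw [h1]
    exact hd.preimage (AlgSpB.isOpenMap_ofPt ha)
  have hqf : LocallyQuasiFinite (q.left ≫ eA.hom) :=
    locallyQuasiFinite_of_dense_generic (q.left ≫ eA.hom) (e₁.left ≫ eK.hom) e₂.left hw hde
  refine AlgSpCov.locP_of_one_chart (P := @LocallyQuasiFinite ⊓ @LocallyOfFiniteType)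
    (AlgSpCov.etaleLocal_locallyQuasiFinite.inf AlgSpCov.etaleLocal_locallyOfFiniteType)
    (fun _ _ e he => ⟨AlgSpB.locallyQuasiFinite_of_etale e, inferInstance⟩)
    (IsAlgSpace.yon_obj cA) ha has (repWith_id _ _) (by rw [Category.comp_id]; exact hq.symm) ⟨?_, hlft⟩
  exact LocallyQuasiFinite.of_comp q.left eA.hom

/-- A proper morphism has a dotted arrow for each square over a discrete valuation ring. -/
theorem hasLift_of_isProperMor {X Y : Space S} (f : X ⟶ Y) (hf : IsProperMor f.hom) (sq : ValSq f.hom)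
    [IsDiscreteValuationRing sq.A] : sq.HasLift := by
  let P : Space S := ⟨pullback f.hom sq.bot,
    Groth.Agent.AlgSp.isAlgSpace_pullback Y.property X.property (IsAlgSpace.yon_obj sq.ptA) f.hom sq.bot⟩
  let π : P.obj ⟶ (yon S).obj sq.ptA := pullback.snd f.hom sq.bot
  have hπ : IsProperMor π :=
    AlgSpD.isProperMor_baseChange X.property Y.property (IsPullback.of_hasPullback f.hom sq.bot) hf
  let σ : (yon S).obj sq.ptK ⟶ P.obj := pullback.lift sq.top ((yon S).map sq.j) sq.comm
  obtain ⟨Z₀, i₀, hZ, hi, hir, hred⟩ :=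
    AlgSpB.exists_redInduced P.property (closure (Set.range (Points.map σ))) isClosed_closure
  let Z : Space S := ⟨Z₀, hZ⟩
  have hρ : IsProperMor (i₀ ≫ π) := AlgSpD.isProperMor_comp (X := Z) (Y := P) (Z := ⟨_, IsAlgSpace.yon_obj sq.ptA⟩)
    (Groth.Agent.AlgSp.isProperMor_of_isClosedImmersion P.property hi) hπ
  have : IsReduced sq.ptK.left := inferInstanceAs (IsReduced (Spec (CommRingCat.of sq.K)))
  obtain ⟨σ', hσ'⟩ := AlgSpB.exists_lift_yon_of_isClosedImmersion hi σ (by
    rintro _ ⟨t, rfl⟩
    rw [hir, Points.ofPt_eq_map_ofScheme]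
    exact subset_closure ⟨_, rfl⟩)
  have hind : Topology.IsInducing (Points.map i₀) :=
    have := Groth.Agent.AlgSpB.mono_of_isClosedImmersion hi
    (Topology.IsClosedEmbedding.of_continuous_injective_isClosedMap (Points.continuous_map i₀)
      (Groth.Agent.AlgSpB.injective_map_of_mono i₀)
      (Groth.Agent.AlgSp.isClosedMap_map_of_repWith (Groth.Agent.AlgSp.repWith_mono
        (Q := @UniversallyClosed) (fun g (hg : IsClosedImmersion g) => (inferInstance : UniversallyClosed g)) hi))).isInducing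
  have hdense : Dense (Set.range (Points.map σ')) := fun z => by
    rw [hind.closure_eq_preimage_closure_image, ← Set.range_comp, Set.mem_preimage]
    have : Points.map i₀ ∘ Points.map σ' = Points.map σ := by
      funext c; rw [Function.comp_apply, ← Points.map_comp, hσ']
    rw [this, ← hir]
    exact ⟨z, rfl⟩
  have hσρ : σ' ≫ i₀ ≫ π = (yon S).map sq.j := by rw [reassoc_of% hσ']; exact pullback.lift_snd _ _ _
  have hqf := locP_lqf_of_closure_section (A := sq.A) (K := sq.K) (cA := sq.ptA) (cK := sq.ptK) (Iso.refl _)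
    (Iso.refl _) sq.j (by simp) hZ (i₀ ≫ π) hρ.1 hρ.2.1 σ' hσρ hdense
  obtain ⟨W, u, w, sW, -, -, -, hwqc⟩ := Groth.Agent.AlgSp.exists_chart_lqf_sep (X := Z)
    (Y := ⟨_, IsAlgSpace.yon_obj sq.ptA⟩) hqf hρ.2.1.2 hρ.1 (𝟙 _)
  have huc : UniversallyClosed w.left := (repWith_yon_map_iff _ _).1
    ((Groth.Agent.AlgSp.repWith_universallyClosed_iff _ (representable_yon_map w)).2
      (Groth.Agent.AlgSp.isUnivClosedMor_baseChange sW hρ.2.2))
  obtain ⟨τ, hτ⟩ := (yon S).map_surjective (sW.lift σ' ((yon S).map sq.j) (by rw [Category.comp_id, hσρ]))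
  have hτw : τ ≫ w = sq.j := (yon S).map_injective (by rw [Functor.map_comp, hτ, sW.lift_snd])
  have hex : ValuativeCriterion.Existence w.left := (UniversallyClosed.eq_valuativeCriterion ▸ huc :
    (ValuativeCriterion.Existence ⊓ @QuasiCompact) w.left).1
  let S' : ValuativeCommSq w.left :=
    { R := sq.A, K := sq.K, i₁ := τ.left, i₂ := 𝟙 _
      commSq := ⟨by rw [Category.comp_id, ← Over.comp_left, hτw]; rfl⟩ }
  obtain ⟨⟨l, hl1, hl2⟩⟩ := hex S'
  let lO : sq.ptA ⟶ W := Over.homMk l (by
    rw [← Over.w w, reassoc_of% hl2]; exact Category.id_comp _)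
  have hl : sq.j ≫ lO = τ := Over.OverMorphism.ext hl1
  have hlw : lO ≫ w = 𝟙 _ := Over.OverMorphism.ext hl2
  refine ⟨(yon S).map lO ≫ u ≫ i₀ ≫ pullback.fst f.hom sq.bot, ?_, ?_⟩
  · rw [← Functor.map_comp_assoc, hl, hτ, sW.lift_fst_assoc, reassoc_of% hσ']
    exact pullback.lift_fst _ _ _
  · simp only [Category.assoc]
    rw [pullback.condition, ← Category.assoc i₀, sW.w_assoc, ← Functor.map_comp_assoc, hlw]
    simp

end Groth.Agent.AlgSpB.Art
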