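import Groth.Agent.AlgSpB.Art.CompositeVal
import Groth.Agent.DVRCrit.Basic
import Groth.Agent.Wt.GeomPts
import Groth.Agent.S10290
import Groth.Agent.AlgSp.NormQf
import Groth.Agent.AlgSpB.Points
import Groth.Agent.AlgSpB.Charts
import Groth.Agent.AlgSp.PointsMor
import Groth.Agent.AlgSp.Diag
import Groth.Agent.AlgSp.QCMor
import Groth.Agent.AlgSpCov.Listed
import Groth.Agent.AlgSpCov.LocP
import Groth.Agent.SchPoints.Basic
import Groth.Prelude.Def_AlgSpMor5

/-!
# Lifts of discrete valuation squares from a dense subspace give lifts of composite valuations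
-/

universe u

open CategoryTheory CategoryTheory.Limits AlgebraicGeometry Opposite IsLocalRing

set_option backward.isDefEq.respectTransparency false
set_option backward.isDefEq.respectTransparency.types false
set_option autoImplicit false

namespace Groth.Agent.AlgSpB.Art

open _root_.AlgSp Groth.Agent.DVRCrit

variable {S : Scheme.{u}}

/-- A map of a scheme into an affine scheme with affine diagonal data has finitely many geometric lifts. -/
theorem finite_geometric_lifts {O T : Over S} [IsAffine O.left] [IsAffine T.left] {P : Sp S}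
    (hP : IsAlgSpace P) (π : P ⟶ (yon S).obj O) (hπ : IsSeparatedMor π) (a : (yon S).obj T ⟶ P)
    (ha : RepWith @Etale a) {Ω : Type u} [Field Ω] [IsAlgClosed Ω] {cΩ : Over S}
    (eΩ : cΩ.left ≅ Spec (CommRingCat.of Ω)) (ξ : cΩ ⟶ T) :
    {g : cΩ ⟶ T | (yon S).map g ≫ a = (yon S).map ξ ≫ a}.Finite := by
  obtain ⟨R, r₁, r₂, sR⟩ := AlgSpB.exists_pullback_yon ha.1 a
  have : Etale r₁.left := ha.2 _ _ _ sR.flip
  obtain ⟨q, hq⟩ := (yon S).map_surjective (a ≫ π)
  have : IsAffineHom q.left := isAffineHom_of_isAffine q.left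
  let G : Over S := pullback q q
  let m : R ⟶ G := pullback.lift r₁ r₂ ((yon S).map_injective (by
    rw [Functor.map_comp, Functor.map_comp, hq, reassoc_of% sR.w]))
  have hm : IsClosedImmersion m.left := by
    refine (repWith_yon_map_iff _ _).1 ?_
    have sG := (IsPullback.of_hasPullback q q).map (yon S)
    rw [hq] at sG
    let φ : pullback a a ⟶ pullback (a ≫ π) (a ≫ π) := pullback.mapDesc a a π
    have hφ : RepWith @IsClosedImmersion φ :=
      Groth.Agent.AlgSp.mapDesc_mem_of_diagonal (Q := RepWith @IsClosedImmersion) a a π hπ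
    have : (yon S).map m = sR.isoPullback.hom ≫ φ ≫ sG.isoPullback.inv := by
      rw [← Category.assoc, Iso.eq_comp_inv]
      apply pullback.hom_ext <;> simp [φ, m, pullback.mapDesc, ← Functor.map_comp]
    rw [this]
    exact (MorphismProperty.cancel_left_of_respectsIso _ _ _).2
      ((MorphismProperty.cancel_right_of_respectsIso _ _ _).2 hφ)
  have : IsAffine G.left := by
    have : IsAffine ((Over.forget S).obj T) := ‹IsAffine T.left›
    have : IsAffineHom ((Over.forget S).map q) := ‹_›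
    exact IsAffine.of_isPullback ((IsPullback.of_hasPullback q q).map (Over.forget S))
  have : IsAffine R.left := isAffine_of_isAffineHom m.left
  have := AlgSpB.locallyQuasiFinite_of_etale r₁.left
  let y : Spec (CommRingCat.of Ω) ⟶ T.left := eΩ.inv ≫ ξ.left
  have : Finite {u : R.left // r₁.left u = Groth.Agent.Wt.GeomPts.pt y} :=
    (r₁.left.finite_preimage_singleton _).to_subtype
  have := Groth.Agent.Wt.GeomPts.finite_geomFib r₁.left y
  refine ((Set.finite_range (fun x : Groth.Agent.Wt.GeomPts.GeomFib r₁.left y => eΩ.hom ≫ x.1 ≫ r₂.left)).preimage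
    (f := fun g : cΩ ⟶ T => g.left) fun g _ g' _ h => Over.OverMorphism.ext h).subset ?_
  intro g hg
  obtain ⟨l, hl⟩ := (yon S).map_surjective (sR.lift ((yon S).map ξ) ((yon S).map g) hg.symm)
  have h1 : l ≫ r₁ = ξ := (yon S).map_injective (by rw [Functor.map_comp, hl, sR.lift_fst])
  have h2 : l ≫ r₂ = g := (yon S).map_injective (by rw [Functor.map_comp, hl, sR.lift_snd])
  refine ⟨⟨eΩ.inv ≫ l.left, ?_⟩, ?_⟩
  · rw [Category.assoc, ← Over.comp_left, h1]
  · simp [← h2]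

/-- A field generated by an affine scheme of finite type over an affine scheme. -/
theorem exists_finite_generators {T O : Scheme.{u}} [IsAffine T] [IsAffine O] (q : T ⟶ O)
    [LocallyOfFiniteType q] {Ω : Type u} [Field Ω] (g : Spec (CommRingCat.of Ω) ⟶ T) :
    ∃ s : Set Ω, s.Finite ∧ ∀ L : Subfield Ω,
      (∀ a, (ev (g ≫ q) ⊤ (fun _ => trivial)).hom a ∈ L) → s ⊆ L →
        ∀ b, (ev g ⊤ (fun _ => trivial)).hom b ∈ L := by
  classical
  have hft : (q.appLE ⊤ ⊤ le_top).hom.FiniteType :=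
    q.finiteType_appLE (isAffineOpen_top O) (isAffineOpen_top T) _
  algebraize [(q.appLE ⊤ ⊤ le_top).hom]
  obtain ⟨G, hG⟩ := (inferInstance : Algebra.FiniteType Γ(O, ⊤) Γ(T, ⊤)).out
  refine ⟨(ev g ⊤ (fun _ => trivial)).hom '' G, G.finite_toSet.image _, fun L hA hs b => ?_⟩
  have hb : b ∈ Algebra.adjoin Γ(O, ⊤) (G : Set Γ(T, ⊤)) := by rw [hG]; trivial
  induction hb using Algebra.adjoin_induction with
  | mem x hx => exact hs ⟨x, hx, rfl⟩
  | algebraMap a =>
    have e := ev_comp_right q g (U := ⊤) (O := ⊤) le_top (fun _ => trivial)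
    have := hA a
    rw [e] at this
    exact this
  | add x y _ _ hx hy => rw [map_add]; exact add_mem hx hy
  | mul x y _ _ hx hy => rw [map_mul]; exact mul_mem hx hy

/-- A morphism to an affine scheme with values in a subfield factors through it. -/
theorem exists_factor_subfield {T : Scheme.{u}} [IsAffine T] {Ω : Type u} [Field Ω] (L : Subfield Ω)
    (g : Spec (CommRingCat.of Ω) ⟶ T) (h : ∀ b, (ev g ⊤ (fun _ => trivial)).hom b ∈ L) :
    ∃ g₀ : Spec (CommRingCat.of L) ⟶ T, Spec.map (CommRingCat.ofHom L.subtype) ≫ g₀ = g :=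
  ⟨Spec.map (CommRingCat.ofHom ((ev g ⊤ (fun _ => trivial)).hom.codRestrict L h)) ≫ (isAffineOpen_top T).fromSpec,
    by rw [← Spec.map_comp_assoc]; exact eq_map_ev_fromSpec g (isAffineOpen_top T) (fun _ => trivial)⟩

/-- A morphism into an affine scheme is determined by its composite with an injection of rings. -/
theorem eq_of_map_comp {O : Scheme.{u}} [IsAffine O] {L Ω : CommRingCat.{u}} (φ : L ⟶ Ω)
    (hφ : Function.Injective φ.hom) {x y : Spec L ⟶ O} (h : Spec.map φ ≫ x = Spec.map φ ≫ y) : x = y := by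
  rw [← eq_map_ev_fromSpec x (isAffineOpen_top O) (fun _ => trivial),
    ← eq_map_ev_fromSpec y (isAffineOpen_top O) (fun _ => trivial)]
  congr 2
  ext a
  apply hφ
  have := ConcreteCategory.congr_hom (ev_congr h ⊤ (fun _ => trivial) (fun _ => trivial)) a
  rw [ev_comp φ x ⊤ (fun _ => trivial), ev_comp φ y ⊤ (fun _ => trivial)] at this
  exact this

/-- One geometric generic point of the chart stays integral for a valuation ring, provided squares over discrete
valuation rings from the dense subspace lift. -/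
theorem exists_lift_valuation {U X Y : Space S} (h : U ⟶ X) (f : X ⟶ Y) (hfs : IsSeparatedMor f.hom)
    (hval : ∀ sq : ValSq (h.hom ≫ f.hom), IsDiscreteValuationRing sq.A →
      ∃ l : (yon S).obj sq.ptA ⟶ X.obj, (yon S).map sq.j ≫ l = sq.top ≫ h.hom ∧ l ≫ f.hom = sq.bot)
    {O : Over S} [IsAffine O.left] [IsLocallyNoetherian O.left] (b : (yon S).obj O ⟶ Y.obj)
    {T : Over S} [IsAffine T.left] (a : (yon S).obj T ⟶ pullback f.hom b) (ha : RepWith @Etale a)
    (has : RepWith @Surjective a) (q : T ⟶ O) (hq : a ≫ pullback.snd f.hom b = (yon S).map q)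
    [LocallyOfFiniteType q.left] {W : Over S} [IsAffine W.left] (r : W ⟶ T) [LocallyOfFiniteType r.left]
    (w : (yon S).obj W ⟶ U.obj) (hw : w ≫ h.hom = (yon S).map r ≫ a ≫ pullback.fst f.hom b)
    {Ω : Type u} [Field Ω] [IsAlgClosed Ω] {cΩ : Over S} (eΩ : cΩ.left ≅ Spec (CommRingCat.of Ω))
    (ζ : cΩ ⟶ W) (V : ValuationSubring Ω) (yV : Spec (CommRingCat.of V) ⟶ O.left)
    (hy : Spec.map (CommRingCat.ofHom V.subtype) ≫ yV = eΩ.inv ≫ (ζ ≫ r ≫ q).left) :
    ∃ g : cΩ ⟶ T, (yon S).map g ≫ a = (yon S).map (ζ ≫ r) ≫ a ∧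
      ∀ x, (ev (eΩ.inv ≫ g.left) ⊤ (fun _ => trivial)).hom x ∈ V := by
  classical
  have hP := Groth.Agent.AlgSp.isAlgSpace_pullback Y.property X.property (IsAlgSpace.yon_obj O) f.hom b
  have hπs : IsSeparatedMor (pullback.snd f.hom b) :=
    Groth.Agent.AlgSp.isSeparatedMor_baseChange' (IsPullback.of_hasPullback f.hom b) hfs
  by_contra! hcon
  have hGfin := finite_geometric_lifts hP (pullback.snd f.hom b) hπs a ha eΩ (ζ ≫ r)
  let G := hGfin.toFinset
  have hGmem : ∀ g, g ∈ G ↔ (yon S).map g ≫ a = (yon S).map (ζ ≫ r) ≫ a := fun g => hGfin.mem_toFinset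
  have hov : ∀ g ∈ G, eΩ.inv ≫ g.left ≫ q.left = eΩ.inv ≫ (ζ ≫ r ≫ q).left := fun g hg => by
    rw [← Over.comp_left]
    congr 2
    apply (yon S).map_injective
    rw [Functor.map_comp, ← hq, reassoc_of% ((hGmem g).1 hg), hq, ← Functor.map_comp, Category.assoc]
  choose! β hβ using fun g (hg : g ∈ G) => hcon g ((hGmem g).1 hg)
  let ζ₀ := eΩ.inv ≫ ζ.left
  have : LocallyOfFiniteType (r ≫ q).left := inferInstanceAs (LocallyOfFiniteType (r.left ≫ q.left))
  obtain ⟨sW, hsW, hgenW⟩ := exists_finite_generators (r ≫ q).left ζ₀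
  choose sT hsT hgenT using fun g : cΩ ⟶ T => exists_finite_generators q.left (eΩ.inv ≫ g.left)
  let φ := (ev (eΩ.inv ≫ (ζ ≫ r ≫ q).left) ⊤ (fun _ => trivial)).hom
  let gens : Set Ω := sW ∪ ⋃ g ∈ G, sT g
  have hgens : gens.Finite := hsW.union (G.finite_toSet.biUnion fun g _ => hsT g)
  let L : Subfield Ω := Subfield.closure (Set.range φ ∪ gens)
  have hφL : ∀ x, φ x ∈ L := fun x => Subfield.subset_closure (Or.inl ⟨x, rfl⟩)
  have hWL : ∀ x, (ev ζ₀ ⊤ (fun _ => trivial)).hom x ∈ L := hgenW L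
    (by rw [ev_congr (show ζ₀ ≫ (r ≫ q).left = eΩ.inv ≫ (ζ ≫ r ≫ q).left by simp [ζ₀]) ⊤ _ (fun _ => trivial)]; exact hφL)
    (fun x hx => Subfield.subset_closure (Or.inr (Or.inl hx)))
  have hTL : ∀ g ∈ G, ∀ x, (ev (eΩ.inv ≫ g.left) ⊤ (fun _ => trivial)).hom x ∈ L := fun g hg => hgenT g L
    (by rw [ev_congr (show (eΩ.inv ≫ g.left) ≫ q.left = _ from (Category.assoc _ _ _).trans (hov g hg)) ⊤ _ (fun _ => trivial)]; exact hφL)
    (fun x hx => Subfield.subset_closure (Or.inr (Or.inr (Set.mem_biUnion hg hx))))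
  let φL : Γ(O.left, ⊤) →+* L := φ.codRestrict L hφL
  have hgenL : Subfield.closure (Set.range φL ∪ L.subtype ⁻¹' gens) = ⊤ := by
    refine eq_top_iff.2 fun x _ => ?_
    have hx : L.subtype x ∈ (Subfield.closure (Set.range φL ∪ L.subtype ⁻¹' gens)).map L.subtype := by
      rw [RingHom.map_field_closure, Set.image_union, ← Set.range_comp]
      refine Subfield.closure_mono ?_ x.2
      refine Set.union_subset_union (fun z hz => ?_) fun z hz => ?_
      · exact hz
      · exact ⟨⟨z, Subfield.subset_closure (Or.inr hz)⟩, hz, rfl⟩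
    obtain ⟨x', hx', e⟩ := Subfield.mem_map.1 hx
    rwa [← L.subtype.injective e]
  let VL : ValuationSubring L := V.comap L.subtype
  have hVA : ∀ x, φL x ∈ VL := fun x => by
    show φ x ∈ V
    have hev := ev_congr hy ⊤ (fun _ => trivial) (fun _ => trivial)
    rw [ev_comp _ yV ⊤ (fun _ => trivial)] at hev
    show (ev (eΩ.inv ≫ (ζ ≫ r ≫ q).left) ⊤ (fun _ => trivial)).hom x ∈ V
    rw [← hev]
    exact ((ev yV ⊤ (fun _ => trivial)).hom x).2
  let Z : Finset L := G.attach.image fun g => ⟨_, hTL g.1 g.2 (β g.1)⟩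
  have hZne : Z.Nonempty := ⟨_, Finset.mem_image.2 ⟨⟨ζ ≫ r, (hGmem _).2 rfl⟩, Finset.mem_attach _ _, rfl⟩⟩
  have := IsLocallyNoetherian.component_noetherian (X := O.left) ⟨⊤, isAffineOpen_top _⟩
  obtain ⟨R, hR, hAR, hZR⟩ := exists_dvr_avoiding φL (hgens.preimage L.subtype.injective.injOn) hgenL VL hVA Z
    hZne (fun z hz => by
      obtain ⟨g, -, rfl⟩ := Finset.mem_image.1 hz
      exact hβ g.1 g.2)
  -- the square over `R`
  obtain ⟨ζL, hζL⟩ := exists_factor_subfield L ζ₀ hWL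
  let yR : Spec (CommRingCat.of R) ⟶ O.left :=
    Spec.map (CommRingCat.ofHom (φL.codRestrict R.toSubring hAR)) ≫ (isAffineOpen_top _).fromSpec
  have hcomm : ζL ≫ (r ≫ q).left = Spec.map (CommRingCat.ofHom R.subtype) ≫ yR := by
    refine eq_of_map_comp (CommRingCat.ofHom L.subtype) L.subtype.injective ?_
    rw [reassoc_of% hζL, ← Spec.map_comp_assoc, ← Spec.map_comp_assoc]
    exact ((eq_map_ev_fromSpec _ (isAffineOpen_top O.left) (fun _ => trivial)).trans
      (by simp [ζ₀])).symm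
  let cR : Over S := Over.mk (yR ≫ O.hom)
  let iy : cR ⟶ O := Over.homMk yR rfl
  let cL : Over S := Over.mk (Spec.map (CommRingCat.ofHom (algebraMap R L)) ≫ yR ≫ O.hom)
  let j : cL ⟶ cR := Over.homMk (Spec.map (CommRingCat.ofHom (algebraMap R L))) rfl
  let iW : cL ⟶ W := Over.homMk ζL (by
    show ζL ≫ W.hom = _
    rw [← Over.w (r ≫ q), reassoc_of% hcomm]; rfl)
  have hj : iW ≫ r ≫ q = j ≫ iy := Over.OverMorphism.ext hcomm
  let sq : ValSq (h.hom ≫ f.hom) :=
    { A := R, K := L, str := yR ≫ O.hom, top := (yon S).map iW ≫ w, bot := (yon S).map iy ≫ b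
      comm := by
        show _ = (yon S).map j ≫ _
        rw [Category.assoc, reassoc_of% hw, pullback.condition, reassoc_of% hq, ← Functor.map_comp_assoc (yon S) r q,
          ← Functor.map_comp_assoc, hj, Functor.map_comp_assoc] }
  obtain ⟨l, hl1, hl2⟩ := hval sq hR
  let lP : (yon S).obj cR ⟶ pullback f.hom b := pullback.lift l ((yon S).map iy) hl2
  have hjl : (yon S).map j ≫ lP = (yon S).map (iW ≫ r) ≫ a := by
    apply pullback.hom_ext
    · simp only [lP, Category.assoc, pullback.lift_fst, Functor.map_comp]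
      exact hl1.trans (by rw [Category.assoc, hw])
    · simp only [lP, Category.assoc, pullback.lift_snd, hq, ← Functor.map_comp]
      rw [hj]
  obtain ⟨Q, Q₁, Q₂, sQ⟩ := AlgSpB.exists_pullback_yon ha.1 lP
  have : Etale Q₂.left := ha.2 _ _ _ sQ
  have : Surjective Q₂.left := has.2 _ _ _ sQ
  have := AlgSpB.locallyQuasiFinite_of_etale Q₂.left
  obtain ⟨z, hz⟩ := Q₂.left.surjective (closedPoint R)
  let y₀ : Spec (CommRingCat.of Ω) ⟶ Spec (CommRingCat.of R) :=
    Spec.map (CommRingCat.ofHom L.subtype) ≫ Spec.map (CommRingCat.ofHom (algebraMap R L))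
  obtain ⟨ε, hεz, hε⟩ := Flat.generalizingMap Q₂.left
    (show Groth.Agent.Wt.GeomPts.pt y₀ ⤳ Q₂.left z by rw [hz]; exact IsLocalRing.specializes_closedPoint _)
  obtain ⟨x, hx⟩ := Groth.Agent.Wt.GeomPts.surjective_pt (K := Ω) Q₂.left y₀ ⟨ε, hε⟩
  have hxpt : x.1 (closedPoint Ω) = ε := congrArg Subtype.val hx
  obtain ⟨κ, hκ⟩ : ∃ κ : Q.left.residueField (x.1 (closedPoint Ω)) ⟶ CommRingCat.of Ω,
      Spec.map κ ≫ Q.left.fromSpecResidueField _ = x.1 :=
    ⟨(Q.left.SpecToEquivOfField Ω x.1).2, (Q.left.SpecToEquivOfField Ω).symm_apply_apply x.1⟩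
  have hεz' : x.1 (closedPoint Ω) ⤳ z := hxpt ▸ hεz
  let ψ : Q.left.presheaf.stalk z ⟶ CommRingCat.of Ω :=
    Q.left.presheaf.stalkSpecializes hεz' ≫ Q.left.residue _ ≫ κ
  obtain ⟨R', h', hl'⟩ := IsLocalRing.exists_factor_valuationRing ψ.hom
  let ψ' : Q.left.presheaf.stalk z ⟶ CommRingCat.of R' :=
    CommRingCat.ofHom (ψ.hom.codRestrict R'.toSubring h')
  let xR : Spec (CommRingCat.of R') ⟶ Q.left := Spec.map ψ' ≫ Q.left.fromSpecStalk z
  have hxR : Spec.map (CommRingCat.ofHom R'.subtype) ≫ xR = x.1 := by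
    rw [← Spec.map_comp_assoc]
    show Spec.map ψ ≫ _ = _
    simp only [ψ, Spec.map_comp, Category.assoc, Scheme.SpecMap_stalkSpecializes_fromSpecStalk]
    exact hκ
  have hxRc : Q₂.left (xR (closedPoint R')) = closedPoint R := by
    have : Spec.map ψ' (closedPoint R') = closedPoint (Q.left.presheaf.stalk z) :=
      letI : IsLocalHom ψ'.hom := hl'
      IsLocalRing.comap_closedPoint ψ'.hom
    show Q₂.left (Q.left.fromSpecStalk z (Spec.map ψ' (closedPoint R'))) = _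
    rw [this, Scheme.fromSpecStalk_closedPoint, hz]
  obtain ⟨θ, hθ⟩ := Spec.map_surjective (xR ≫ Q₂.left)
  have hθ' : θ ≫ CommRingCat.ofHom R'.subtype = CommRingCat.ofHom (L.subtype.comp R.subtype) :=
    Spec.map_injective (by
      rw [Spec.map_comp, hθ, reassoc_of% hxR, x.2]
      exact (Spec.map_comp _ _).symm)
  have hθloc : IsLocalHom θ.hom := (IsLocalRing.isLocalHom_iff_comap_closedPoint _).2 (by
    show Spec.map θ (closedPoint R') = _
    rw [hθ]
    exact hxRc)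
  -- the geometric lift
  let gx : cΩ ⟶ T := Over.homMk (eΩ.hom ≫ x.1 ≫ Q₁.left) (by
    have e1 : x.1 ≫ Q₂.left ≫ yR ≫ O.hom = y₀ ≫ yR ≫ O.hom := by rw [reassoc_of% x.2]
    rw [Category.assoc, Category.assoc, Over.w Q₁, ← Over.w Q₂]
    show eΩ.hom ≫ x.1 ≫ Q₂.left ≫ yR ≫ O.hom = cΩ.hom
    rw [e1]
    have hcomm' : ζL ≫ (r ≫ q).left = Spec.map (CommRingCat.ofHom (algebraMap R L)) ≫ yR := hcomm
    simp only [y₀, Category.assoc]
    rw [← reassoc_of% hcomm', reassoc_of% hζL, Over.w (r ≫ q), Category.assoc, Over.w ζ, Iso.hom_inv_id_assoc])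
  let xQ : cΩ ⟶ Q := Over.homMk (eΩ.hom ≫ x.1) (by
    rw [Category.assoc, ← Over.w Q₁]
    exact (by simp [gx] : eΩ.hom ≫ x.1 ≫ Q₁.left ≫ T.hom = gx.left ≫ T.hom).trans (Over.w gx))
  have hxQ : xQ ≫ Q₁ = gx := Over.OverMorphism.ext (Category.assoc _ _ _)
  have hxQ' : xQ ≫ Q₂ ≫ iy = ζ ≫ r ≫ q := by
    apply Over.OverMorphism.ext
    show (eΩ.hom ≫ x.1) ≫ Q₂.left ≫ yR = ζ.left ≫ (r ≫ q).left
    have hcomm' : ζL ≫ (r ≫ q).left = Spec.map (CommRingCat.ofHom (algebraMap R L)) ≫ yR := hcomm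
    rw [Category.assoc, reassoc_of% x.2, show y₀ = _ from rfl, Category.assoc, ← hcomm', reassoc_of% hζL]
    simp [ζ₀]
  let κ₀ : cΩ ⟶ cL := Over.homMk (eΩ.hom ≫ Spec.map (CommRingCat.ofHom L.subtype)) (by
    show (eΩ.hom ≫ Spec.map _) ≫ Spec.map _ ≫ yR ≫ O.hom = cΩ.hom
    have hcomm' : ζL ≫ (r ≫ q).left = Spec.map (CommRingCat.ofHom (algebraMap R L)) ≫ yR := hcomm
    rw [Category.assoc, ← reassoc_of% hcomm', reassoc_of% hζL, Over.w (r ≫ q), Category.assoc, Over.w ζ,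
      Iso.hom_inv_id_assoc])
  have hxQ₂ : xQ ≫ Q₂ = κ₀ ≫ j := Over.OverMorphism.ext (by
    show (eΩ.hom ≫ x.1) ≫ Q₂.left = (eΩ.hom ≫ _) ≫ _
    rw [Category.assoc, x.2, Category.assoc]
    rfl)
  have hκ₀ : κ₀ ≫ iW = ζ := Over.OverMorphism.ext (by
    show (eΩ.hom ≫ _) ≫ ζL = _
    rw [Category.assoc, hζL]
    simp [ζ₀])
  have hgx : gx ∈ G := by
    rw [hGmem, ← hxQ, Functor.map_comp, Category.assoc, sQ.w, ← Functor.map_comp_assoc, hxQ₂,
      Functor.map_comp_assoc, hjl, ← Functor.map_comp_assoc, ← Category.assoc, hκ₀]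
  -- the contradiction
  let zL : L := ⟨_, hTL gx hgx (β gx)⟩
  have hzR : zL ∉ R := hZR zL (Finset.mem_image.2 ⟨⟨gx, hgx⟩, Finset.mem_attach _ _, rfl⟩)
  have hzR' : (zL : Ω) ∈ R' := by
    have e : eΩ.inv ≫ gx.left = Spec.map (CommRingCat.ofHom R'.subtype) ≫ xR ≫ Q₁.left := by
      rw [reassoc_of% hxR]; simp [gx]
    obtain ⟨_, hmem⟩ := ev_mem_of_lift (X := T.left) R' (eΩ.inv ≫ gx.left) (xR ≫ Q₁.left) e.symm (U := ⊤) trivial
    exact hmem _
  have hz0 : zL ≠ 0 := fun h => hzR (h ▸ zero_mem R)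
  have hzi : zL⁻¹ ∈ R := (R.mem_or_inv_mem zL).resolve_left hzR
  have hθv : ((θ.hom ⟨zL⁻¹, hzi⟩ : R') : Ω) = (zL : Ω)⁻¹ := by
    have e2 := congrArg (fun φ => φ.hom ⟨zL⁻¹, hzi⟩) hθ'
    change ((θ.hom ⟨zL⁻¹, hzi⟩ : R') : Ω) = ((zL⁻¹ : L) : Ω) at e2
    rw [e2]
    exact map_inv₀ L.subtype zL
  have hu : IsUnit (θ.hom ⟨zL⁻¹, hzi⟩) := IsUnit.of_mul_eq_one ⟨(zL : Ω), hzR'⟩ (Subtype.ext (by
    show ((θ.hom ⟨zL⁻¹, hzi⟩ : R') : Ω) * (zL : Ω) = 1
    rw [hθv, inv_mul_cancel₀ (fun h => hz0 (Subtype.ext h))]))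
  obtain ⟨u', hu'⟩ := (hθloc.map_nonunit _ hu).exists_right_inv
  refine hzR ?_
  have := congrArg Subtype.val hu'
  change zL⁻¹ * (u' : L) = 1 at this
  rw [← inv_inv zL, inv_eq_of_mul_eq_one_right this]
  exact u'.2

end Groth.Agent.AlgSpB.Art
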