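import Groth.Agent.AlgSpB.Art.DVRThrough
import Groth.Agent.AlgSp.NoethFib
import Groth.Agent.AlgSpCov.Listed
import Groth.Agent.AlgSpCov.LocP
import Groth.Agent.SchPoints.Basic
import Groth.Agent.S10053
import Groth.Prelude.Def_AlgSpMor5

/-!
# Universal closedness from lifts of squares over discrete valuation rings
-/

universe u

open CategoryTheory CategoryTheory.Limits AlgebraicGeometry Opposite

set_option backward.isDefEq.respectTransparency false
set_option backward.isDefEq.respectTransparency.types false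
set_option autoImplicit false

namespace Groth.Agent.AlgSpB.Art

open _root_.AlgSp

variable {S : Scheme.{u}}

/-- A point of a closed set of `X ×_Y O` lies over every specialization of the image of a point of the set. -/
theorem mem_image_of_dvr_liftExt {X Y : Space S} (f : X ⟶ Y)
    (hval : ∀ sq : ValSq f.hom, IsDiscreteValuationRing sq.A → sq.HasLiftExt)
    {O : Over S} (b : (yon S).obj O ⟶ Y.obj) [IsLocallyNoetherian O.left]
    {T : Over S} (a : (yon S).obj T ⟶ pullback f.hom b) (q : T ⟶ O)
    (hq : a ≫ pullback.snd f.hom b = (yon S).map q) [LocallyOfFiniteType q.left]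
    {C : Set (Points (pullback f.hom b))} (hC : IsClosed C) (t : T.left) (ht : Points.ofPt a t ∈ C)
    (e : O.left) (hs : q.left t ⤳ e) :
    ∃ c ∈ C, Points.map (pullback.snd f.hom b) c = Points.schemeEquiv O e := by
  by_cases hne : q.left t = e
  · refine ⟨_, ht, ?_⟩
    rw [Points.map_ofPt, hq, Points.ofPt_eq_map_ofScheme]
    exact (Points.map_yon_map_apply q t).trans (by rw [hne]; rfl)
  obtain ⟨A, _, _, _, x, y, hxy, hy, hx⟩ := exists_dvr_through q.left t e hs hne
  let cA : Over S := Over.mk (y ≫ O.hom)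
  let iy : cA ⟶ O := Over.homMk y rfl
  let cK : Over S := Over.mk (Spec.map (CommRingCat.ofHom (algebraMap A (FractionRing A))) ≫ y ≫ O.hom)
  let ix : cK ⟶ T := Over.homMk x (by
    show x ≫ T.hom = _
    rw [← Over.w q, reassoc_of% hxy]; rfl)
  let j : cK ⟶ cA := Over.homMk (Spec.map (CommRingCat.ofHom (algebraMap A (FractionRing A)))) rfl
  have hj : ix ≫ q = j ≫ iy := Over.OverMorphism.ext hxy
  let sq : ValSq f.hom :=
    { A := A, K := FractionRing A, str := y ≫ O.hom
      top := (yon S).map ix ≫ a ≫ pullback.fst f.hom b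
      bot := (yon S).map iy ≫ b
      comm := by
        show _ = (yon S).map j ≫ _
        rw [Category.assoc, Category.assoc, pullback.condition, reassoc_of% hq, ← Functor.map_comp_assoc, hj,
          Functor.map_comp_assoc] }
  obtain ⟨d, l, hl1, hl2⟩ := hval sq ‹IsDiscreteValuationRing A›
  let φA : d.ptA' ⟶ cA := Over.homMk (Spec.map (CommRingCat.ofHom d.φ)) rfl
  let jd : d.ptK' ⟶ d.ptA' := Over.homMk (Spec.map (CommRingCat.ofHom (algebraMap d.A' d.K'))) rfl
  let ψK : d.ptK' ⟶ cK := Over.homMk (Spec.map (CommRingCat.ofHom d.ψ)) (by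
    change Spec.map _ ≫ Spec.map _ ≫ _ = Spec.map _ ≫ Spec.map _ ≫ _
    rw [← Spec.map_comp_assoc, ← Spec.map_comp_assoc]
    exact congrArg (fun g => Spec.map g ≫ y ≫ O.hom) (CommRingCat.hom_ext d.comm).symm)
  let L : (yon S).obj d.ptA' ⟶ pullback f.hom b := pullback.lift l ((yon S).map (φA ≫ iy))
    (by rw [Functor.map_comp_assoc]; exact hl2)
  have hψ : ψK ≫ j = jd ≫ φA :=
    Over.OverMorphism.ext ((Spec.map_comp _ _).symm.trans
      ((congrArg Spec.map (CommRingCat.hom_ext d.comm).symm).trans (Spec.map_comp _ _)))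
  have hL : (yon S).map jd ≫ L = (yon S).map (ψK ≫ ix) ≫ a := by
    apply pullback.hom_ext
    · simp only [L, Category.assoc, pullback.lift_fst]
      rw [Functor.map_comp, Category.assoc]
      exact hl1
    · simp only [L, Category.assoc, pullback.lift_snd, hq, ← Functor.map_comp]
      rw [hj, reassoc_of% hψ]
  have hcl : IsClosed (Points.ofPt L ⁻¹' C) := hC.preimage (Points.continuous_ofPt L)
  let η : d.ptK'.left := IsLocalRing.closedPoint d.K'
  have hη : jd.left η ∈ Points.ofPt L ⁻¹' C := by
    show Points.ofPt L (jd.left η) ∈ C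
    rw [← AlgSpB.ofPt_map_comp, hL, AlgSpB.ofPt_map_comp]
    convert ht
    exact hx _
  refine ⟨_, hcl.closure_subset_iff.2 (Set.singleton_subset_iff.2 hη)
    ((IsLocalRing.specializes_closedPoint (jd.left η)).mem_closure), ?_⟩
  have := d.isLocalHom
  rw [Points.map_ofPt, show L ≫ pullback.snd f.hom b = (yon S).map (φA ≫ iy) from pullback.lift_snd _ _ _,
    Points.ofPt_eq_map_ofScheme]
  refine (Points.map_yon_map_apply _ _).trans (congrArg _ ?_)
  show y (Spec.map (CommRingCat.ofHom d.φ) (IsLocalRing.closedPoint d.A')) = e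
  rw [show Spec.map (CommRingCat.ofHom d.φ) (IsLocalRing.closedPoint d.A') = IsLocalRing.closedPoint A from
    IsLocalRing.comap_closedPoint d.φ]
  exact hy

/-- Affine space is universally open over its base. -/
theorem universallyOpen_affineSpace (n : Type u) (V : Scheme.{u}) : UniversallyOpen (𝔸(n; V) ↘ V) := by
  refine ⟨fun X' Y' i₁ i₂ f' sq => ?_⟩
  have sq' := (AffineSpace.isPullback_map (n := n) i₂).flip
  have : f' = (IsPullback.isoIsPullback _ _ sq.flip sq'.flip).hom ≫ (𝔸(n; Y') ↘ Y') := by simp
  rw [this]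
  exact (MorphismProperty.cancel_left_of_respectsIso (P := topologically @IsOpenMap) _ _).2
    (AffineSpace.isOpenMap_over _)

/-- A quasi-compact morphism locally of finite type to a locally Noetherian space is universally closed when
specializations of images lift into closed sets over affine Noetherian schemes smooth over the target. -/
theorem isUnivClosedMor_of_specializing {X Y : Space S} (f : X ⟶ Y) (hft : IsFiniteTypeMor f.hom)
    (hY : IsLocNoethSp Y.obj)
    (H : ∀ {O : Over S} [IsAffine O.left] [IsLocallyNoetherian O.left] (b : (yon S).obj O ⟶ Y.obj),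
      RepWith @UniversallyOpen b → ∀ {T : Over S} [IsAffine T.left] (a : (yon S).obj T ⟶ pullback f.hom b),
        RepWith @Etale a → RepWith @Surjective a → ∀ (q : T ⟶ O), a ≫ pullback.snd f.hom b = (yon S).map q →
          LocallyOfFiniteType q.left → ∀ {C : Set (Points (pullback f.hom b))}, IsClosed C →
            ∀ t : T.left, Points.ofPt a t ∈ C → ∀ e : O.left, q.left t ⤳ e →
              ∃ c ∈ C, Points.map (pullback.snd f.hom b) c = Points.schemeEquiv O e) :
    IsUnivClosedMor f.hom := by
  obtain ⟨V, p, hpe, hps, hV⟩ := hY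
  refine Groth.Agent.S10053.univClosed_of_affineSpaces f hft.2 V p hpe hps fun n => ?_
  let W : Over S := Over.mk ((𝔸(ULift.{u} (Fin n); V.left) ↘ V.left) ≫ V.hom)
  have hW : IsLocallyNoetherian W.left :=
    LocallyOfFiniteType.isLocallyNoetherian (𝔸(ULift.{u} (Fin n); V.left) ↘ V.left)
  suffices H' : ∀ g : (yon S).obj W ⟶ Y.obj, RepWith @UniversallyOpen g →
      IsClosedMap (Points.map (pullback.snd f.hom g)) from
    H' ((yon S).map (Over.homMk (𝔸(ULift.{u} (Fin n); V.left) ↘ V.left) : W ⟶ V) ≫ p)
      (MorphismProperty.comp_mem (RepWith (S := S) @UniversallyOpen) _ _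
        ((repWith_yon_map_iff _ _).2 (universallyOpen_affineSpace _ V.left))
        (AlgSpB.repWith_universallyOpen_of_etale hpe))
  intro g hg
  intro C hC
  refine (Points.schemeHomeo W).isClosed_preimage.1 (closure_subset_iff_isClosed.1 fun e he => ?_)
  obtain ⟨O', hO', heO, -⟩ := exists_isAffineOpen_mem_and_subset (x := e) (U := ⊤) trivial
  let O : Over S := Over.mk (O'.ι ≫ W.hom)
  let ιO : O ⟶ W := Over.homMk O'.ι rfl
  have : IsAffine O.left := hO'
  have : IsOpenImmersion ιO.left := inferInstanceAs (IsOpenImmersion O'.ι)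
  have : IsLocallyNoetherian O.left := isLocallyNoetherian_of_isOpenImmersion ιO.left
  let b : (yon S).obj O ⟶ Y.obj := (yon S).map ιO ≫ g
  let m := pullback.lift (f := f.hom) (g := g) (pullback.fst f.hom b) (pullback.snd f.hom b ≫ (yon S).map ιO)
    (by rw [Category.assoc]; exact pullback.condition)
  have sqm : IsPullback m (pullback.snd f.hom b) (pullback.snd f.hom g) ((yon S).map ιO) :=
    IsPullback.of_right (by rw [pullback.lift_fst]; exact IsPullback.of_hasPullback _ _) (pullback.lift_snd _ _ _)
      (IsPullback.of_hasPullback f.hom g)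
  have := AlgSpB.compactSpace_points_of_isQuasiCompactSp (hft.2 (IsAlgSpace.yon_obj O)
    (AlgSp.isQuasiCompactSp_yon O) b _ _ (IsPullback.of_hasPullback f.hom b))
  obtain ⟨T₀, a₀, ha₀, has₀⟩ := (Groth.Agent.AlgSp.isAlgSpace_pullback Y.property X.property
    (IsAlgSpace.yon_obj O) f.hom b).atlas
  obtain ⟨T, e', hT, ha, has⟩ := AlgSpB.exists_affine_chart_of_compactSpace ha₀ has₀
  generalize (yon S).map e' ≫ a₀ = a at ha has
  obtain ⟨q, hq⟩ := (yon S).map_surjective (a ≫ pullback.snd f.hom b)
  have : LocallyOfFiniteType q.left := AlgSpCov.chart_of_locP AlgSpCov.etaleLocal_locallyOfFiniteType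
    X.property Y.property hft.1 b (IsPullback.of_hasPullback f.hom b) ha q hq.symm
  have : IsAffine T.left := hT
  let C' : Set (Points (pullback f.hom b)) := Points.map m ⁻¹' C
  have hC' : IsClosed C' := hC.preimage (Points.continuous_map m)
  let CT : TopologicalSpace.Closeds T.left := ⟨Points.ofPt a ⁻¹' C', hC'.preimage (Points.continuous_ofPt a)⟩
  let Z := (Scheme.IdealSheafData.vanishingIdeal CT).subscheme
  let ι : Z ⟶ T.left := (Scheme.IdealSheafData.vanishingIdeal CT).subschemeι
  have hι : Set.range ι = CT := by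
    rw [Scheme.IdealSheafData.range_subschemeι, Scheme.IdealSheafData.coe_support_vanishingIdeal]
  have : IsAffine Z := isAffine_of_isAffineHom ι
  have hcl : (⟨e, heO⟩ : O.left) ∈ closure (Set.range (ι ≫ q.left)) := by
    rw [mem_closure_iff]
    intro U hU heU
    obtain ⟨_, ⟨u, huU, rfl⟩, c, hc, hcu⟩ := mem_closure_iff.1 he (ιO.left '' U)
      (ιO.left.isOpenEmbedding.isOpenMap U hU) ⟨⟨e, heO⟩, heU, rfl⟩
    obtain ⟨d, hd1, hd2⟩ := AlgSpB.exists_of_isPullback sqm c (Points.schemeEquiv O u)
      (hcu.trans (Points.map_yon_map_apply ιO u).symm)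
    obtain ⟨t, rfl⟩ := AlgSpB.surjective_ofPt has d
    obtain ⟨z, hz⟩ : t ∈ Set.range ι := by
      rw [hι]; show Points.map m _ ∈ C; rw [hd1]; exact hc
    refine ⟨u, huU, z, ?_⟩
    rw [Points.map_ofPt, ← hq, Points.ofPt_eq_map_ofScheme] at hd2
    rw [Scheme.Hom.comp_apply, hz]
    exact (Points.schemeEquiv O).injective ((Points.map_yon_map_apply q t).symm.trans hd2)
  obtain ⟨z, hz⟩ := SchPoints.exists_specializes_of_mem_closure_range (ι ≫ q.left) hcl
  have hzt : Points.ofPt a (ι z) ∈ C' := (hι ▸ Set.mem_range_self z : ι z ∈ (CT : Set T.left))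
  have hb : RepWith @UniversallyOpen b := MorphismProperty.comp_mem (RepWith (S := S) @UniversallyOpen) _ _
    ((repWith_yon_map_iff _ _).2 (inferInstance : UniversallyOpen ιO.left)) hg
  obtain ⟨c, hc, hce⟩ := H b hb a ha has q hq.symm ‹_› hC' (ι z) hzt ⟨e, heO⟩ (by simpa using hz)
  refine ⟨_, hc, ?_⟩
  rw [← Points.map_comp, sqm.w, Points.map_comp, hce]
  exact Points.map_yon_map_apply ιO _

/-- A morphism of finite type to a locally Noetherian space with lifts up to extension of all squares over
discrete valuation rings is universally closed. -/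
theorem isUnivClosedMor_of_dvr_liftExt {X Y : Space S} (f : X ⟶ Y) (hft : IsFiniteTypeMor f.hom)
    (hY : IsLocNoethSp Y.obj) (hval : ∀ sq : ValSq f.hom, IsDiscreteValuationRing sq.A → sq.HasLiftExt) :
    IsUnivClosedMor f.hom :=
  isUnivClosedMor_of_specializing f hft hY fun b _ _ _ a _ _ q hq _ _ hC t ht e hs =>
    mem_image_of_dvr_liftExt f hval b a q hq hC t ht e hs

end Groth.Agent.AlgSpB.Art
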