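import Groth.Agent.AlgSpB.Art.DVRRefined
import Groth.Agent.AlgSpB.Art.DVRUnivClosed

/-!
# The refined valuative criterion over discrete valuation rings
-/

universe u

open CategoryTheory CategoryTheory.Limits AlgebraicGeometry Opposite IsLocalRing Topology

set_option backward.isDefEq.respectTransparency false
set_option backward.isDefEq.respectTransparency.types false
set_option autoImplicit false

namespace Groth.Agent.AlgSpB.Art

open _root_.AlgSp Groth.Agent.DVRCrit

variable {S : Scheme.{u}}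

/-- A separated morphism of finite type to a locally Noetherian space is universally closed when discrete valuation
squares from a dense subspace of finite type lift. -/
theorem isUnivClosedMor_of_refined {U X Y : Space S} (h : U ⟶ X) (f : X ⟶ Y) (hY : IsLocNoethSp Y.obj)
    (hfs : IsSeparatedMor f.hom) (hft : IsFiniteTypeMor f.hom) (hh : IsFiniteTypeMor h.hom)
    (hdense : Dense (Set.range (Points.map h.hom)))
    (hval : ∀ sq : ValSq (h.hom ≫ f.hom), IsDiscreteValuationRing sq.A →
      ∃ l : (yon S).obj sq.ptA ⟶ X.obj, (yon S).map sq.j ≫ l = sq.top ≫ h.hom ∧ l ≫ f.hom = sq.bot) :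
    IsUnivClosedMor f.hom := by
  refine isUnivClosedMor_of_specializing f hft hY fun {O} _ _ b hb {T} _ a ha has q hq hqf {C} hC t ht e hte => ?_
  -- the chart of the dense subspace over `T`
  let g := a ≫ pullback.fst f.hom b
  have hg : RepWith @UniversallyOpen g :=
    MorphismProperty.comp_mem (RepWith (S := S) @UniversallyOpen) _ _ (AlgSpB.repWith_universallyOpen_of_etale ha)
      (MorphismProperty.of_isPullback (P := RepWith (S := S) @UniversallyOpen)
        (IsPullback.of_hasPullback f.hom b).flip hb)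
  have := AlgSpB.compactSpace_points_of_isQuasiCompactSp (hh.2 (IsAlgSpace.yon_obj T)
    (AlgSp.isQuasiCompactSp_yon T) g _ _ (IsPullback.of_hasPullback h.hom g))
  obtain ⟨W₀, a₀, ha₀, has₀⟩ := (Groth.Agent.AlgSp.isAlgSpace_pullback X.property U.property
    (IsAlgSpace.yon_obj T) h.hom g).atlas
  obtain ⟨W, e', hW, hc, hcs⟩ := AlgSpB.exists_affine_chart_of_compactSpace ha₀ has₀
  generalize (yon S).map e' ≫ a₀ = c at hc hcs
  obtain ⟨r, hr⟩ := (yon S).map_surjective (c ≫ pullback.snd h.hom g)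
  have : IsAffine W.left := hW
  have : LocallyOfFiniteType r.left := AlgSpCov.chart_of_locP AlgSpCov.etaleLocal_locallyOfFiniteType
    U.property X.property hh.1 g (IsPullback.of_hasPullback h.hom g) hc r hr.symm
  let w := c ≫ pullback.fst h.hom g
  have hw : w ≫ h.hom = (yon S).map r ≫ a ≫ pullback.fst f.hom b := by
    rw [Category.assoc, pullback.condition, reassoc_of% hr]
  have hdW : t ∈ closure (Set.range r.left) := by
    have hd := hdense.preimage (Groth.Agent.AlgSp.isOpenMap_map_of_repWith hg)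
    rw [mem_closure_iff]
    intro U' hU' htU'
    obtain ⟨x, ⟨x', hx'⟩, hxU⟩ := hd.exists_mem_open ((hU'.preimage (Points.schemeHomeo T).symm.continuous))
      ⟨Points.schemeHomeo T t, by simpa using htU'⟩
    obtain ⟨d, hd1, hd2⟩ := AlgSpB.exists_of_isPullback (IsPullback.of_hasPullback h.hom g) x' x hx'
    obtain ⟨s, rfl⟩ := AlgSpB.surjective_ofPt hcs d
    refine ⟨r.left s, ?_, s, rfl⟩
    rw [Points.map_ofPt, ← hr, Points.ofPt_eq_map_ofScheme] at hd2
    have : x = Points.schemeHomeo T (r.left s) := hd2.symm.trans (Points.map_yon_map_apply r s)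
    rw [this] at hxU
    simpa using hxU
  obtain ⟨s, hs⟩ := SchPoints.exists_specializes_of_mem_closure_range r.left hdW
  -- a geometric point of `W` at `s` and a chain of valuation rings
  obtain ⟨ζ₀, hζ₀⟩ := Groth.Agent.Wt.GeomPts.exists_geomPt s
  let Ω := AlgebraicClosure (W.left.residueField s)
  let cΩ : Over S := Over.mk (ζ₀ ≫ W.hom)
  let ζ : cΩ ⟶ W := Over.homMk ζ₀ rfl
  obtain ⟨V₁, V, hle, l₁, yV, hl₁, hl₁c, hyl, hyc⟩ :=
    exists_valuationSubring_chain q.left (Ω := Ω) (ζ₀ ≫ r.left) t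
      (by rw [Scheme.Hom.comp_apply]; show r.left (Groth.Agent.Wt.GeomPts.pt ζ₀) ⤳ t; rw [hζ₀]; exact hs) e hte
  have hy : Spec.map (CommRingCat.ofHom V.subtype) ≫ yV = (Iso.refl cΩ.left).inv ≫ (ζ ≫ r ≫ q).left := by
    have : CommRingCat.ofHom V.subtype =
        CommRingCat.ofHom (ValuationSubring.inclusion V V₁ hle) ≫ CommRingCat.ofHom V₁.subtype := rfl
    rw [this, Spec.map_comp, Category.assoc, hyl, reassoc_of% hl₁]
    simp [ζ]
  obtain ⟨g', hg', hgV⟩ := exists_lift_valuation h f hfs hval b a ha has q hq r w hw (Iso.refl cΩ.left) ζ V yV hy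
  obtain ⟨l, hl, -⟩ := exists_lift_of_ev_mem V g'.left (isAffineOpen_top T.left) (fun _ => trivial)
    (fun x => by
      rw [ev_congr (show g'.left = (Iso.refl cΩ.left).inv ≫ g'.left from (Category.id_comp _).symm) ⊤ _ (fun _ => trivial)]
      exact hgV x)
  have hlq : l ≫ q.left = yV := by
    refine eq_of_map_comp (CommRingCat.ofHom V.subtype) V.subtype_injective ?_
    rw [reassoc_of% hl, hy]
    have : g' ≫ q = ζ ≫ r ≫ q := (yon S).map_injective (by
      rw [Functor.map_comp, ← hq, reassoc_of% hg', hq, ← Functor.map_comp, Category.assoc])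
    simpa using congrArg CommaMorphism.left this
  -- the two lifts agree on the larger valuation ring
  let cV : Over S := Over.mk (yV ≫ O.hom)
  let lV : cV ⟶ T := Over.homMk l (by show l ≫ T.hom = _; rw [← Over.w q, reassoc_of% hlq]; rfl)
  let ι : Spec (CommRingCat.of V₁) ⟶ Spec (CommRingCat.of V) :=
    Spec.map (CommRingCat.ofHom (ValuationSubring.inclusion V V₁ hle))
  let cV₁ : Over S := Over.mk (ι ≫ yV ≫ O.hom)
  let iV : cV₁ ⟶ cV := Over.homMk ι rfl
  let lV₁ : cV₁ ⟶ T := Over.homMk l₁ (by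
    show l₁ ≫ T.hom = _
    rw [← Over.w q, ← reassoc_of% hyl]; rfl)
  have hπs : IsSeparatedMor (pullback.snd f.hom b) :=
    Groth.Agent.AlgSp.isSeparatedMor_baseChange' (IsPullback.of_hasPullback f.hom b) hfs
  let P : Space S := ⟨pullback f.hom b,
    Groth.Agent.AlgSp.isAlgSpace_pullback Y.property X.property (IsAlgSpace.yon_obj O) f.hom b⟩
  let π : P ⟶ (ofScheme S).obj O := ObjectProperty.homMk (pullback.snd f.hom b)
  let cK : Over S := Over.mk (Spec.map (CommRingCat.ofHom (algebraMap V₁ Ω)) ≫ ι ≫ yV ≫ O.hom)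
  let jK : cK ⟶ cV₁ := Over.homMk (Spec.map (CommRingCat.ofHom (algebraMap V₁ Ω))) rfl
  have hlVq : lV₁ ≫ q = iV ≫ lV ≫ q := by
    apply Over.OverMorphism.ext
    show l₁ ≫ q.left = ι ≫ l ≫ q.left
    rw [hlq, ← hyl]
  let sq : ValSq π.hom :=
    { A := V₁, K := Ω, str := ι ≫ yV ≫ O.hom, top := (yon S).map (jK ≫ lV₁) ≫ a, bot := (yon S).map (lV₁ ≫ q)
      comm := by
        show _ = (yon S).map jK ≫ _
        rw [Category.assoc, ← Functor.map_comp, ← Category.assoc jK, Functor.map_comp]
        exact congrArg _ hq }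
  have huniq : (yon S).map (iV ≫ lV) ≫ a = (yon S).map lV₁ ≫ a := by
    refine Groth.Agent.S10290.result π hπs sq _ _ ?_ ?_ ?_ ?_
    · show (yon S).map jK ≫ _ = (yon S).map (jK ≫ lV₁) ≫ a
      let eK : cK ⟶ cΩ := Over.homMk (𝟙 _) (by
        show 𝟙 _ ≫ ζ₀ ≫ W.hom = Spec.map _ ≫ ι ≫ yV ≫ O.hom
        rw [reassoc_of% hyl, Over.w q, show CommRingCat.ofHom (algebraMap V₁ Ω) = CommRingCat.ofHom V₁.subtype from rfl,
          reassoc_of% hl₁, Category.id_comp, Over.w r])
      have e1 : jK ≫ iV ≫ lV = eK ≫ g' := by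
        apply Over.OverMorphism.ext
        show Spec.map _ ≫ ι ≫ l = 𝟙 _ ≫ g'.left
        rw [Category.id_comp, ← hl, ← Spec.map_comp_assoc]
        rfl
      have e2 : jK ≫ lV₁ = eK ≫ ζ ≫ r := by
        apply Over.OverMorphism.ext
        show Spec.map _ ≫ l₁ = 𝟙 _ ≫ ζ₀ ≫ r.left
        rw [Category.id_comp, ← hl₁]
        rfl
      rw [← Functor.map_comp_assoc, e1, e2, Functor.map_comp_assoc, hg', ← Functor.map_comp_assoc]
    · show ((yon S).map (iV ≫ lV) ≫ a) ≫ pullback.snd f.hom b = (yon S).map (lV₁ ≫ q)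
      rw [Category.assoc, hq, ← Functor.map_comp, Category.assoc, hlVq]
    · show (yon S).map jK ≫ _ = (yon S).map (jK ≫ lV₁) ≫ a
      rw [Functor.map_comp, Category.assoc]
    · show ((yon S).map lV₁ ≫ a) ≫ pullback.snd f.hom b = (yon S).map (lV₁ ≫ q)
      rw [Category.assoc, hq, ← Functor.map_comp]
  refine ⟨Points.ofPt a (l (closedPoint V)), ?_, ?_⟩
  · have hs1 : Points.ofPt a (l (ι (closedPoint V₁))) = Points.ofPt a t := by
      have e1 := AlgSpB.ofPt_map_comp (iV ≫ lV) a (closedPoint V₁ : Spec (CommRingCat.of V₁))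
      have e2 := AlgSpB.ofPt_map_comp lV₁ a (closedPoint V₁ : Spec (CommRingCat.of V₁))
      rw [huniq] at e1
      refine (e1.symm.trans e2).trans ?_
      exact congrArg _ hl₁c
    have hsp : Points.ofPt a t ⤳ Points.ofPt a (l (closedPoint V)) :=
      hs1 ▸ (((IsLocalRing.specializes_closedPoint _).map l.continuous).map (Points.continuous_ofPt a))
    exact hsp.mem_closed hC ht
  · rw [Points.map_ofPt, hq, Points.ofPt_eq_map_ofScheme]
    refine (Points.map_yon_map_apply q _).trans (congrArg _ ?_)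
    rw [← Scheme.Hom.comp_apply, hlq]
    exact hyc

end Groth.Agent.AlgSpB.Art
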