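import Groth.Agent.AlgSpB.Art.DVRDiag

/-!
# Lifting discrete valuation squares through the diagonal
-/

universe u

open CategoryTheory CategoryTheory.Limits AlgebraicGeometry Opposite

set_option backward.isDefEq.respectTransparency false
set_option backward.isDefEq.respectTransparency.types false
set_option autoImplicit false

namespace Groth.Agent.AlgSpB.Art

open _root_.AlgSp

variable {S : Scheme.{u}} {X Y : Space S} {f : X ⟶ Y}

/-- A valuation square in a base changed diagonal has a lift when the two induced arrows to `X` agree. -/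
theorem exists_lift_of_uniq {V W : Over S} {g : (yon S).obj V ⟶ pullback f.hom f.hom}
    {fst : (yon S).obj W ⟶ X.obj} {snd : W ⟶ V}
    (sqW : IsPullback fst ((yon S).map snd) (pullback.diagonal f.hom) g) [Mono snd.left]
    (A : Type u) [CommRing A] [IsDomain A] [ValuationRing A]
    (x : Spec (CommRingCat.of (FractionRing A)) ⟶ W.left) (y : Spec (CommRingCat.of A) ⟶ V.left)
    (hxy : x ≫ snd.left = Spec.map (CommRingCat.ofHom (algebraMap A (FractionRing A))) ≫ y)
    (hu : ∀ (str : Spec (CommRingCat.of A) ⟶ S)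
      (iK : Over.mk (Spec.map (CommRingCat.ofHom (algebraMap A (FractionRing A))) ≫ str) ⟶ W)
      (bot : (yon S).obj (Over.mk str) ⟶ Y.obj) (comm : ((yon S).map iK ≫ fst) ≫ f.hom =
        (yon S).map (Over.homMk (Spec.map (CommRingCat.ofHom (algebraMap A (FractionRing A)))) rfl :
          Over.mk (Spec.map (CommRingCat.ofHom (algebraMap A (FractionRing A))) ≫ str) ⟶ Over.mk str) ≫ bot),
      iK.left = x → ∀ l l' : (yon S).obj (Over.mk str) ⟶ X.obj,
      let sq : ValSq f.hom :=
        { A := A, K := FractionRing A, str := str, top := (yon S).map iK ≫ fst, bot := bot, comm := comm }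
      (yon S).map sq.j ≫ l = sq.top → l ≫ f.hom = sq.bot →
        (yon S).map sq.j ≫ l' = sq.top → l' ≫ f.hom = sq.bot → l = l') :
    ∃ l : Spec (CommRingCat.of A) ⟶ W.left,
      l ≫ snd.left = y ∧ Spec.map (CommRingCat.ofHom (algebraMap A (FractionRing A))) ≫ l = x := by
  let cA : Over S := Over.mk (y ≫ V.hom)
  let i₂ : cA ⟶ V := Over.homMk y rfl
  let cK : Over S := Over.mk (Spec.map (CommRingCat.ofHom (algebraMap A (FractionRing A))) ≫ y ≫ V.hom)
  let i₁ : cK ⟶ W := Over.homMk x (by
    show x ≫ W.hom = _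
    rw [← Over.w snd, reassoc_of% hxy]; rfl)
  let j : cK ⟶ cA := Over.homMk (Spec.map (CommRingCat.ofHom (algebraMap A (FractionRing A)))) rfl
  have hij : i₁ ≫ snd = j ≫ i₂ := Over.OverMorphism.ext hxy
  let sq : ValSq f.hom :=
    { A := A, K := FractionRing A, str := y ≫ V.hom, top := (yon S).map i₁ ≫ fst
      bot := (yon S).map i₂ ≫ g ≫ pullback.fst f.hom f.hom ≫ f.hom
      comm := by
        show ((yon S).map i₁ ≫ fst) ≫ f.hom = (yon S).map j ≫ _
        rw [← Functor.map_comp_assoc, ← hij, Functor.map_comp_assoc, ← reassoc_of% sqW.w,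
          pullback.diagonal_fst_assoc, Category.assoc] }
  have e := hu _ i₁ sq.bot sq.comm rfl ((yon S).map i₂ ≫ g ≫ pullback.fst f.hom f.hom)
    ((yon S).map i₂ ≫ g ≫ pullback.snd f.hom f.hom) (by
      show (yon S).map j ≫ _ = (yon S).map i₁ ≫ fst
      rw [← Functor.map_comp_assoc, ← hij, Functor.map_comp_assoc, ← reassoc_of% sqW.w,
        pullback.diagonal_fst, Category.comp_id]) (by simp [sq]) (by
      show (yon S).map j ≫ _ = (yon S).map i₁ ≫ fst
      rw [← Functor.map_comp_assoc, ← hij, Functor.map_comp_assoc, ← reassoc_of% sqW.w,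
        pullback.diagonal_snd, Category.comp_id]) (by simp [sq, pullback.condition])
  obtain ⟨m, hm⟩ := exists_lift_diag sqW i₂ e
  refine ⟨m.left, by rw [← Over.comp_left, hm]; rfl, ?_⟩
  rw [← cancel_mono snd.left, Category.assoc, ← Over.comp_left, hm]
  exact hxy.symm

end Groth.Agent.AlgSpB.Art
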