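import Groth.Agent.DVRCrit.Basic
import Groth.Agent.CycLib.Residue

/-!
# Discrete valuation rings through a specialization of the image of a point
-/

universe u

open CategoryTheory CategoryTheory.Limits AlgebraicGeometry IsLocalRing

set_option backward.isDefEq.respectTransparency false
set_option backward.isDefEq.respectTransparency.types false
set_option autoImplicit false

namespace Groth.Agent.AlgSpB.Art

open Groth.Agent.DVRCrit

/-- A proper specialization of the image of a point is seen by a discrete valuation ring. -/
theorem exists_dvr_through {T N : Scheme.{u}} (h : T ⟶ N) [LocallyOfFiniteType h] [IsLocallyNoetherian N]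
    (t : T) (e : N) (hs : h t ⤳ e) (hne : h t ≠ e) :
    ∃ (A : Type u) (_ : CommRing A) (_ : IsDomain A) (_ : IsDiscreteValuationRing A)
      (x : Spec (CommRingCat.of (FractionRing A)) ⟶ T) (y : Spec (CommRingCat.of A) ⟶ N),
      x ≫ h = Spec.map (CommRingCat.ofHom (algebraMap A (FractionRing A))) ≫ y ∧ y (closedPoint A) = e ∧
        ∀ p, x p = t := by
  let ψ : N.presheaf.stalk e ⟶ N.residueField (h t) := N.presheaf.stalkSpecializes hs ≫ N.residue (h t)
  have hψ : Spec.map ψ ≫ N.fromSpecStalk e = N.fromSpecResidueField (h t) := by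
    rw [Spec.map_comp, Category.assoc, Scheme.SpecMap_stalkSpecializes_fromSpecStalk]
    rfl
  let φ : N.presheaf.stalk e ⟶ T.residueField t := ψ ≫ h.residueFieldMap t
  have hφ : Spec.map φ ≫ N.fromSpecStalk e = T.fromSpecResidueField t ≫ h := by
    rw [Spec.map_comp, Category.assoc, hψ, h.SpecMap_residueFieldMap_fromSpecResidueField t]
  letI : Algebra (N.residueField (h t)) (T.residueField t) := (h.residueFieldMap t).hom.toAlgebra
  haveI : Algebra.EssFiniteType (N.residueField (h t)) (T.residueField t) :=
    CycLib.residueFieldMap_essFiniteType h t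
  obtain ⟨s, hs'⟩ := IntermediateField.fg_top (N.residueField (h t)) (T.residueField t)
  obtain ⟨O, hO, heO, -⟩ := exists_isAffineOpen_mem_and_subset (X := N) (x := e) (U := ⊤) trivial
  have htO : h t ∈ O := hs.mem_open O.2 heO
  have hψgen : Subfield.closure (Set.range ψ.hom) = ⊤ := by
    have hall : ∀ p, N.fromSpecResidueField (h t) p ∈ O := fun p => by simpa using htO
    rw [eq_top_iff, ← closure_range_ev_residueField (h t) hO hall, ev_fromSpecResidueField hO (h t) htO]
    refine Subfield.closure_mono ?_
    rintro _ ⟨a, rfl⟩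
    refine ⟨N.presheaf.germ O e heO a, ?_⟩
    have h1 : N.presheaf.germ O e heO ≫ ψ = N.presheaf.germ O (h t) htO ≫ N.residue (h t) :=
      (N.presheaf.germ_stalkSpecializes_assoc _ hs _)
    exact ConcreteCategory.congr_hom h1 a
  have hgen : Subfield.closure (Set.range φ.hom ∪ (s : Set (T.residueField t))) = ⊤ := by
    rw [eq_top_iff]
    intro z _
    have hz : z ∈ IntermediateField.adjoin (N.residueField (h t)) (s : Set (T.residueField t)) := by
      rw [hs']; trivial
    refine Subfield.closure_le.2 ?_ hz
    rintro w (⟨a, rfl⟩ | hw)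
    · have ha : a ∈ Subfield.closure (Set.range ψ.hom) := hψgen ▸ trivial
      have hm : (h.residueFieldMap t).hom a ∈ (Subfield.closure (Set.range ψ.hom)).map (h.residueFieldMap t).hom :=
        Subfield.mem_map.2 ⟨a, ha, rfl⟩
      rw [RingHom.map_field_closure, ← Set.range_comp] at hm
      exact Subfield.closure_mono (fun y hy => Or.inl hy) hm
    · exact Subfield.subset_closure (Or.inr hw)
  have hne' : ∃ a ∈ maximalIdeal (N.presheaf.stalk e), φ.hom a ≠ 0 := by
    by_contra! hcon
    apply hne
    have : Spec.map φ (closedPoint (T.residueField t)) = closedPoint (N.presheaf.stalk e) := by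
      refine PrimeSpectrum.ext (le_antisymm (IsLocalRing.le_maximalIdeal ?_) fun a ha ↦ ?_)
      · exact (Spec.map φ (closedPoint (T.residueField t))).2.ne_top
      · show φ.hom a ∈ maximalIdeal (T.residueField t)
        rw [hcon a ha]
        exact zero_mem _
    have h2 := congrArg (fun g : Spec (T.residueField t) ⟶ N ↦ g (closedPoint (T.residueField t))) hφ
    erw [Scheme.Hom.comp_apply, this, Scheme.fromSpecStalk_closedPoint, Scheme.Hom.comp_apply,
      Scheme.fromSpecResidueField_apply] at h2
    exact h2.symm
  obtain ⟨R, hR, hmem, hdom⟩ := exists_dvr_dominating' φ.hom s.finite_toSet hgen hne'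
  haveI := hR
  let g : Spec (CommRingCat.of R) ⟶ Spec (N.presheaf.stalk e) :=
    Spec.map (CommRingCat.ofHom (φ.hom.codRestrict R.toSubring hmem))
  have hclosed : g (closedPoint R) = closedPoint (N.presheaf.stalk e) := by
    refine PrimeSpectrum.ext (le_antisymm (IsLocalRing.le_maximalIdeal ?_) fun a ha ↦ ?_)
    · exact (g (closedPoint R)).2.ne_top
    · exact (R.valuation_lt_one_iff ⟨φ.hom a, hmem a⟩).mpr (hdom a ha)
  let ε : T.residueField t →+* FractionRing R :=
    (FractionRing.algEquiv R (T.residueField t)).symm.toRingHom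
  have hε : ε.comp R.subtype = algebraMap R (FractionRing R) := RingHom.ext fun r ↦
    (FractionRing.algEquiv R (T.residueField t)).symm.commutes r
  refine ⟨R, inferInstance, inferInstance, hR, Spec.map (CommRingCat.ofHom ε) ≫ T.fromSpecResidueField t,
    g ≫ N.fromSpecStalk e, ?_, ?_, fun p => ?_⟩
  · rw [Category.assoc, ← hφ, ← hε, CommRingCat.ofHom_comp, Spec.map_comp]
    simp only [g, Category.assoc]
    rw [Spec.map_comp (CommRingCat.ofHom R.subtype), Category.assoc]
    congr 1
    rw [← Spec.map_comp_assoc, ← Spec.map_comp_assoc]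
    rfl
  · rw [Scheme.Hom.comp_apply, hclosed, Scheme.fromSpecStalk_closedPoint]
  · rw [Scheme.Hom.comp_apply]
    exact Scheme.fromSpecResidueField_apply _ _

end Groth.Agent.AlgSpB.Art
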