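import Groth.Agent.AlgSpB.Art.Wrap
import Groth.Agent.AlgSp.CoprodCover
import Groth.Agent.AlgSp.SchImageQC

/-!
# Being an algebraic space is fppf local over an algebraic space
-/

universe u

open CategoryTheory CategoryTheory.Limits AlgebraicGeometry Opposite

set_option backward.isDefEq.respectTransparency false
set_option backward.isDefEq.respectTransparency.types false
set_option autoImplicit false

namespace Groth.Agent.AlgSpB.Art

open _root_.AlgSp

variable {S : Scheme.{u}}

/-- A representable flat lfp surjection is representable by algebraic spaces with these properties. -/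
theorem repBySpWith_of_repWith {F G : Sp S} {a : F ⟶ G} (hf : RepWith @Flat a)
    (hl : RepWith @LocallyOfFinitePresentation a) (hs : RepWith @Surjective a) :
    RepBySpWith (IsSurjectiveMor ⊓ LocP @Flat ⊓ LocP @LocallyOfFinitePresentation) a.hom := by
  intro T ξ P fst snd sq
  have hP : Presheaf.IsSheaf (J S) P := isSheaf_of_isPullback (H := (yon S).obj T) sq
  let snd₀ : (⟨P, hP⟩ : Sp S) ⟶ (yon S).obj T := ObjectProperty.homMk snd
  let fst₀ : (⟨P, hP⟩ : Sp S) ⟶ F := ObjectProperty.homMk fst
  have sq₀ : IsPullback fst₀ snd₀ a (ObjectProperty.homMk ξ) :=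
    IsPullback.of_map_of_faithful (sheafToPresheaf (J S) (Type (u + 1))) sq
  obtain ⟨O, o, f, so⟩ := hf.1 (ObjectProperty.homMk ξ)
  refine ⟨hP, (IsAlgSpace.yon_obj O).of_iso (IsPullback.isoIsPullback _ _ so sq₀), ⟨?_, ?_⟩, ?_⟩
  · have h := MorphismProperty.of_isPullback sq₀ hs
    exact (Groth.Agent.AlgSp.repWith_surjective_iff snd₀ h.1).1 h
  · exact AlgSpCov.locP_of_repWith AlgSpCov.etaleLocal_flat (MorphismProperty.of_isPullback sq₀ hf)
  · exact AlgSpCov.locP_of_repWith AlgSpCov.etaleLocal_locallyOfFinitePresentation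
      (MorphismProperty.of_isPullback sq₀ hl)

/-- A sheaf over an algebraic space which is fppf locally an algebraic space is an algebraic space. -/
theorem isAlgSpace_of_fppfCover {X F : Sp S} (hX : IsAlgSpace X) {ι : Type u} (Y : ι → Sp S)
    (hY : ∀ i, IsAlgSpace (Y i)) (g : ∀ i, Y i ⟶ X) (hf : ∀ i, LocP @Flat (g i))
    (hl : ∀ i, LocP @LocallyOfFinitePresentation (g i))
    (hcov : ∀ x : Points X, ∃ i, x ∈ Set.range (Points.map (g i))) (p : F ⟶ X)
    (h : ∀ i, IsAlgSpace (pullback p (g i))) : IsAlgSpace F := by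
  choose Vc q hqe hqs using fun i => (hY i).atlas
  obtain ⟨V, ε, ψ, hε, hVcov, hdis, hψ⟩ :=
    Groth.Agent.AlgSp.SchImageQC.exists_sigma_glue Vc fun i => q i ≫ g i
  have hψf : RepWith @Flat ψ := Groth.Agent.AlgSp.repWith_of_disjoint_cover ε hε hVcov hdis ψ fun i => by
    rw [hψ]; exact AlgSpCov.repWith_chart_comp AlgSpCov.etaleLocal_flat (hY i) hX (hf i) (hqe i)
  have hψl : RepWith @LocallyOfFinitePresentation ψ :=
    Groth.Agent.AlgSp.repWith_of_disjoint_cover ε hε hVcov hdis ψ fun i => by
      rw [hψ]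
      exact AlgSpCov.repWith_chart_comp AlgSpCov.etaleLocal_locallyOfFinitePresentation (hY i) hX (hl i) (hqe i)
  have hψs : RepWith @Surjective ψ := repWith_surjective_of_surjective_ofPt hψf.1 fun x => by
    obtain ⟨i, y, rfl⟩ := hcov x
    obtain ⟨v, rfl⟩ := surjective_ofPt (hqs i) y
    exact ⟨(ε i).left v, by rw [← ofPt_map_comp, hψ, Points.map_ofPt]⟩
  let P := pullback p ψ
  let pV : P ⟶ (yon S).obj V := pullback.snd p ψ
  let Pc : ι → Sp S := fun i => pullback (pullback.snd p (g i)) (q i)
  have hPc : ∀ i, IsAlgSpace (Pc i) := fun i =>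
    Groth.Agent.AlgSp.isAlgSpace_pullback (hY i) (h i) (IsAlgSpace.yon_obj _) _ _
  have hj : ∀ i, ∃ j : Pc i ⟶ P,
      IsPullback j (pullback.snd (pullback.snd p (g i)) (q i)) pV ((yon S).map (ε i)) := fun i => by
    have big : IsPullback (pullback.fst (pullback.snd p (g i)) (q i) ≫ pullback.fst p (g i))
        (pullback.snd (pullback.snd p (g i)) (q i)) p ((yon S).map (ε i) ≫ ψ) := by
      rw [hψ]
      exact (IsPullback.of_hasPullback (pullback.snd p (g i)) (q i)).paste_horiz
        (IsPullback.of_hasPullback p (g i))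
    obtain ⟨j, h1, h2⟩ := (IsPullback.of_hasPullback p ψ).exists_lift _ (pullback.snd _ (q i) ≫ (yon S).map (ε i))
      (big.w.trans (Category.assoc _ _ _).symm)
    exact ⟨j, IsPullback.of_right (by rw [h1]; exact big) h2 (IsPullback.of_hasPullback p ψ)⟩
  choose j sj using hj
  have hje : ∀ i, RepWith @Etale (j i) := fun i =>
    MorphismProperty.of_isPullback (sj i).flip
      ((repWith_yon_map_iff _ _).2 (have := hε i; inferInstance : Etale (ε i).left))
  choose Wc w hwe hws using fun i => (hPc i).atlas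
  obtain ⟨W, δ, l, hδ, hWcov, hWdis, hl'⟩ := Groth.Agent.AlgSp.SchImageQC.exists_sigma_glue Wc fun i => w i ≫ j i
  have hle : RepWith @Etale l := Groth.Agent.AlgSp.repWith_of_disjoint_cover δ hδ hWcov hWdis l fun i => by
    rw [hl']; exact (RepWith @Etale : MorphismProperty (Sp S)).comp_mem _ _ (hwe i) (hje i)
  have hls : RepWith @Surjective l := repWith_surjective_of_surjective_ofPt hle.1 fun x => by
    obtain ⟨v, hv⟩ := surjective_ofPt (repWith_of_isIso (P := @Surjective) (𝟙 ((yon S).obj V))) (Points.map pV x)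
    obtain ⟨i, v', rfl⟩ := hVcov v
    obtain ⟨z, hz, -⟩ := exists_of_isPullback (sj i) x (Points.ofPt (𝟙 _) v') (by
      rw [Points.map_ofPt, Category.id_comp, ← hv, ← Category.comp_id ((yon S).map (ε i)), ofPt_map_comp])
    obtain ⟨t, rfl⟩ := surjective_ofPt (hws i) z
    exact ⟨(δ i).left t, by rw [← ofPt_map_comp, hl', ← Points.map_ofPt]; exact hz⟩
  have sqP := (IsPullback.of_hasPullback p ψ).flip
  exact isAlgSpace_of_repBy (Groth.Agent.AlgSp.isAlgSpace_of_etale_surjective l hle hls) (pullback.fst p ψ)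
    (repBySpWith_of_repWith (MorphismProperty.of_isPullback sqP hψf) (MorphismProperty.of_isPullback sqP hψl)
      (MorphismProperty.of_isPullback sqP hψs))

end Groth.Agent.AlgSpB.Art
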