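import Mathlib.RingTheory.Jacobson.Ring
import Mathlib.RingTheory.TensorProduct.IncludeLeftSubRight
import Mathlib.RingTheory.Flat.FaithfullyFlat.Basic
import Mathlib.RingTheory.IntegralClosure.IntegrallyClosed
import Mathlib.RingTheory.Polynomial.RationalRoot
import Mathlib.RingTheory.Polynomial.UniqueFactorization
import Mathlib.RingTheory.Localization.FractionRing

/-!
# Finitely generated domains with an epimorphism from a tensor product of two fields
-/

universe u

open Polynomial

namespace Groth.Agent.AlgSpB.Art

/-- Euclid's sequence and the products of its initial terms. -/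
noncomputable def euclidPair {A : Type*} [CommRing A] (a : A) : ℕ → A × A
  | 0 => (a, 1)
  | n + 1 => (1 + (euclidPair a n).2 * (euclidPair a n).1, (euclidPair a n).2 * (euclidPair a n).1)

/-- Euclid's sequence: pairwise coprime elements of a ring built from a given one. -/
noncomputable def euclidSeq {A : Type*} [CommRing A] (a : A) (n : ℕ) : A := (euclidPair a n).1

/-- The product of the first `n` terms of `euclidSeq a`. -/
noncomputable def euclidProd {A : Type*} [CommRing A] (a : A) (n : ℕ) : A := (euclidPair a n).2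

variable {A B : Type*} [CommRing A] [CommRing B]

theorem euclidSeq_zero (a : A) : euclidSeq a 0 = a := rfl

theorem euclidSeq_succ (a : A) (n : ℕ) :
    euclidSeq a (n + 1) = 1 + euclidProd a n * euclidSeq a n := rfl

theorem euclidProd_succ (a : A) (n : ℕ) :
    euclidProd a (n + 1) = euclidProd a n * euclidSeq a n := rfl

theorem dvd_euclidProd (a : A) {m n : ℕ} (h : m < n) : euclidSeq a m ∣ euclidProd a n := by
  induction n with
  | zero => omega
  | succ n ih =>
    rcases eq_or_lt_of_le (Nat.lt_succ_iff.1 h) with rfl | hlt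
    · exact ⟨euclidProd a m, by rw [euclidProd_succ, mul_comm]⟩
    · exact (ih hlt).trans ⟨euclidSeq a n, euclidProd_succ a n⟩

theorem isCoprime_euclidSeq (a : A) {m n : ℕ} (h : m ≠ n) : IsCoprime (euclidSeq a m) (euclidSeq a n) := by
  wlog hlt : m < n generalizing m n
  · exact (this h.symm (by omega)).symm
  obtain ⟨j, rfl⟩ : ∃ j, n = j + 1 := ⟨n - 1, by omega⟩
  have hd : euclidSeq a m ∣ euclidProd a j * euclidSeq a j := by
    rw [← euclidProd_succ]; exact dvd_euclidProd a hlt
  obtain ⟨c, hc⟩ := hd
  exact ⟨-c, 1, by rw [euclidSeq_succ, hc]; ring⟩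

theorem map_euclid (f : A →+* B) (a : A) :
    ∀ n, f (euclidSeq a n) = euclidSeq (f a) n ∧ f (euclidProd a n) = euclidProd (f a) n
  | 0 => ⟨rfl, map_one f⟩
  | n + 1 => by
    obtain ⟨h1, h2⟩ := map_euclid f a n
    simp [euclidSeq_succ, euclidProd_succ, h1, h2]

theorem natDegree_euclidSeq (K : Type*) [Field K] :
    ∀ n, 0 < (euclidSeq (X : K[X]) n).natDegree ∧ euclidProd (X : K[X]) n ≠ 0
  | 0 => ⟨by simp [euclidSeq_zero], one_ne_zero⟩
  | n + 1 => by
    obtain ⟨h1, h2⟩ := natDegree_euclidSeq K n
    have hne : euclidSeq (X : K[X]) n ≠ 0 := fun h => by simp [h] at h1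
    refine ⟨?_, by rw [euclidProd_succ]; exact mul_ne_zero h2 hne⟩
    have h3 : 0 < (euclidProd (X : K[X]) n * euclidSeq X n).natDegree := by
      rw [natDegree_mul h2 hne]; omega
    rw [euclidSeq_succ, natDegree_add_eq_right_of_natDegree_lt (by simpa using h3)]
    exact h3

variable (k L : Type u) [Field k] [Field L]

/-- Elements of a field mapping into a finitely generated `k`-domain are algebraic over `k`. -/
theorem isIntegral_of_field_hom {B : Type u} [CommRing B] [IsDomain B] [Algebra k B]
    [Algebra.FiniteType k B] (φ : L →+* B) (l : L) : IsIntegral k (φ l) := by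
  classical
  by_contra hz
  let z := φ l
  have hinj : Function.Injective (aeval z : k[X] →ₐ[k] B) := by
    rw [← transcendental_iff_injective]
    exact fun h => hz h.isIntegral
  let : Algebra k[X] B := (aeval z : k[X] →ₐ[k] B).toRingHom.toAlgebra
  have hXB : ∀ f : k[X], algebraMap k[X] B f = aeval z f := fun f => rfl
  -- a residue field of the generic fibre
  let S : Submonoid B := (nonZeroDivisors k[X]).map (algebraMap k[X] B)
  have hS : S ≤ nonZeroDivisors B := by
    rintro _ ⟨f, hf, rfl⟩
    exact mem_nonZeroDivisors_of_ne_zero fun h => nonZeroDivisors.ne_zero hf (hinj (by rw [map_zero]; exact h))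
  let B' := Localization S
  have : Nontrivial B' := (IsLocalization.injective B' hS).nontrivial
  obtain ⟨m, hm⟩ := Ideal.exists_maximal B'
  let K := B' ⧸ m
  let : Field K := Ideal.Quotient.field m
  let ψ : B →+* K := (Ideal.Quotient.mk m).comp (algebraMap B B')
  let η : k[X] →+* K := ψ.comp (algebraMap k[X] B)
  have hunit : ∀ f : k[X], f ≠ 0 → η f ≠ 0 := fun f hf =>
    ((IsLocalization.map_units B' (⟨algebraMap k[X] B f, f, mem_nonZeroDivisors_of_ne_zero hf, rfl⟩ : S)).map
      (Ideal.Quotient.mk m)).ne_zero
  have hηinj : Function.Injective η := (injective_iff_map_eq_zero η).2 fun f hf => by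
    by_contra hne; exact hunit f hne hf
  let F := FractionRing k[X]
  let η' : F →+* K := IsLocalization.lift (M := nonZeroDivisors k[X]) (g := η) fun f =>
    (hunit _ (nonZeroDivisors.ne_zero f.2)).isUnit
  let : Algebra F K := η'.toAlgebra
  have hη : algebraMap k[X] K = η := rfl
  have : IsScalarTower k[X] F K := IsScalarTower.of_algebraMap_eq' (hη.trans (IsLocalization.lift_comp _).symm)
  obtain ⟨s, hs⟩ := (‹Algebra.FiniteType k B›).out
  -- `K` is finite over the field of rational functions
  have hgen : Algebra.adjoin F (ψ '' (s : Set B)) = ⊤ := by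
    rw [eq_top_iff]
    rintro x -
    let A' := Algebra.adjoin F (ψ '' (s : Set B))
    have hB : ∀ b, ψ b ∈ A' := fun b => by
      have hb : b ∈ Algebra.adjoin k (s : Set B) := hs ▸ Algebra.mem_top
      induction hb using Algebra.adjoin_induction with
      | mem b hb => exact Algebra.subset_adjoin ⟨b, hb, rfl⟩
      | algebraMap c =>
        have : ψ (algebraMap k B c) = algebraMap F K (algebraMap k[X] F (C c)) := by
          rw [← IsScalarTower.algebraMap_apply k[X] F K]
          show _ = ψ (algebraMap k[X] B (C c))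
          rw [hXB, aeval_C]
        rw [this]; exact A'.algebraMap_mem _
      | add a b _ _ ha hb => rw [map_add]; exact add_mem ha hb
      | mul a b _ _ ha hb => rw [map_mul]; exact mul_mem ha hb
    obtain ⟨x, rfl⟩ := Ideal.Quotient.mk_surjective x
    obtain ⟨b, ⟨_, f, hf, rfl⟩, rfl⟩ := IsLocalization.exists_mk'_eq S x
    have hf0 := nonZeroDivisors.ne_zero hf
    have : (Ideal.Quotient.mk m) (IsLocalization.mk' B' b (⟨algebraMap k[X] B f, f, hf, rfl⟩ : S)) =
        ψ b * (algebraMap F K (algebraMap k[X] F f)⁻¹) := by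
      rw [map_inv₀, ← IsScalarTower.algebraMap_apply k[X] F K]
      refine (eq_mul_inv_iff_mul_eq₀ (G₀ := K) (a := (Ideal.Quotient.mk m) _) (c := algebraMap k[X] K f)
        (by rw [hη]; exact hunit f hf0)).2 ?_
      show _ * (Ideal.Quotient.mk m) (algebraMap B B' (algebraMap k[X] B f)) = (Ideal.Quotient.mk m) (algebraMap B B' b)
      rw [← map_mul, IsLocalization.mk'_spec]
    rw [this]
    exact mul_mem (hB b) (A'.algebraMap_mem _)
  have : Algebra.FiniteType F K := ⟨⟨s.image ψ, by rw [Finset.coe_image]; exact hgen⟩⟩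
  have : Module.Finite F K := finite_of_finite_type_of_isJacobsonRing F K
  -- a common denominator of the images of the generators
  have hden : ∀ x : K, ∃ h : k[X], h ≠ 0 ∧ IsIntegral k[X] (η h * x) := fun x => by
    obtain ⟨⟨h, hh⟩, hint⟩ := IsIntegral.exists_multiple_integral_of_isLocalization (nonZeroDivisors k[X]) x
      (Algebra.IsIntegral.isIntegral (R := F) x)
    refine ⟨h, nonZeroDivisors.ne_zero hh, ?_⟩
    have e : η h * x = algebraMap k[X] K h * x := rfl
    rw [e, ← Algebra.smul_def]
    exact hint
  choose d hd0 hdint using hden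
  let h : k[X] := ∏ b ∈ s, d (ψ b)
  have hh0 : h ≠ 0 := Finset.prod_ne_zero_iff.2 fun b _ => hd0 _
  have hB : ∀ b, ∃ n, IsIntegral k[X] (η h ^ n * ψ b) := fun b => by
    have hb : b ∈ Algebra.adjoin k (s : Set B) := hs ▸ Algebra.mem_top
    have hhint : IsIntegral k[X] (η h) := isIntegral_algebraMap
    induction hb using Algebra.adjoin_induction with
    | mem b hb =>
      refine ⟨1, ?_⟩
      obtain ⟨c, hc⟩ : d (ψ b) ∣ h := Finset.dvd_prod_of_mem _ hb
      rw [pow_one, hc, map_mul, mul_comm (η (d (ψ b))), mul_assoc]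
      exact (isIntegral_algebraMap (R := k[X]) (A := K) (x := c)).mul (hdint _)
    | algebraMap c =>
      refine ⟨0, ?_⟩
      have : ψ (algebraMap k B c) = η (C c) := by
        show _ = ψ (algebraMap k[X] B (C c))
        rw [hXB, aeval_C]
      rw [pow_zero, one_mul, this]
      exact isIntegral_algebraMap
    | add a b _ _ ha hb =>
      obtain ⟨n, hn⟩ := ha
      obtain ⟨n', hn'⟩ := hb
      refine ⟨n + n', ?_⟩
      have e : η h ^ (n + n') * ψ (a + b) = η h ^ n' * (η h ^ n * ψ a) + η h ^ n * (η h ^ n' * ψ b) := by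
        rw [map_add]; ring
      rw [e]
      exact ((hhint.pow n').mul hn).add ((hhint.pow n).mul hn')
    | mul a b _ _ ha hb =>
      obtain ⟨n, hn⟩ := ha
      obtain ⟨n', hn'⟩ := hb
      refine ⟨n + n', ?_⟩
      have e : η h ^ (n + n') * ψ (a * b) = (η h ^ n * ψ a) * (η h ^ n' * ψ b) := by
        rw [map_mul]; ring
      rw [e]
      exact hn.mul hn'
  -- Euclid's sequence gives infinitely many coprime divisors of powers of `h`
  let g : ℕ → k[X] := fun n => euclidSeq (X : k[X]) n
  have hg : ∀ n, aeval z (g n) = φ (euclidSeq l n) := fun n => by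
    have := (map_euclid (aeval z : k[X] →ₐ[k] B).toRingHom X n).1
    rw [(map_euclid φ l n).1]
    simpa [g, z] using this
  have hl0 : ∀ n, euclidSeq l n ≠ 0 := fun n hn => by
    have h2 := natDegree_euclidSeq k n
    have : aeval z (g n) = 0 := by rw [hg, hn, map_zero]
    exact (fun h3 : g n = 0 => by simp [g] at h3; simp [h3] at h2) (hinj (by rw [this, map_zero]))
  have hdvd : ∀ n, ∃ N, g n ∣ h ^ N := fun n => by
    obtain ⟨N, hN⟩ := hB (φ (euclidSeq l n)⁻¹)
    refine ⟨N, ?_⟩
    have hu : η (g n) * ψ (φ (euclidSeq l n)⁻¹) = 1 := by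
      show ψ (algebraMap k[X] B (g n)) * _ = 1
      rw [hXB, hg, ← map_mul, ← map_mul, mul_inv_cancel₀ (hl0 n), map_one, map_one]
    have e : η h ^ N * ψ (φ (euclidSeq l n)⁻¹) =
        algebraMap F K (algebraMap k[X] F (h ^ N) / algebraMap k[X] F (g n)) := by
      have hgn : η (g n) ≠ 0 := fun h0 => by rw [h0, zero_mul] at hu; exact zero_ne_one hu
      rw [map_div₀, ← IsScalarTower.algebraMap_apply k[X] F K, ← IsScalarTower.algebraMap_apply k[X] F K,
        eq_div_iff (by exact hgn), mul_assoc, mul_comm (ψ _)]
      rw [show (algebraMap k[X] K) = η from rfl, hu, mul_one, map_pow]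
    rw [e] at hN
    have hN' : IsIntegral k[X] (algebraMap k[X] F (h ^ N) / algebraMap k[X] F (g n)) :=
      (isIntegral_algHom_iff (IsScalarTower.toAlgHom k[X] F K) (algebraMap F K).injective).1 hN
    obtain ⟨q, hq⟩ := IsIntegrallyClosed.isIntegral_iff.1 hN'
    have hgn0 : algebraMap k[X] F (g n) ≠ 0 := fun h0 => by
      have := (natDegree_euclidSeq k n).1
      rw [show euclidSeq (X : k[X]) n = 0 from (IsFractionRing.injective k[X] F) (by rw [map_zero]; exact h0)] at this
      simp at this
    rw [eq_div_iff hgn0, ← map_mul] at hq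
    exact ⟨q, by rw [← IsFractionRing.injective k[X] F hq, mul_comm]⟩
  choose N hN using hdvd
  have hfac : ∀ n, ∃ q ∈ (UniqueFactorizationMonoid.normalizedFactors h).toFinset, q ∣ g n := fun n => by
    have hnu : ¬ IsUnit (g n) := fun hu => by
      have := natDegree_eq_zero_of_isUnit hu
      have h2 := (natDegree_euclidSeq k n).1
      simp [g] at this
      omega
    have hg0 : g n ≠ 0 := fun h0 => by
      have := (natDegree_euclidSeq k n).1
      simp [g] at h0
      simp [h0] at this
    obtain ⟨q, hq, hqd⟩ := WfDvdMonoid.exists_irreducible_factor hnu hg0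
    have hqh : q ∣ h := (UniqueFactorizationMonoid.irreducible_iff_prime.1 hq).dvd_of_dvd_pow (hqd.trans (hN n))
    obtain ⟨q', hq', hqq'⟩ := UniqueFactorizationMonoid.exists_mem_normalizedFactors_of_dvd hh0 hq hqh
    exact ⟨q', Multiset.mem_toFinset.2 hq', hqq'.dvd_iff_dvd_left.1 hqd⟩
  choose q hq hqd using hfac
  obtain ⟨a, b, hab, heq⟩ := Finite.exists_ne_map_eq_of_infinite
    (fun n => (⟨q n, hq n⟩ : ↥(UniqueFactorizationMonoid.normalizedFactors h).toFinset))
  have heq' : q a = q b := congrArg Subtype.val heq
  have hp := UniqueFactorizationMonoid.prime_of_normalized_factor _ (Multiset.mem_toFinset.1 (hq a))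
  exact hp.not_unit ((isCoprime_euclidSeq (X : k[X]) hab).isUnit_of_dvd' (hqd a) (heq' ▸ hqd b))

/-- A finitely generated `k`-domain to which a field `L` maps is a field if maps out of it are
determined by their restrictions to `k` and `L`. -/
theorem isField_of_epi {B : Type u} [CommRing B] [IsDomain B] [Algebra k B]
    [Algebra.FiniteType k B] (φ : L →+* B)
    (h : ∀ (C : Type u) [CommRing C] (f g : B →+* C),
      f.comp (algebraMap k B) = g.comp (algebraMap k B) → f.comp φ = g.comp φ → f = g) : IsField B := by
  let E := integralClosure k B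
  have hE : IsField E := isField_of_isIntegral_of_isField' (R := k) (S := E) (Field.toIsField k)
  let : Field E := hE.toField
  have : Module.FaithfullyFlat E B := inferInstance
  have hsurj : ∀ b : B, b ∈ Set.range (algebraMap E B) := by
    intro b
    have he := h (TensorProduct E B B) Algebra.TensorProduct.includeLeftRingHom
      (Algebra.TensorProduct.includeRight : B →ₐ[E] TensorProduct E B B).toRingHom ?_ ?_
    · have hmem : b ∈ (Algebra.TensorProduct.includeLeftRingHom (R := E) (A := B) (B := B)).eqLocus
          (Algebra.TensorProduct.includeRight : B →ₐ[E] TensorProduct E B B).toRingHom := congr($he b)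
      rw [← (Algebra.IsEffective.of_faithfullyFlat (R := E) (S := B)).eqLocus_includeLeft_includeRight]
      exact hmem
    · ext c
      let e : E := algebraMap k E c
      have hc : algebraMap k B c = algebraMap E B e := IsScalarTower.algebraMap_apply k E B c
      simp [hc]
    · ext l
      let e : E := ⟨φ l, isIntegral_of_field_hom k L φ l⟩
      have hc : φ l = algebraMap E B e := rfl
      simp only [RingHom.comp_apply, hc]
      exact ((Algebra.TensorProduct.includeLeft : B →ₐ[E] TensorProduct E B B).commutes e).trans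
        ((Algebra.TensorProduct.includeRight : B →ₐ[E] TensorProduct E B B).commutes e).symm
  exact MulEquiv.isField hE
    (RingEquiv.ofBijective (algebraMap E B) ⟨(algebraMap E B).injective, hsurj⟩).symm.toMulEquiv

end Groth.Agent.AlgSpB.Art
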