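import Groth.Agent.AlgSpB.Art.Wrap
import Groth.Agent.AlgSpCov.LocP
import Groth.Prelude.Def_AlgSpGpd

/-!
# A free action defines an equivalence relation
-/

universe u

open CategoryTheory CategoryTheory.Limits AlgebraicGeometry MonoidalCategory CartesianMonoidalCategory
open scoped MonObj

set_option backward.isDefEq.respectTransparency false
set_option backward.isDefEq.respectTransparency.types false
set_option autoImplicit false

namespace Groth.Agent.AlgSpB.Art

open _root_.AlgSp

variable {S : Scheme.{u}} {B : Sp S} {G X : Over B} [GrpObj G] (a : GAction G X)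

theorem act_mul {T : Over B} (g h : T ⟶ G) (x : T ⟶ X) :
    lift (g * h) x ≫ a.act = lift g (lift h x ≫ a.act) ≫ a.act := by
  rw [Hom.mul_def, ← lift_whiskerRight, Category.assoc, a.mul_act,
    lift_lift_associator_hom_assoc, lift_whiskerLeft_assoc]

theorem act_one {T : Over B} (x : T ⟶ X) : lift (1 : T ⟶ G) x ≫ a.act = x := by
  rw [Hom.one_def, ← lift_whiskerRight, Category.assoc, a.one_act]
  simp

theorem isEqvRelSp_of_free (ha : a.IsFree) : IsEqvRelSp (snd G X).left a.act.left := by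
  have ov : ∀ {Y : Sp S} (r : Y ⟶ (G ⊗ X).left), r ≫ (G ⊗ X).hom = (r ≫ (snd G X).left) ≫ X.hom := fun r => by
    rw [Category.assoc, Over.w (snd G X)]
  have ov' : ∀ {Y : Sp S} (r : Y ⟶ (G ⊗ X).left), r ≫ (G ⊗ X).hom = (r ≫ a.act.left) ≫ X.hom := fun r => by
    rw [Category.assoc, Over.w a.act]
  constructor
  · intro T r r' h1 h2
    let β : (yon S).obj T ⟶ B := (r ≫ (snd G X).left) ≫ X.hom
    let R : Over.mk β ⟶ G ⊗ X := Over.homMk r (ov r)
    let R' : Over.mk β ⟶ G ⊗ X := Over.homMk r' ((ov r').trans (by rw [← h2]; rfl))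
    have hx : R ≫ snd G X = R' ≫ snd G X := Over.OverMorphism.ext h2
    have hy : R ≫ a.act = R' ≫ a.act := Over.OverMorphism.ext h1
    let g := R ≫ fst G X
    let g' := R' ≫ fst G X
    let x := R ≫ snd G X
    have e1 : lift g x = R := CartesianMonoidalCategory.hom_ext _ _ (lift_fst _ _) (lift_snd _ _)
    have e2 : lift g' x = R' := CartesianMonoidalCategory.hom_ext _ _ (lift_fst _ _) ((lift_snd _ _).trans hx)
    have e3 : lift (g'⁻¹ * g) x ≫ a.act = x := by
      rw [act_mul, e1, hy, ← e2, ← act_mul, inv_mul_cancel, act_one]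
    have e4 : g = g' := (inv_mul_eq_one.1 (show g'⁻¹ * g = 1 from
      (ha β _ x e3).trans (Hom.one_def).symm)).symm
    exact congrArg (fun k : Over.mk β ⟶ G ⊗ X => k.left) (e1.symm.trans ((congrArg (lift · x) e4).trans e2))
  · intro T
    constructor
    · intro b
      let x : Over.mk (b ≫ X.hom) ⟶ X := Over.homMk b rfl
      refine ⟨(lift 1 x : Over.mk (b ≫ X.hom) ⟶ G ⊗ X).left, ?_, ?_⟩
      · rw [← Over.comp_left, act_one]; rfl
      · rw [← Over.comp_left, lift_snd]; rfl
    · rintro _ _ ⟨r, rfl, rfl⟩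
      let β : (yon S).obj T ⟶ B := (r ≫ (snd G X).left) ≫ X.hom
      let R : Over.mk β ⟶ G ⊗ X := Over.homMk r (ov r)
      have e1 : lift (R ≫ fst G X) (R ≫ snd G X) = R :=
        CartesianMonoidalCategory.hom_ext _ _ (lift_fst _ _) (lift_snd _ _)
      refine ⟨(lift (R ≫ fst G X)⁻¹ (R ≫ a.act) : Over.mk β ⟶ G ⊗ X).left, ?_, ?_⟩
      · have : lift (R ≫ fst G X)⁻¹ (R ≫ a.act) ≫ a.act = R ≫ snd G X := by
          conv_lhs => rw [show R ≫ a.act = lift (R ≫ fst G X) (R ≫ snd G X) ≫ a.act by rw [e1]]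
          rw [← act_mul, inv_mul_cancel, act_one]
        rw [← Over.comp_left, this]; rfl
      · rw [← Over.comp_left, lift_snd]; rfl
    · rintro _ _ _ ⟨r, rfl, rfl⟩ ⟨r', h1, rfl⟩
      let β : (yon S).obj T ⟶ B := (r' ≫ (snd G X).left) ≫ X.hom
      let R' : Over.mk β ⟶ G ⊗ X := Over.homMk r' (ov r')
      let R : Over.mk β ⟶ G ⊗ X := Over.homMk r ((ov r).trans (by rw [← h1, ← ov', ov r']; rfl))
      have e1 : R' ≫ a.act = R ≫ snd G X := Over.OverMorphism.ext h1
      refine ⟨(lift ((R ≫ fst G X) * (R' ≫ fst G X)) (R' ≫ snd G X) : Over.mk β ⟶ G ⊗ X).left, ?_, ?_⟩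
      · have : lift ((R ≫ fst G X) * (R' ≫ fst G X)) (R' ≫ snd G X) ≫ a.act = R ≫ a.act := by
          rw [act_mul]
          rw [show lift (R' ≫ fst G X) (R' ≫ snd G X) = R' from
            CartesianMonoidalCategory.hom_ext _ _ (lift_fst _ _) (lift_snd _ _), e1]
          rw [show lift (R ≫ fst G X) (R ≫ snd G X) = R from
            CartesianMonoidalCategory.hom_ext _ _ (lift_fst _ _) (lift_snd _ _)]
        rw [← Over.comp_left, this]; rfl
      · rw [← Over.comp_left, lift_snd]; rfl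

end Groth.Agent.AlgSpB.Art
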