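import Groth.Agent.AlgSpB.Bootstrap2
import Groth.Agent.AlgSp.Quot

/-!
# Quotients of separated etale schemes by open and closed equivalence relations
-/

universe u

open CategoryTheory CategoryTheory.Limits AlgebraicGeometry

set_option backward.isDefEq.respectTransparency false
set_option backward.isDefEq.respectTransparency.types false
set_option autoImplicit false

namespace Groth.Agent.AlgSpB.Art

open _root_.AlgSp

variable {S : Scheme.{u}}

theorem exists_etale_lift {F G : Sp S} {a : F ⟶ G} (he : RepWith @Etale a) (hs : RepWith @Surjective a)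
    {T : Over S} (g : (yon S).obj T ⟶ G) :
    ∃ (T' : Over S) (k : T' ⟶ T) (l : (yon S).obj T' ⟶ F), Etale k.left ∧ Surjective k.left ∧
      l ≫ a = (yon S).map k ≫ g :=
  ⟨he.1.pullback g, he.1.snd g, he.1.fst g, he.2 _ _ _ (he.1.isPullback g),
    hs.2 _ _ _ (he.1.isPullback g), he.1.w g⟩

theorem exists_scheme_quot {R A U : Over S} (t s : R ⟶ A) (f : A ⟶ U) [Etale f.left] [IsSeparated f.left]
    (h : IsEqvRel s t) (w : t ≫ f = s ≫ f) [Etale s.left]
    (hc : IsClosedImmersion (pullback.lift t s w : R ⟶ pullback f f).left) :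
    ∃ (V : Over S) (π : A ⟶ V) (g : V ⟶ U), Etale π.left ∧ Surjective π.left ∧ π ≫ g = f ∧
      Etale g.left ∧ IsSeparated g.left ∧
      IsPullback ((yon S).map t) ((yon S).map s) ((yon S).map π) ((yon S).map π) := by
  obtain ⟨Q, π₀, hπ₀, sq⟩ : ∃ (Q : Sp S) (π₀ : (yon S).obj A ⟶ Q), Sheaf.IsLocallySurjective π₀ ∧
      IsPullback ((yon S).map t) ((yon S).map s) π₀ π₀ :=
    ⟨_, Groth.Agent.AlgSp.yπ s t, Groth.Agent.AlgSp.isLocallySurjective_yπ s t,
      Groth.Agent.AlgSp.isPullback_yπ s t h⟩
  obtain ⟨hQ, he, hsu⟩ := Groth.Agent.AlgSp.isAlgSpace_of_kernelPair π₀ sq ‹_›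
  obtain ⟨hcol⟩ := Groth.Agent.AlgSp.isColimit_of_isPullback π₀ sq
  obtain ⟨q, hq⟩ : ∃ q : Q ⟶ (yon S).obj U, π₀ ≫ q = (yon S).map f :=
    ⟨_, (Cofork.IsColimit.desc' hcol ((yon S).map f) (by rw [← Functor.map_comp, ← Functor.map_comp, w])).2⟩
  -- `q` is etale
  have hqe : LocP (@LocallyQuasiFinite ⊓ @LocallyOfFiniteType) q := by
    intro B C α β k hα hβ hw
    obtain ⟨c, rfl⟩ := (yon S).map_surjective β
    have hc' : Etale c.left := (repWith_yon_map_iff _ _).1 hβ
    have hk : Etale (k ≫ c).left := by
      obtain ⟨B', l, b, hl⟩ := exists_pullback_yon hα.1 π₀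
      have hlE : Etale b.left := hα.2 _ _ _ hl
      have hlS : Surjective l.left := hsu.2 _ _ _ hl.flip
      have hlE' : Etale l.left := he.2 _ _ _ hl.flip
      have e : l ≫ k ≫ c = b ≫ f := (yon S).map_injective (by
        rw [Functor.map_comp, Functor.map_comp, Functor.map_comp, ← hw, ← Category.assoc, hl.w,
          Category.assoc, hq])
      have : Etale (l.left ≫ (k ≫ c).left) := by
        rw [← Over.comp_left, e, Over.comp_left]
        infer_instance
      exact AlgSpCov.etale_of_comp_smooth l.left _ this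
    have : Etale k.left := MorphismProperty.of_postcomp @Etale k.left c.left hc' hk
    exact ⟨lqf_of_lft_unramified k.left, inferInstance⟩
  -- `q` is separated
  let D := pullback f f
  let m : (yon S).obj D ⟶ pullback q q :=
    pullback.lift ((yon S).map (pullback.fst f f) ≫ π₀) ((yon S).map (pullback.snd f f) ≫ π₀) (by
      rw [Category.assoc, Category.assoc, hq, ← Functor.map_comp, ← Functor.map_comp, pullback.condition])
  have sqD : IsPullback ((yon S).map (pullback.fst f f)) ((yon S).map (pullback.snd f f))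
      ((yon S).map f) ((yon S).map f) := (IsPullback.of_hasPullback f f).map (yon S)
  have : Sheaf.IsLocallySurjective m := by
    refine Groth.Agent.AlgSp.isLocallySurjective_of_fppf_lift m fun T g => ?_
    obtain ⟨T₁, k₁, l₁, _, _, h₁⟩ := exists_etale_lift he hsu (g ≫ pullback.fst q q)
    obtain ⟨T₂, k₂, l₂, _, _, h₂⟩ := exists_etale_lift he hsu ((yon S).map k₁ ≫ g ≫ pullback.snd q q)
    obtain ⟨l, hl1, hl2⟩ := sqD.exists_lift ((yon S).map k₂ ≫ l₁) l₂ (by
      rw [← hq, Category.assoc, reassoc_of% h₁, reassoc_of% h₂, pullback.condition])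
    refine ⟨T₂, k₂ ≫ k₁, l, inferInstanceAs (Flat (k₂.left ≫ k₁.left)),
      inferInstanceAs (Surjective (k₂.left ≫ k₁.left)),
      inferInstanceAs (LocallyOfFinitePresentation (k₂.left ≫ k₁.left)), ?_⟩
    apply pullback.hom_ext
    · simp only [m, Category.assoc, pullback.lift_fst]
      rw [reassoc_of% hl1, h₁, Functor.map_comp, Category.assoc]
    · simp only [m, Category.assoc, pullback.lift_snd]
      rw [reassoc_of% hl2, h₂, Functor.map_comp, Category.assoc]
  have sqd : IsPullback ((yon S).map t ≫ π₀) ((yon S).map (pullback.lift t s w : R ⟶ D))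
      (pullback.diagonal q) m := by
    refine ⟨⟨?_⟩, ⟨PullbackCone.IsLimit.mk _
      (fun c => sq.lift (c.snd ≫ (yon S).map (pullback.fst f f)) (c.snd ≫ (yon S).map (pullback.snd f f)) ?_)
      (fun c => ?_) (fun c => ?_) (fun c k h1 h2 => ?_)⟩⟩
    · apply pullback.hom_ext
      · simp [m, ← Functor.map_comp_assoc]
      · simp [m, ← Functor.map_comp_assoc, sq.w]
    · have e1 := congrArg (· ≫ pullback.fst q q) c.condition
      have e2 := congrArg (· ≫ pullback.snd q q) c.condition
      simp [m] at e1 e2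
      rw [Category.assoc, Category.assoc, ← e1, ← e2]
    · rw [sq.lift_fst_assoc]
      have e1 := congrArg (· ≫ pullback.fst q q) c.condition
      simp [m] at e1
      rw [Category.assoc, ← e1]
    · apply sqD.hom_ext
      · have e := congrArg (yon S).map (pullback.lift_fst t s w : pullback.lift t s w ≫ pullback.fst f f = t)
        rw [Functor.map_comp] at e
        rw [Category.assoc, e]
        exact sq.lift_fst _ _ _
      · have e := congrArg (yon S).map (pullback.lift_snd t s w : pullback.lift t s w ≫ pullback.snd f f = s)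
        rw [Functor.map_comp] at e
        rw [Category.assoc, e]
        exact sq.lift_snd _ _ _
    · apply sq.hom_ext
      · rw [sq.lift_fst, ← h2, Category.assoc, ← Functor.map_comp, pullback.lift_fst]
      · rw [sq.lift_snd, ← h2, Category.assoc, ← Functor.map_comp, pullback.lift_snd]
  have hrc : RepWith @IsClosedImmersion ((yon S).map (pullback.lift t s w : R ⟶ D)) :=
    (repWith_yon_map_iff _ _).2 hc
  have hdr : Representable (pullback.diagonal q) :=
    (Groth.Agent.AlgSp.repWith_sepLqf_of_baseChange (pullback.diagonal q) m sqd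
      (Groth.Agent.AlgSp.repWith_mono (fun g hg => (have : IsClosedImmersion g := hg;
        ⟨⟨inferInstance, inferInstance⟩, inferInstance⟩)) hrc)).1
  have hqs : IsSeparatedMor q :=
    Groth.Agent.AlgSp.repWith_of_isPullback_of_isLocallySurjective (pullback.diagonal q) hdr m _ _ sqd
      @IsClosedImmersion hrc
  obtain ⟨V, ⟨e⟩⟩ := exists_iso_of_lqf_sep hQ q hqe hqs
  let π : A ⟶ V := (yon S).preimage (π₀ ≫ e.inv)
  let g : V ⟶ U := (yon S).preimage (e.hom ≫ q)
  have hπ : (yon S).map π = π₀ ≫ e.inv := Functor.map_preimage _ _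
  have hg : (yon S).map g = e.hom ≫ q := Functor.map_preimage _ _
  have hπe : Etale π.left := (repWith_yon_map_iff _ _).1 (by
    rw [hπ]; exact (MorphismProperty.cancel_right_of_respectsIso _ _ _).2 he)
  have hπs : Surjective π.left := (repWith_yon_map_iff _ _).1 (by
    rw [hπ]; exact (MorphismProperty.cancel_right_of_respectsIso _ _ _).2 hsu)
  have hπg : π ≫ g = f := (yon S).map_injective (by
    rw [Functor.map_comp, hπ, hg, Category.assoc, e.inv_hom_id_assoc, hq])
  have : Etale (π.left ≫ g.left) := by rw [← Over.comp_left, hπg]; infer_instance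
  refine ⟨V, π, g, hπe, hπs, hπg, AlgSpCov.etale_of_comp_smooth π.left g.left this,
    (isSeparatedMor_yon_map_iff g).1 ?_, ?_⟩
  · rw [hg]
    exact MorphismProperty.comp_mem (RepWith @IsClosedImmersion : MorphismProperty (Sp S)).diagonal
      e.hom q (isSeparatedMor_of_mono _) hqs
  · rw [hπ]
    exact isPullback_comp_mono sq e.inv

end Groth.Agent.AlgSpB.Art
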