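import Groth.Agent.AlgSpB.Art.Pieces
import Groth.Agent.AlgSpB.Art.SchQuot
import Groth.Agent.AlgSp.FppfLocal2

/-!
# Making the family of pieces universal on its image
-/

universe u

open CategoryTheory CategoryTheory.Limits AlgebraicGeometry

set_option backward.isDefEq.respectTransparency false
set_option backward.isDefEq.respectTransparency.types false
set_option autoImplicit false

namespace Groth.Agent.AlgSpB.Art

open _root_.AlgSp

variable {S : Scheme.{u}} {F : Sp S} {U : Over S}

theorem exists_point_of_isPullback {P X Y Z : Scheme.{u}} {fst : P ⟶ X} {snd : P ⟶ Y} {f : X ⟶ Z}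
    {g : Y ⟶ Z} (h : IsPullback fst snd f g) (x : X) (y : Y) (e : f x = g y) :
    ∃ q : P, fst q = x ∧ snd q = y := by
  obtain ⟨w, hw1, hw2⟩ := Scheme.Pullback.exists_preimage_pullback x y e
  refine ⟨h.isoPullback.inv w, ?_, ?_⟩
  · rw [← Scheme.Hom.comp_apply, h.isoPullback_inv_fst, hw1]
  · rw [← Scheme.Hom.comp_apply, h.isoPullback_inv_snd, hw2]

variable {p : (yon S).obj U ⟶ F}

/-- The points of `V` over a point of `U` are determined by their pieces. -/
def Pc.Good (P : Pc p) : Prop :=
  ∀ (T : Over S) (a b : T ⟶ P.V), a ≫ P.f = b ≫ P.f → P.Rel a b → a = b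

variable [U.left.IsSeparated]

theorem exists_good (hp : RepWith (@Flat ⊓ @LocallyOfFinitePresentation) p) (P : Pc p) [IsAffine P.V.left]
    [Etale P.f.left] (hid : P.Mem P.f (𝟙 P.V)) (v : P.V.left)
    (huniq : ∀ x x' : P.X.left, x ∈ P.W → x' ∈ P.W → P.xV.left x = v → P.xV.left x' = v → x = x') :
    ∃ (P' : Pc p) (v' : P'.V.left), Etale P'.f.left ∧ IsSeparated P'.f.left ∧ P'.Good ∧
      P'.Mem P'.f (𝟙 P'.V) ∧ P'.f.left v' = P.f.left v ∧
      ∀ x x' : P'.X.left, x ∈ P'.W → x' ∈ P'.W → P'.xV.left x = v' → P'.xV.left x' = v' → x = x' := by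
  have : IsSeparated P.f.left := inferInstance
  -- the relation
  let D := pullback P.f P.f
  obtain ⟨C, hC, hCiff⟩ := P.exists_locus hp (pullback.fst P.f P.f) (pullback.snd P.f P.f)
    (by rw [pullback.condition])
  let E : Over S := Over.mk (C.ι ≫ D.hom)
  let j : E ⟶ D := Over.homMk C.ι rfl
  let t : E ⟶ P.V := j ≫ pullback.fst P.f P.f
  let s : E ⟶ P.V := j ≫ pullback.snd P.f P.f
  have hw : t ≫ P.f = s ≫ P.f := by simp only [t, s, Category.assoc, pullback.condition]
  have hlift : ∀ {T : Over S} (a b : T ⟶ P.V), a ≫ P.f = b ≫ P.f → P.Rel a b →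
      ∃ r : T ⟶ E, r ≫ t = a ∧ r ≫ s = b := by
    intro T a b hab hr
    let k : T ⟶ D := pullback.lift a b hab
    have hk : ∀ x, k.left x ∈ C := (hCiff T k).1 (by
      simp only [k, pullback.lift_fst, pullback.lift_snd]; exact hr)
    have hrange : Set.range k.left ⊆ Set.range C.ι := by
      rw [Scheme.Opens.range_ι]; rintro _ ⟨x, rfl⟩; exact hk x
    let r : T ⟶ E := Over.homMk (IsOpenImmersion.lift C.ι k.left hrange) (by
      change IsOpenImmersion.lift C.ι k.left hrange ≫ C.ι ≫ D.hom = _
      rw [IsOpenImmersion.lift_fac_assoc, Over.w])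
    have e : r ≫ j = k := Over.OverMorphism.ext (IsOpenImmersion.lift_fac _ _ _)
    exact ⟨r, by simp only [t, reassoc_of% e]; exact pullback.lift_fst _ _ _,
      by simp only [s, reassoc_of% e]; exact pullback.lift_snd _ _ _⟩
  have hrel : ∀ {T : Over S} (r : T ⟶ E), P.Rel (r ≫ t) (r ≫ s) := by
    intro T r
    have := (hCiff T (r ≫ j)).2 (fun x => (r.left x).2)
    simpa only [t, s, Category.assoc] using this
  have hinj : ∀ (T : Over S) (r r' : T ⟶ E), r ≫ t = r' ≫ t → r ≫ s = r' ≫ s → r = r' := by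
    intro T r r' h1 h2
    have e : r ≫ j = r' ≫ j := pullback.hom_ext (by simpa [t] using h1) (by simpa [s] using h2)
    exact Over.OverMorphism.ext ((cancel_mono C.ι).1 (congrArg (fun k : T ⟶ D => k.left) e))
  have heq : IsEqvRel s t := by
    refine ⟨hinj, fun T => ⟨fun a => hlift a a rfl (Pc.Rel.refl P a), ?_, ?_⟩⟩
    · rintro a b ⟨r, rfl, rfl⟩
      exact hlift _ _ (by simp only [Category.assoc, hw]) ((hrel r).symm P)
    · rintro a b c ⟨r, rfl, rfl⟩ ⟨r', h1, rfl⟩
      refine hlift _ _ ?_ ((hrel r).trans P (h1 ▸ hrel r'))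
      rw [Category.assoc, hw, ← Category.assoc, ← h1, Category.assoc, hw, ← Category.assoc]
  have sqD : IsPullback (pullback.fst P.f P.f).left (pullback.snd P.f P.f).left P.f.left P.f.left :=
    isPullback_map_left (IsPullback.of_hasPullback P.f P.f)
  have : Etale (pullback.snd P.f P.f).left := MorphismProperty.of_isPullback sqD ‹_›
  have : IsOpenImmersion j.left := inferInstanceAs (IsOpenImmersion C.ι)
  have : Etale s.left := inferInstanceAs (Etale (j.left ≫ (pullback.snd P.f P.f).left))
  have hc : IsClosedImmersion (pullback.lift t s hw : E ⟶ D).left := by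
    have e : (pullback.lift t s hw : E ⟶ D) = j := pullback.hom_ext (pullback.lift_fst _ _ _) (pullback.lift_snd _ _ _)
    rw [e]
    exact IsClosedImmersion.of_isPreimmersion C.ι (by rw [Scheme.Opens.range_ι]; exact hC.1)
  obtain ⟨V', π, g, hπe, hπs, hπg, hge, hgs, sqπ⟩ := exists_scheme_quot t s P.f heq hw hc
  -- the descended piece
  obtain ⟨X', xU', xV', sq'⟩ := exists_pullback_yon hp.1 ((yon S).map g ≫ p)
  obtain ⟨m, hm1, hm2⟩ := sq'.exists_lift ((yon S).map P.xU) ((yon S).map (P.xV ≫ π)) (by
    rw [P.sq.w, ← hπg]; simp only [Functor.map_comp, Category.assoc])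
  obtain ⟨m, rfl⟩ := (yon S).map_surjective m
  rw [← Functor.map_comp] at hm1 hm2
  replace hm1 := (yon S).map_injective hm1
  replace hm2 := (yon S).map_injective hm2
  have sqm : IsPullback m.left P.xV.left xV'.left π.left := by
    refine isPullback_map_left (IsPullback.of_map (yon S) hm2 ?_)
    refine IsPullback.of_right ?_ (by rw [← Functor.map_comp, ← Functor.map_comp, hm2]) sq'
    rw [← Functor.map_comp, hm1, ← Category.assoc, ← Functor.map_comp, hπg]
    exact P.sq
  have : Etale m.left := MorphismProperty.of_isPullback sqm.flip hπe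
  have : Surjective m.left := MorphismProperty.of_isPullback sqm.flip hπs
  let W' : X'.left.Opens := ⟨m.left '' P.W, m.left.isOpenMap _ P.W.2⟩
  have hW' : ∀ x : P.X.left, m.left x ∈ W' → x ∈ P.W := by
    rintro x ⟨x₀, hx₀, e⟩
    obtain ⟨w, hw1, hw2⟩ := exists_point_of_isPullback (isPullback_map_left (IsPullback.of_hasPullback m m)) x₀ x e
    let O : (pullback m m).left.Opens := (pullback.fst m m).left ⁻¹ᵁ P.W
    let T : Over S := Over.mk (O.ι ≫ (pullback m m).hom)
    let i : T ⟶ pullback m m := Over.homMk O.ι rfl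
    let a := i ≫ pullback.fst m m ≫ P.xV
    let b := i ≫ pullback.snd m m ≫ P.xV
    have e1 : (pullback.fst m m ≫ P.xU) = pullback.snd m m ≫ P.xU := by
      rw [← hm1, pullback.condition_assoc]
    have e2 : a ≫ π = b ≫ π := by
      simp only [a, b, Category.assoc, ← hm2, pullback.condition_assoc]
    obtain ⟨r, hr1, hr2⟩ := sqπ.exists_lift ((yon S).map a) ((yon S).map b) (by
      rw [← Functor.map_comp, ← Functor.map_comp, e2])
    obtain ⟨r, rfl⟩ := (yon S).map_surjective r
    rw [← Functor.map_comp] at hr1 hr2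
    have hR : P.Rel a b := by
      rw [← (yon S).map_injective hr1, ← (yon S).map_injective hr2]
      exact hrel r
    obtain ⟨x'', f1, f2, f3⟩ := hR.mem P (y := i ≫ pullback.fst m m ≫ P.xU)
      ⟨i ≫ pullback.fst m m, Category.assoc _ _ _, Category.assoc _ _ _, fun t => t.2⟩
    have hx'' : x'' = i ≫ pullback.snd m m := (yon S).map_injective (P.sq.hom_ext
      (by rw [← Functor.map_comp, ← Functor.map_comp, f1, Category.assoc, e1])
      (by rw [← Functor.map_comp, ← Functor.map_comp, f2, Category.assoc]))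
    let wO : ↥O := ⟨w, show (pullback.fst m m).left w ∈ P.W by rw [hw1]; exact hx₀⟩
    have := f3 wO
    rw [hx''] at this
    rw [← hw2]
    exact this
  have hWeq : m.left ⁻¹ᵁ W' = P.W := TopologicalSpace.Opens.ext (Set.ext fun x =>
    ⟨hW' x, fun h => ⟨x, h, rfl⟩⟩)
  have : LocallyOfFinitePresentation π.left := inferInstance
  have hfin : IsFinite (W'.ι ≫ xV'.left) := by
    have sq2 := (isPullback_morphismRestrict m.left W').paste_vert sqm
    refine MorphismProperty.IsLocalAtTarget.of_forall_pullbackSnd (K := Scheme.fppfPrecoverage)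
      (Scheme.Hom.singleton_mem_fppfPrecoverage π.left) ?_
    intro Z k _ hk
    cases hk
    have h2 : IsFinite ((m.left ⁻¹ᵁ W').ι ≫ P.xV.left) := by rw [hWeq]; exact P.fin
    rw [← sq2.isoPullback_inv_snd]
    exact (MorphismProperty.cancel_left_of_respectsIso @IsFinite _ _).2 h2
  let P' : Pc p := ⟨V', g, X', xU', xV', sq', W', hfin⟩
  have hmem : ∀ {T : Over S} (y : T ⟶ U) (c : T ⟶ P.V), P'.Mem y (c ≫ π) ↔ P.Mem y c := by
    intro T y c
    refine ⟨fun h => ?_, fun ⟨x, h1, h2, h3⟩ => ?_⟩
    · have hF := h.eq_F P'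
      obtain ⟨x', h1, h2, h3⟩ := h
      obtain ⟨x, k1, k2⟩ := P.sq.exists_lift ((yon S).map y) ((yon S).map c) (by
        rw [hF]; simp only [P', ← hπg, Functor.map_comp, Category.assoc])
      obtain ⟨x, rfl⟩ := (yon S).map_surjective x
      rw [← Functor.map_comp] at k1 k2
      replace k1 := (yon S).map_injective k1
      replace k2 := (yon S).map_injective k2
      have e : x' = x ≫ m := (yon S).map_injective (sq'.hom_ext
        (by rw [← Functor.map_comp, ← Functor.map_comp, h1, Category.assoc, hm1, k1])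
        (by rw [← Functor.map_comp, ← Functor.map_comp, h2, Category.assoc, hm2, reassoc_of% k2]))
      exact ⟨x, k1, k2, fun t => hW' _ (by have := h3 t; rw [e] at this; exact this)⟩
    · refine ⟨x ≫ m, ?_, ?_, fun t => ⟨x.left t, h3 t, rfl⟩⟩
      · exact ((Category.assoc _ _ _).trans (congrArg (x ≫ ·) hm1)).trans h1
      · exact ((Category.assoc _ _ _).trans (congrArg (x ≫ ·) hm2)).trans
          ((Category.assoc _ _ _).symm.trans (congrArg (· ≫ π) h2))
  refine ⟨P', π.left v, hge, hgs, fun T a b hab hr => ?_, ?_, ?_, fun x x' hx hx' e e' => ?_⟩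
  · -- goodness
    let T₁ := pullback a π
    let k₁ : T₁ ⟶ T := pullback.fst a π
    let T₂ := pullback (k₁ ≫ b) π
    let k₂ : T₂ ⟶ T₁ := pullback.fst (k₁ ≫ b) π
    have h1 := isPullback_map_left (IsPullback.of_hasPullback a π)
    have h2 := isPullback_map_left (IsPullback.of_hasPullback (k₁ ≫ b) π)
    have : Etale k₁.left := MorphismProperty.of_isPullback h1.flip hπe
    have : Surjective k₁.left := MorphismProperty.of_isPullback h1.flip hπs
    have : Etale k₂.left := MorphismProperty.of_isPullback h2.flip hπe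
    have : Surjective k₂.left := MorphismProperty.of_isPullback h2.flip hπs
    have : Flat (k₂ ≫ k₁).left := inferInstanceAs (Flat (k₂.left ≫ k₁.left))
    have : Surjective (k₂ ≫ k₁).left := inferInstanceAs (Surjective (k₂.left ≫ k₁.left))
    have : LocallyOfFinitePresentation (k₂ ≫ k₁).left :=
      inferInstanceAs (LocallyOfFinitePresentation (k₂.left ≫ k₁.left))
    let a' : T₂ ⟶ P.V := k₂ ≫ pullback.snd a π
    let b' : T₂ ⟶ P.V := pullback.snd (k₁ ≫ b) π
    have ha' : a' ≫ π = (k₂ ≫ k₁) ≫ a := by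
      simp only [a', k₁, Category.assoc, pullback.condition]
    have hb' : b' ≫ π = (k₂ ≫ k₁) ≫ b := by
      simp only [b', k₂, ← pullback.condition, Category.assoc]
    have hf' : a' ≫ P.f = b' ≫ P.f := by
      rw [← hπg, ← Category.assoc, ← Category.assoc, ha', hb', Category.assoc, Category.assoc]
      exact congrArg ((k₂ ≫ k₁) ≫ ·) hab
    have hr' : P.Rel a' b' := by
      refine ⟨by rw [hf'], fun T' k y => ?_⟩
      rw [← hmem, ← hmem, Category.assoc k a' π, Category.assoc k b' π, ha', hb']
      simp only [← Category.assoc]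
      exact hr.2 T' _ y
    obtain ⟨r, hr1, hr2⟩ := hlift a' b' hf' hr'
    have := epi_yon (k₂ ≫ k₁)
    apply (yon S).map_injective
    have e : t ≫ π = s ≫ π := (yon S).map_injective
      (((yon S).map_comp t π).trans (sqπ.w.trans ((yon S).map_comp s π).symm))
    rw [← cancel_epi ((yon S).map (k₂ ≫ k₁)), ← Functor.map_comp, ← Functor.map_comp, ← ha', ← hb', ← hr1,
      ← hr2, Category.assoc r t π, Category.assoc r s π, e]
  · -- the identity section
    obtain ⟨x, hx1, hx2, hx3⟩ := hid
    obtain ⟨x', k1, k2⟩ := sq'.exists_lift ((yon S).map g) (𝟙 _) (by simp)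
    obtain ⟨x', rfl⟩ := (yon S).map_surjective x'
    rw [← Functor.map_comp] at k1 k2
    replace k1 := (yon S).map_injective k1
    replace k2 := (yon S).map_injective (k2.trans ((yon S).map_id V').symm)
    refine ⟨x', k1, k2, fun t => ?_⟩
    obtain ⟨a, rfl⟩ := π.left.surjective t
    have e : π ≫ x' = x ≫ m := (yon S).map_injective (sq'.hom_ext
      (by rw [← Functor.map_comp, ← Functor.map_comp, Category.assoc, Category.assoc, hm1, hx1]
          exact congrArg (yon S).map ((congrArg (π ≫ ·) k1).trans hπg))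
      (by rw [← Functor.map_comp, ← Functor.map_comp, Category.assoc, Category.assoc, k2, hm2, reassoc_of% hx2,
        Category.comp_id]))
    have : x'.left (π.left a) = m.left (x.left a) := congrArg (fun k : P.V ⟶ X' => k.left a) e
    exact this ▸ ⟨x.left a, hx3 a, rfl⟩
  · exact congrArg (fun k : P.V ⟶ U => k.left v) hπg
  · obtain ⟨q, q1, q2⟩ := exists_point_of_isPullback sqm x v e
    obtain ⟨q', q1', q2'⟩ := exists_point_of_isPullback sqm x' v e'
    have h0 : q ∈ P.W := hW' _ (q1.symm ▸ hx)
    have h0' : q' ∈ P.W := hW' _ (q1'.symm ▸ hx')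
    rw [← q1, ← q1', huniq q q' h0 h0' q2 q2']

end Groth.Agent.AlgSpB.Art
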