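import Groth.Agent.AlgSpB.Art.GroupLocus

/-!
# Translations in a groupoid of algebraic spaces
-/

universe u

open CategoryTheory CategoryTheory.Limits AlgebraicGeometry

set_option backward.isDefEq.respectTransparency false
set_option backward.isDefEq.respectTransparency.types false
set_option autoImplicit false

namespace Groth.Agent.AlgSpB.Art

open _root_.AlgSp

variable {S : Scheme.{u}} {B : Sp S} (G : GroupoidSp B)
variable {P : MorphismProperty Scheme.{u}} {Q : ∀ (U V : Scheme.{u}), (U ⟶ V) → ↥U → Prop}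

theorem hasAtMor_s_iff_unit (hQ : BCProp P Q) (hU : IsAlgSpace G.U) (hR : IsAlgSpace G.R)
    (hs : LocP @LocallyOfFiniteType G.s) (x : Points G.R) :
    HasAtMor Q G.s x ↔ HasAtMor Q G.s (Points.map G.e (Points.map G.t x)) := by
  obtain ⟨p, hp⟩ := exists_eq_ofPt_toHom x
  let g : (yon S).obj p.pt ⟶ G.R := p.toHom
  let Pa := pullback G.s (g ≫ G.s)
  let Pb := pullback G.s (g ≫ G.t)
  let qa : Pa ⟶ (yon S).obj p.pt := pullback.snd G.s (g ≫ G.s)
  let qb : Pb ⟶ (yon S).obj p.pt := pullback.snd G.s (g ≫ G.t)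
  let fa : Pa ⟶ G.R := pullback.fst G.s (g ≫ G.s)
  let fb : Pb ⟶ G.R := pullback.fst G.s (g ≫ G.t)
  have hb : fb ≫ G.s = (qb ≫ g) ≫ G.t := pullback.condition.trans (Category.assoc _ _ _).symm
  have ha : fa ≫ G.s = (qa ≫ g ≫ G.i) ≫ G.t := by
    rw [Category.assoc, Category.assoc, G.i_t]
    exact pullback.condition
  let τ : Pb ⟶ Pa := pullback.lift (pullback.lift fb (qb ≫ g) hb ≫ G.c) qb
    ((G.comp_s _ _ hb).trans (Category.assoc _ _ _))
  let τ' : Pa ⟶ Pb := pullback.lift (pullback.lift fa (qa ≫ g ≫ G.i) ha ≫ G.c) qa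
    ((G.comp_s _ _ ha).trans (by rw [Category.assoc, Category.assoc, G.i_s]))
  have hlift : ∀ {W Z : Sp S} (k : W ⟶ Z) (α β : Z ⟶ G.R) (h : α ≫ G.s = β ≫ G.t),
      k ≫ pullback.lift α β h ≫ G.c = pullback.lift (k ≫ α) (k ≫ β)
        (by rw [Category.assoc, Category.assoc, h]) ≫ G.c := by
    intro W Z k α β h
    rw [← Category.assoc]
    congr 1
    apply pullback.hom_ext <;> simp
  have hτq : τ ≫ qa = qb := pullback.lift_snd _ _ _
  have hτq' : τ' ≫ qb = qa := pullback.lift_snd _ _ _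
  have hτf : τ ≫ fa = pullback.lift fb (qb ≫ g) hb ≫ G.c := pullback.lift_fst _ _ _
  have hτf' : τ' ≫ fb = pullback.lift fa (qa ≫ g ≫ G.i) ha ≫ G.c := pullback.lift_fst _ _ _
  have i1 : τ ≫ τ' = 𝟙 Pb := by
    apply pullback.hom_ext
    · change τ ≫ τ' ≫ fb = 𝟙 Pb ≫ fb
      rw [hτf', hlift, Category.id_comp]
      simp only [hτf, reassoc_of% hτq]
      rw [G.assoc fb (qb ≫ g) (qb ≫ g ≫ G.i) hb (by simp only [Category.assoc, G.i_t])]
      have e : pullback.lift (qb ≫ g) (qb ≫ g ≫ G.i) (by simp only [Category.assoc, G.i_t]) ≫ G.c =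
          fb ≫ G.s ≫ G.e := by
        have := G.comp_i (qb ≫ g)
        simp only [Category.assoc] at this
        rw [this, reassoc_of% hb]
      simp only [e]
      exact G.comp_e fb
    · change τ ≫ τ' ≫ qb = 𝟙 Pb ≫ qb
      rw [hτq', hτq, Category.id_comp]
  have i2 : τ' ≫ τ = 𝟙 Pa := by
    apply pullback.hom_ext
    · change τ' ≫ τ ≫ fa = 𝟙 Pa ≫ fa
      rw [hτf, hlift, Category.id_comp]
      simp only [hτf', reassoc_of% hτq']
      rw [G.assoc fa (qa ≫ g ≫ G.i) (qa ≫ g) ha (by simp only [Category.assoc, G.i_s])]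
      have e : pullback.lift (qa ≫ g ≫ G.i) (qa ≫ g) (by simp only [Category.assoc, G.i_s]) ≫ G.c =
          fa ≫ G.s ≫ G.e := by
        have := G.i_comp (qa ≫ g)
        simp only [Category.assoc] at this
        rw [this, reassoc_of% (pullback.condition : fa ≫ G.s = qa ≫ g ≫ G.s)]
      simp only [e]
      exact G.comp_e fa
    · change τ' ≫ τ ≫ qa = 𝟙 Pa ≫ qa
      rw [hτq, hτq', Category.id_comp]
  have : IsIso τ := ⟨τ', i1, i2⟩
  have sτ : IsPullback τ qb qa (𝟙 _) := IsPullback.of_horiz_isIso ⟨by rw [hτq, Category.comp_id]⟩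
  have sa : IsPullback fa qa G.s (g ≫ G.s) := IsPullback.of_hasPullback _ _
  have sb : IsPullback fb qb G.s (g ≫ G.t) := IsPullback.of_hasPullback _ _
  have hPa : IsAlgSpace Pa := Groth.Agent.AlgSp.isAlgSpace_pullback hU hR (IsAlgSpace.yon_obj _) _ _
  have hqa : LocP @LocallyOfFiniteType qa :=
    AlgSpCov.locP_baseChange AlgSpCov.etaleLocal_locallyOfFiniteType hR hU sa hs
  obtain ⟨σ, hσ1, hσ2⟩ := sb.exists_lift (g ≫ G.t ≫ G.e) (𝟙 _) (by
    rw [Category.assoc, Category.assoc, G.e_s, Category.comp_id, Category.id_comp])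
  have hτσ : σ ≫ τ ≫ fa = g := by
    rw [hτf, hlift]
    simp only [hσ1, ← Category.assoc σ qb g, hσ2, Category.id_comp]
    exact G.e_comp g
  let t : p.pt.left := IsLocalRing.closedPoint p.K
  let z : Points Pb := Points.ofPt σ t
  have e1 : Points.map fa (Points.map τ z) = x := by
    rw [← Points.map_comp, Points.map_ofPt, hτσ]; exact hp t
  have e2 : Points.map fb z = Points.map G.e (Points.map G.t x) := by
    rw [Points.map_ofPt, hσ1, ← hp t, Points.map_ofPt, Points.map_ofPt, Category.assoc]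
  rw [← e2]
  conv_lhs => rw [← e1]
  rw [← hasAtMor_baseChange hQ hR hU (IsAlgSpace.yon_obj _) hs sa (Points.map τ z),
    ← hasAtMor_baseChange hQ hPa (IsAlgSpace.yon_obj _) (IsAlgSpace.yon_obj _) hqa sτ z,
    hasAtMor_baseChange hQ hR hU (IsAlgSpace.yon_obj _) hs sb z]

end Groth.Agent.AlgSpB.Art
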