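import Groth.Agent.AlgSpD.UnrLocus
import Groth.Agent.AlgSpD.FibreDimBC
import Groth.Agent.AlgSpD.LqfLocus
import Groth.Agent.AlgSpCov.LargestOpen
import Groth.Agent.AlgSpB.Open
import Groth.Agent.Omega.UnramBC
import Groth.Agent.EtStruct.BaseChangeDescentScheme
import Groth.Prelude.Def_AlgSpGpd

/-!
# Pointwise properties invariant under base change, for group objects and pseudo-torsors
-/

universe u

open CategoryTheory CategoryTheory.Limits AlgebraicGeometry MonoidalCategory CartesianMonoidalCategory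
open scoped MonObj

set_option backward.isDefEq.respectTransparency false
set_option backward.isDefEq.respectTransparency.types false
set_option autoImplicit false

namespace Groth.Agent.AlgSpB.Art

open _root_.AlgSp

variable {S : Scheme.{u}}

/-- A property of a morphism at a point, invariant under base change, with its global version. -/
structure BCProp (P : MorphismProperty Scheme.{u})
    (Q : ∀ (U V : Scheme.{u}), (U ⟶ V) → ↥U → Prop) : Prop where
  inv : Groth.Agent.AlgSpD.MorEtaleInv.{u} Q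
  bc : ∀ ⦃X Y X' Y' : Scheme.{u}⦄ (f : X ⟶ Y) [LocallyOfFiniteType f] ⦃g : Y' ⟶ Y⦄ ⦃g' : X' ⟶ X⦄ ⦃f' : X' ⟶ Y'⦄,
    IsPullback g' f' f g → ∀ x', Q X' Y' f' x' ↔ Q X Y f (g' x')
  iff : ∀ ⦃U V : Scheme.{u}⦄ (h : U ⟶ V) [LocallyOfFiniteType h], P h ↔ ∀ u, Q U V h u

theorem bcProp_lqf :
    BCProp (@LocallyQuasiFinite ⊓ @LocallyOfFiniteType) Groth.Agent.AlgSpD.DimZeroAt.{u} where
  inv := Groth.Agent.AlgSpD.morEtaleInv_fibreDimAt 0
  bc := fun X Y X' Y' f _ g g' f' sq x' => by
    show FlatMor.fibreDimAt f' x' = 0 ↔ FlatMor.fibreDimAt f (g' x') = 0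
    rw [Groth.Agent.AlgSpD.fibreDimAt_of_isPullback f sq x']
  iff := fun U V h _ => ⟨fun ⟨h1, _⟩ u =>
    (Groth.Agent.AlgSpD.quasiFiniteAt_iff_fibreDimAt_eq_zero h u).1 (h.quasiFiniteAt u),
    fun H => ⟨Groth.Agent.AlgSpD.locallyQuasiFinite_of_forall h H, inferInstance⟩⟩

theorem unrNear_baseChange_iff {X Y X' Y' : Scheme.{u}} (f : X ⟶ Y) [LocallyOfFiniteType f] {g : Y' ⟶ Y}
    {g' : X' ⟶ X} {f' : X' ⟶ Y'} (sq : IsPullback g' f' f g) (x' : X') :
    Groth.Agent.AlgSpD.UnrNear X' Y' f' x' ↔ Groth.Agent.AlgSpD.UnrNear X Y f (g' x') := by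
  have : LocallyOfFiniteType f' := MorphismProperty.of_isPullback sq ‹LocallyOfFiniteType f›
  rw [Groth.Agent.AlgSpD.unrNear_iff, Groth.Agent.AlgSpD.unrNear_iff]
  constructor
  · rintro ⟨W, hW, hu⟩
    -- restrict to the fibre
    have sqF : IsPullback (f'.fiberι (f' x')) (f'.fiberToSpecResidueField (f' x')) f'
      (Y'.fromSpecResidueField (f' x')) := IsPullback.of_hasPullback _ _
    obtain ⟨W₁, hW₁, hu₁⟩ := Groth.Agent.Omega.UnramBC.exists_nhd_baseChange f' sqF (f'.asFiber x') W
      (by rwa [f'.fiberι_asFiber]) hu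
    have : LocallyOfFiniteType (f'.fiberToSpecResidueField (f' x')) :=
      MorphismProperty.pullback_snd _ _ inferInstance
    have : LocallyOfFiniteType (f.fiberToSpecResidueField (g (f' x'))) :=
      MorphismProperty.pullback_snd _ _ inferInstance
    have : Flat (Spec.map (g.residueFieldMap (f' x'))) := by
      rw [HasRingHomProperty.Spec_iff (P := @Flat)]
      algebraize [(g.residueFieldMap (f' x')).hom]
      exact RingHom.flat_algebraMap_iff.2 inferInstance
    have h1 := ((Groth.Agent.EtStruct.formallyUnramified_nhd_iff _ _).1 ⟨W₁, hW₁, hu₁⟩)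
    have h2 := (Groth.Agent.EtStruct.stalkMap_descent_of_flat
      (isPullback_fiberToSpecResidueField_of_isPullback sq (f' x')) (f'.asFiber x')).2 h1
    obtain ⟨W₂, hW₂, hu₂⟩ := (Groth.Agent.EtStruct.formallyUnramified_nhd_iff _ _).2 h2
    have key : ∀ y (z : f.fiber y) (W₃ : (f.fiber y).Opens), f (g' x') = y → f.fiberι y z = g' x' → z ∈ W₃ →
        FormallyUnramified (W₃.ι ≫ f.fiberToSpecResidueField y) →
        (f.stalkMap (g' x')).hom.FormallyUnramified := by
      rintro y z W₃ rfl hz hz₃ hu₃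
      rw [show z = f.asFiber (g' x') from
        (f.fiberι _).isEmbedding.injective (hz.trans (f.fiberι_asFiber _).symm)] at hz₃
      exact Groth.Agent.UnramFib.stalkMap_formallyUnramified_of_fiber_nhd f _ W₃ hz₃ hu₃
    exact (Groth.Agent.EtStruct.formallyUnramified_nhd_iff f _).2 (key _ _ W₂
      (by rw [← Scheme.Hom.comp_apply, ← Scheme.Hom.comp_apply, sq.w])
      (Groth.Agent.EtStruct.fiberMap_asFiber f sq x') hW₂ hu₂)
  · rintro ⟨U, hU, hu⟩
    exact Groth.Agent.Omega.UnramBC.exists_nhd_baseChange f sq x' U hU hu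

theorem bcProp_unr :
    BCProp (@LocallyOfFiniteType ⊓ @FormallyUnramified) Groth.Agent.AlgSpD.UnrNear.{u} where
  inv := Groth.Agent.AlgSpD.morEtaleInv_unrNear
  bc := fun X Y X' Y' f _ g g' f' sq x' => unrNear_baseChange_iff f sq x'
  iff := fun U V h _ => ⟨fun ⟨_, h2⟩ u => ⟨⊤, trivial, inferInstance,
      MorphismProperty.comp_mem @FormallyUnramified _ _ inferInstance h2⟩, fun H => ⟨inferInstance, by
    choose W hW _ hu using H
    exact IsZariskiLocalAtSource.of_openCover (P := @FormallyUnramified)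
      (U.openCoverOfIsOpenCover W (TopologicalSpace.IsOpenCover.mk (eq_top_iff.mpr fun x _ =>
        TopologicalSpace.Opens.mem_iSup.mpr ⟨x, hW x⟩))) hu⟩⟩

section Spaces

variable {P : MorphismProperty Scheme.{u}} {Q : ∀ (U V : Scheme.{u}), (U ⟶ V) → ↥U → Prop}

theorem locP_iff_forall (hQ : BCProp P Q) {F G : Sp S} (hF : IsAlgSpace F) (hG : IsAlgSpace G) (f : F ⟶ G)
    (hf : LocP @LocallyOfFiniteType f) : LocP P f ↔ ∀ x, HasAtMor Q f x := by
  constructor
  · intro H x
    obtain ⟨V, b, hb, hbs⟩ := hG.atlas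
    obtain ⟨U, a, h, ha, has, w⟩ := Groth.Agent.AlgSp.exists_chart_lift hF hG f b hb hbs
    obtain ⟨u, rfl⟩ := surjective_ofPt has x
    have := hf a b h ha hb w
    exact ⟨U, V, a, b, h, u, ha, hb, w, rfl, (hQ.iff h.left).1 (H a b h ha hb w) u⟩
  · intro H U V a b h ha hb w
    have := hf a b h ha hb w
    exact (hQ.iff h.left).2 fun u =>
      (Groth.Agent.AlgSpD.hasAtMor_iff_chart hQ.inv (X := ⟨F, hF⟩) (Y := ⟨G, hG⟩) (ObjectProperty.homMk f)
        ha hb w u).1 (H _)

/-- The property at a point is invariant under base change. -/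
theorem hasAtMor_baseChange (hQ : BCProp P Q) {X Y X' Y' : Sp S} (hX : IsAlgSpace X) (hY : IsAlgSpace Y)
    (hY' : IsAlgSpace Y') {f : X ⟶ Y} (hf : LocP @LocallyOfFiniteType f) {g : Y' ⟶ Y} {g' : X' ⟶ X}
    {f' : X' ⟶ Y'} (sq : IsPullback g' f' f g) (x' : Points X') :
    HasAtMor Q f' x' ↔ HasAtMor Q f (Points.map g' x') := by
  have hX' : IsAlgSpace X' := Groth.Agent.AlgSp.isAlgSpace_of_isPullback' hY hX hY' sq
  obtain ⟨V, b, hb, hbs⟩ := hY.atlas
  obtain ⟨V', b', v, hb', hbs', wv⟩ := Groth.Agent.AlgSp.exists_chart_lift hY' hY g b hb hbs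
  let XV := pullback f b
  obtain ⟨U, c, hc, hcs⟩ :=
    (Groth.Agent.AlgSp.isAlgSpace_pullback hY hX (IsAlgSpace.yon_obj V) f b).atlas
  obtain ⟨h, hh⟩ := (yon S).map_surjective (c ≫ pullback.snd f b)
  let P' := pullback f' b'
  have sqb := (IsPullback.of_hasPullback f' b').paste_horiz sq
  rw [wv] at sqb
  obtain ⟨ρ, hρ1, hρ2⟩ := (IsPullback.of_hasPullback f b).exists_lift (pullback.fst f' b' ≫ g')
    (pullback.snd f' b' ≫ (yon S).map v) (by rw [sqb.w, Category.assoc])
  have sqρ : IsPullback ρ (pullback.snd f' b') (pullback.snd f b) ((yon S).map v) :=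
    IsPullback.of_right (by rw [hρ1]; exact sqb) hρ2 (IsPullback.of_hasPullback f b)
  have sqU := IsPullback.of_hasPullback h v
  have sqU' : IsPullback ((yon S).map (pullback.fst h v)) ((yon S).map (pullback.snd h v))
      (c ≫ pullback.snd f b) ((yon S).map v) := hh ▸ sqU.map (yon S)
  obtain ⟨m, hm1, hm2⟩ := sqρ.exists_lift ((yon S).map (pullback.fst h v) ≫ c)
    ((yon S).map (pullback.snd h v)) (by rw [Category.assoc]; exact sqU'.w)
  have sm : IsPullback ((yon S).map (pullback.fst h v)) m c ρ :=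
    IsPullback.of_bot (by rw [hm2]; exact sqU') hm1.symm sqρ
  have hme : RepWith @Etale m := MorphismProperty.of_isPullback sm hc
  have hfe : RepWith @Etale (pullback.fst f' b') :=
    MorphismProperty.of_isPullback (IsPullback.of_hasPullback f' b').flip hb'
  have hfs : RepWith @Surjective (pullback.fst f' b') :=
    MorphismProperty.of_isPullback (IsPullback.of_hasPullback f' b').flip hbs'
  have ha' : RepWith @Etale (m ≫ pullback.fst f' b') :=
    (RepWith @Etale : MorphismProperty (Sp S)).comp_mem _ _ hme hfe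
  have ha : RepWith @Etale (c ≫ pullback.fst f b) :=
    (RepWith @Etale : MorphismProperty (Sp S)).comp_mem _ _ hc
      (MorphismProperty.of_isPullback (IsPullback.of_hasPullback f b).flip hb)
  have wh : (c ≫ pullback.fst f b) ≫ f = (yon S).map h ≫ b := by
    rw [hh, Category.assoc, Category.assoc, pullback.condition]
  have wh' : (m ≫ pullback.fst f' b') ≫ f' = (yon S).map (pullback.snd h v) ≫ b' := by
    rw [Category.assoc, pullback.condition, reassoc_of% hm2]
  obtain ⟨z, rfl⟩ := (Groth.Agent.AlgSp.repWith_surjective_iff _ hfs.1).1 hfs x'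
  obtain ⟨u₀, hu₀⟩ := surjective_ofPt (MorphismProperty.of_isPullback sm hcs : RepWith @Surjective m) z
  subst hu₀
  have e : Points.map g' (Points.map (pullback.fst f' b') (Points.ofPt m u₀)) =
      Points.ofPt (c ≫ pullback.fst f b) ((pullback.fst h v).left u₀) := by
    rw [Points.map_ofPt, Points.map_ofPt, ← ofPt_map_comp, ← Category.assoc ((yon S).map (pullback.fst h v)),
      ← hm1, Category.assoc, Category.assoc, hρ1]
  have := hf _ b h ha hb wh
  rw [e, Points.map_ofPt]
  exact (Groth.Agent.AlgSpD.hasAtMor_iff_chart hQ.inv (X := ⟨X', hX'⟩) (Y := ⟨Y', hY'⟩) (ObjectProperty.homMk f')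
      ha' hb' wh' u₀).trans ((hQ.bc h.left (sqU.map (Over.forget S)) u₀).trans
    (Groth.Agent.AlgSpD.hasAtMor_iff_chart hQ.inv (X := ⟨X, hX⟩) (Y := ⟨Y, hY⟩) (ObjectProperty.homMk f)
      ha hb wh _).symm)

variable {B : Sp S}

/-- A pseudo torsor has the property wherever the group does. -/
theorem locP_of_pseudoTorsor (hQ : BCProp P Q) (hB : IsAlgSpace B) {G X : Over B} [GrpObj G]
    (hG : IsAlgSpace G.left) (hX : IsAlgSpace X.left) (a : GAction G X) (ha : a.IsPseudoTorsor)
    (hGt : LocP @LocallyOfFiniteType G.hom) (hXt : LocP @LocallyOfFiniteType X.hom) (h : LocP P G.hom) :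
    LocP P X.hom := by
  rw [locP_iff_forall hQ hX hB X.hom hXt]
  intro x
  have hG' := (locP_iff_forall hQ hG hB G.hom hGt).1 h
  have : IsIso (lift a.act (snd G X)) := ha
  let l : G ⊗ X ≅ X ⊗ X := asIso (lift a.act (snd G X))
  have sG : IsPullback (fst G X).left (snd G X).left G.hom X.hom := IsPullback.of_hasPullback G.hom X.hom
  have sX : IsPullback (fst X X).left (snd X X).left X.hom X.hom := IsPullback.of_hasPullback X.hom X.hom
  have sL : IsPullback l.hom.left (snd G X).left (snd X X).left (𝟙 X.left) := by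
    have : IsIso l.hom.left := (inferInstance : IsIso ((Over.forget B).map l.hom))
    refine IsPullback.of_horiz_isIso ⟨?_⟩
    rw [Category.comp_id, ← Over.comp_left]
    exact congrArg (fun k : G ⊗ X ⟶ X => k.left) (lift_snd _ _)
  have hXX : IsAlgSpace (X ⊗ X).left := Groth.Agent.AlgSp.isAlgSpace_pullback hB hX hX X.hom X.hom
  have hsnd : LocP @LocallyOfFiniteType (snd X X).left :=
    AlgSpCov.locP_baseChange AlgSpCov.etaleLocal_locallyOfFiniteType hX hB sX hXt
  obtain ⟨z, hz, -⟩ := exists_of_isPullback sX x x rfl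
  let z' := Points.map l.inv.left z
  have hz' : Points.map l.hom.left z' = z := by
    rw [← Points.map_comp, ← Over.comp_left, l.inv_hom_id, Over.id_left, Points.map_id]
  rw [← hz, ← hasAtMor_baseChange hQ hX hB hX hXt sX z, ← hz',
    ← hasAtMor_baseChange hQ hXX hX hX hsnd sL z', hasAtMor_baseChange hQ hG hB hX hGt sG z']
  exact hG' _

/-- In a group the property at a point is the property at the unit over the same point of the base. -/
theorem hasAtMor_iff_unit (hQ : BCProp P Q) (hB : IsAlgSpace B) {G : Over B} [GrpObj G]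
    (hG : IsAlgSpace G.left) (hGt : LocP @LocallyOfFiniteType G.hom) (x : Points G.left) :
    HasAtMor Q G.hom x ↔ HasAtMor Q G.hom (Points.map η[G].left (Points.map G.hom x)) := by
  obtain ⟨p, hp⟩ := exists_eq_ofPt_toHom x
  let β : (yon S).obj p.pt ⟶ B := p.toHom ≫ G.hom
  let GT := pullback G.hom β
  let q : GT ⟶ (yon S).obj p.pt := pullback.snd G.hom β
  let O : Over B := Over.mk (q ≫ β)
  let f0 : O ⟶ G := Over.homMk (pullback.fst G.hom β) pullback.condition
  let g0 : O ⟶ G := Over.homMk (q ≫ p.toHom) (Category.assoc _ _ _)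
  let mk : (O ⟶ G) → (GT ⟶ GT) := fun k => pullback.lift k.left q (Over.w k)
  let hom : (O ⟶ G) → (O ⟶ O) := fun k =>
    Over.homMk (mk k) (by simp only [O, mk, Over.mk_hom, ← Category.assoc, q, pullback.lift_snd])
  have hmk : ∀ k k', hom k ≫ f0 = k ∧ hom k ≫ g0 = g0 ∧ (hom k ≫ k' = f0 → mk k ≫ mk k' = 𝟙 GT) := by
    intro k k'
    refine ⟨Over.OverMorphism.ext (pullback.lift_fst _ _ _), Over.OverMorphism.ext ?_, fun e => ?_⟩
    · simp only [hom, g0, mk, Over.comp_left, Over.homMk_left, ← Category.assoc, q, pullback.lift_snd]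
    · apply pullback.hom_ext
      · simp only [mk, Category.assoc, pullback.lift_fst, Category.id_comp]
        exact congrArg (fun l : O ⟶ G => l.left) e
      · simp only [mk, Category.assoc, pullback.lift_snd, Category.id_comp, q]
  have i1 : mk (f0 * g0) ≫ mk (f0 * g0⁻¹) = 𝟙 GT := (hmk _ _).2.2 (by
    rw [MonObj.comp_mul, GrpObj.comp_inv, (hmk _ g0).1, (hmk _ g0).2.1, mul_inv_cancel_right])
  have i2 : mk (f0 * g0⁻¹) ≫ mk (f0 * g0) = 𝟙 GT := (hmk _ _).2.2 (by
    rw [MonObj.comp_mul, (hmk _ g0).1, (hmk _ g0).2.1, inv_mul_cancel_right])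
  have : IsIso (mk (f0 * g0)) := ⟨_, i1, i2⟩
  have sτ : IsPullback (mk (f0 * g0)) q q (𝟙 _) :=
    IsPullback.of_horiz_isIso ⟨by simp only [mk, q, pullback.lift_snd, Category.comp_id]⟩
  have sq : IsPullback (pullback.fst G.hom β) q G.hom β := IsPullback.of_hasPullback _ _
  have hGT : IsAlgSpace GT := Groth.Agent.AlgSp.isAlgSpace_pullback hB hG (IsAlgSpace.yon_obj _) _ _
  have hqt : LocP @LocallyOfFiniteType q :=
    AlgSpCov.locP_baseChange AlgSpCov.etaleLocal_locallyOfFiniteType hG hB sq hGt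
  obtain ⟨σ, hσ1, hσ2⟩ := sq.exists_lift (β ≫ η[G].left) (𝟙 _) (by
    rw [Category.assoc, Over.w η[G], Category.id_comp]
    exact Category.comp_id β)
  let σ' : Over.mk β ⟶ O := Over.homMk σ (by
    show σ ≫ q ≫ β = β
    rw [← Category.assoc, hσ2, Category.id_comp])
  have hσf : σ' ≫ f0 = (1 : Over.mk β ⟶ G) := by
    apply Over.OverMorphism.ext
    rw [Hom.one_def]
    exact hσ1
  have hτ : σ ≫ mk (f0 * g0) ≫ pullback.fst G.hom β = p.toHom := by
    have e : σ' ≫ (f0 * g0) = Over.homMk (U := Over.mk β) p.toHom rfl := by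
      rw [MonObj.comp_mul, hσf, one_mul]
      apply Over.OverMorphism.ext
      show σ ≫ q ≫ p.toHom = p.toHom
      rw [← Category.assoc, hσ2, Category.id_comp]
    rw [pullback.lift_fst]
    exact congrArg (fun l : Over.mk β ⟶ G => l.left) e
  let t : p.pt.left := IsLocalRing.closedPoint p.K
  let z : Points GT := Points.ofPt σ t
  have e1 : Points.map (pullback.fst G.hom β) (Points.map (mk (f0 * g0)) z) = x := by
    rw [← Points.map_comp, Points.map_ofPt, hτ]; exact hp t
  have e2 : Points.map (pullback.fst G.hom β) z = Points.map η[G].left (Points.map G.hom x) := by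
    rw [Points.map_ofPt, hσ1, ← hp t, Points.map_ofPt, Points.map_ofPt]
  rw [← e2]
  conv_lhs => rw [← e1]
  rw [← hasAtMor_baseChange hQ hG hB (IsAlgSpace.yon_obj _) hGt sq (Points.map (mk (f0 * g0)) z),
    ← hasAtMor_baseChange hQ hGT (IsAlgSpace.yon_obj _) (IsAlgSpace.yon_obj _) hqt sτ z,
    hasAtMor_baseChange hQ hG hB (IsAlgSpace.yon_obj _) hGt sq z]

/-- The largest open over which a group has the property. -/
theorem exists_largest_open_group (hQ : BCProp P Q)
    (hopen : ∀ {F G : Sp S} (hF : IsAlgSpace F) (hG : IsAlgSpace G) (f : F ⟶ G),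
      LocP @LocallyOfFiniteType f → IsOpen {x | HasAtMor Q f x})
    (hB : IsAlgSpace B) {G : Over B} [GrpObj G] (hG : IsAlgSpace G.left)
    (hGt : LocP @LocallyOfFiniteType G.hom) :
    ∃ (W : Sp S) (w : W ⟶ B), RepWith @IsOpenImmersion w ∧
      (∀ (W' : Sp S) (w' : W' ⟶ B), RepWith @IsOpenImmersion w' →
        (LocP P (pullback.snd G.hom w') ↔ ∃ k : W' ⟶ W, k ≫ w = w')) ∧
      (∀ (B' : Sp S), IsAlgSpace B' → ∀ (f : B' ⟶ B) (W'' : Sp S) (w'' : W'' ⟶ B'),
        RepWith @IsOpenImmersion w'' →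
        (LocP P (pullback.snd (pullback.snd G.hom f) w'') ↔
          ∃ k : W'' ⟶ pullback w f, k ≫ pullback.snd w f = w'')) := by
  let T : Set (Points B) := Points.map η[G].left ⁻¹' {x | HasAtMor Q G.hom x}
  have hT : IsOpen T := (hopen hG hB G.hom hGt).preimage (Points.continuous_map _)
  obtain ⟨W, j, hj, hr⟩ := exists_openSubspace ⟨B, hB⟩ hT
  have main : ∀ {A Z : Sp S} (_ : IsAlgSpace A) (φ : A ⟶ B) {fst : Z ⟶ G.left} {snd : Z ⟶ A},
      IsPullback fst snd G.hom φ → (LocP P snd ↔ ∃ k : A ⟶ W.obj, k ≫ j.hom = φ) := by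
    intro A Z hA φ fst snd sq
    have hZ : IsAlgSpace Z := Groth.Agent.AlgSp.isAlgSpace_of_isPullback' hB hG hA sq
    have hst := AlgSpCov.locP_baseChange AlgSpCov.etaleLocal_locallyOfFiniteType hG hB sq hGt
    rw [locP_iff_forall hQ hZ hA snd hst, exists_factor_isOpenImmersion_iff hj φ, hr]
    constructor
    · rintro H _ ⟨c, rfl⟩
      obtain ⟨z, hz1, hz2⟩ := exists_of_isPullback sq (Points.map η[G].left (Points.map φ c)) c (by
        rw [← Points.map_comp, Over.w η[G]]
        exact Points.map_id _)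
      show HasAtMor Q G.hom (Points.map η[G].left (Points.map φ c))
      rw [← hz1, ← hasAtMor_baseChange hQ hG hB hA hGt sq z]
      exact H z
    · intro H z
      rw [hasAtMor_baseChange hQ hG hB hA hGt sq z, hasAtMor_iff_unit hQ hB hG hGt]
      exact H ⟨Points.map snd z, by rw [← Points.map_comp, ← sq.w, Points.map_comp]⟩
  refine ⟨W.obj, j.hom, hj, fun W' w' hw' => ?_, fun B' hB' f W'' w'' hw'' => ?_⟩
  · have := mono_of_isOpenImmersion hw'
    exact main (isAlgSpace_of_mono_representable hB w' hw'.1) w' (IsPullback.of_hasPullback _ _)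
  · have := mono_of_isOpenImmersion hw''
    rw [main (isAlgSpace_of_mono_representable hB' w'' hw''.1) (w'' ≫ f)
      ((IsPullback.of_hasPullback _ _).paste_horiz (IsPullback.of_hasPullback G.hom f))]
    constructor
    · rintro ⟨k, hk⟩
      exact ⟨pullback.lift k w'' hk, pullback.lift_snd _ _ _⟩
    · rintro ⟨k, hk⟩
      exact ⟨k ≫ pullback.fst _ _, by rw [Category.assoc, pullback.condition, reassoc_of% hk]⟩

end Spaces

end Groth.Agent.AlgSpB.Art
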