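import Groth.Agent.AlgSpB.Art.Wrap

/-!
# Cancelling a cover from a map representable by algebraic spaces
-/

universe u

open CategoryTheory CategoryTheory.Limits AlgebraicGeometry Opposite

set_option backward.isDefEq.respectTransparency false
set_option backward.isDefEq.respectTransparency.types false
set_option autoImplicit false

namespace Groth.Agent.AlgSpB.Art

open _root_.AlgSp

variable {S : Scheme.{u}}

theorem repBySp_of_comp {F G H : Sp S} (a : F ⟶ G) (b : G ⟶ H)
    (ha : RepBySpWith (IsSurjectiveMor ⊓ LocP @Flat ⊓ LocP @LocallyOfFinitePresentation) a.hom)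
    (hab : RepBySp (a ≫ b).hom) : RepBySp b.hom := by
  intro T ξ P fst snd sq
  have hP : Presheaf.IsSheaf (J S) P := isSheaf_of_isPullback (H := (yon S).obj T) sq
  let P₀ : Sp S := ⟨P, hP⟩
  let fst₀ : P₀ ⟶ G := ObjectProperty.homMk fst
  let P' := pullback a fst₀
  let a' : P' ⟶ P₀ := pullback.snd a fst₀
  have sqa : IsPullback (pullback.fst a fst₀).hom a'.hom a.hom fst :=
    (IsPullback.of_hasPullback a fst₀).map (sheafToPresheaf (J S) (Type (u + 1)))
  obtain ⟨_, hA⟩ := hab ξ _ _ (sqa.flip.paste_horiz sq.flip).flip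
  have hrep : RepBySpWith (IsSurjectiveMor ⊓ LocP @Flat ⊓ LocP @LocallyOfFinitePresentation) a'.hom :=
    fun U η Q f s sq' => ha (η ≫ fst) (f ≫ (pullback.fst a fst₀).hom) s (sq'.paste_horiz sqa)
  exact ⟨hP, isAlgSpace_of_repBy (X := P') hA a' hrep⟩

end Groth.Agent.AlgSpB.Art
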