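import Groth.Agent.AlgSpB.Art.GoodPc

/-!
# The finite equivalence relation of a universal family of pieces
-/

universe u

open CategoryTheory CategoryTheory.Limits AlgebraicGeometry

set_option backward.isDefEq.respectTransparency false
set_option backward.isDefEq.respectTransparency.types false
set_option autoImplicit false

namespace Groth.Agent.AlgSpB.Art

open _root_.AlgSp

variable {S : Scheme.{u}} {F : Sp S} {U : Over S} {p : (yon S).obj U ⟶ F}

theorem exists_lift_of_forall_mem {T X Z : Over S} (i : Z ⟶ X) [IsOpenImmersion i.left] (k : T ⟶ X)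
    (h : ∀ t, k.left t ∈ Set.range i.left) : ∃ r : T ⟶ Z, r ≫ i = k := by
  have hr : Set.range k.left ⊆ Set.range i.left := by rintro _ ⟨t, rfl⟩; exact h t
  refine ⟨Over.homMk (IsOpenImmersion.lift i.left k.left hr) ?_, Over.OverMorphism.ext (IsOpenImmersion.lift_fac _ _ _)⟩
  rw [← Over.w i, IsOpenImmersion.lift_fac_assoc, Over.w]

variable [IsAffine U.left]

set_option maxHeartbeats 800000 in
/-- On an invariant open neighbourhood the translations of the universal family of pieces form a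
finite locally free equivalence relation, which is open in the kernel pair of `V ⟶ F`. -/
theorem exists_finite_rel (hp : RepWith (@Flat ⊓ @LocallyOfFinitePresentation) p) (P : Pc p)
    [Etale P.f.left] [IsSeparated P.f.left] (hG : P.Good) (hid : P.Mem P.f (𝟙 P.V)) (v : P.V.left)
    (huniq : ∀ x x' : P.X.left, x ∈ P.W → x' ∈ P.W → P.xV.left x = v → P.xV.left x' = v → x = x') :
    ∃ (V R : Over S) (g : V ⟶ U) (t s : R ⟶ V) (v₀ : V.left), Etale g.left ∧ IsSeparated g.left ∧
      g.left v₀ = P.f.left v ∧ IsEqvRel s t ∧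
      IsFinite s.left ∧ Flat s.left ∧ LocallyOfFinitePresentation s.left ∧
      (yon S).map (t ≫ g) ≫ p = (yon S).map (s ≫ g) ≫ p ∧
      (∀ (T : Over S) (a b : T ⟶ V), (yon S).map (a ≫ g) ≫ p = (yon S).map (b ≫ g) ≫ p →
        ∃ C : T.left.Opens, ∀ (T' : Over S) (k : T' ⟶ T),
          (∃ r : T' ⟶ R, r ≫ t = k ≫ a ∧ r ≫ s = k ≫ b) ↔ ∀ x, k.left x ∈ C) := by
  -- the locus where a translate exists
  let D := pullback P.zU P.f
  obtain ⟨C, hC, hCiff⟩ := P.exists_locus hp (pullback.fst P.zU P.f ≫ P.zV) (pullback.snd P.zU P.f) (by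
    rw [← (P.mem_zU_zV.map P (pullback.fst P.zU P.f)).eq_F P, pullback.condition])
  let L : Over S := Over.mk (C.ι ≫ D.hom)
  let j : L ⟶ D := Over.homMk C.ι rfl
  let ℓ : L ⟶ P.Z := j ≫ pullback.fst P.zU P.f
  let ll : L ⟶ P.V := j ≫ pullback.snd P.zU P.f
  have hlf : ll ≫ P.f = ℓ ≫ P.zU := by simp only [ℓ, ll, Category.assoc, pullback.condition]
  have hlrel : ∀ {T : Over S} (r : T ⟶ L), P.Rel (r ≫ ℓ ≫ P.zV) (r ≫ ll) := by
    intro T r
    have := (hCiff T (r ≫ j)).2 (fun x => (r.left x).2)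
    simpa only [ℓ, ll, Category.assoc] using this
  have hlift : ∀ {T : Over S} (z : T ⟶ P.Z) (c : T ⟶ P.V), c ≫ P.f = z ≫ P.zU → P.Rel (z ≫ P.zV) c →
      ∃ r : T ⟶ L, r ≫ ℓ = z ∧ r ≫ ll = c := by
    intro T z c e hr
    let k : T ⟶ D := pullback.lift z c e.symm
    have hk : ∀ x, k.left x ∈ C := (hCiff T k).1 (by
      simp only [k, pullback.lift_fst_assoc, pullback.lift_snd]; exact hr)
    have : IsOpenImmersion j.left := inferInstanceAs (IsOpenImmersion C.ι)
    obtain ⟨r, hr⟩ := exists_lift_of_forall_mem j k (fun x => by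
      change k.left x ∈ Set.range C.ι; rw [Scheme.Opens.range_ι]; exact hk x)
    exact ⟨r, by simp only [ℓ, reassoc_of% hr]; exact pullback.lift_fst _ _ _,
      by simp only [ll, reassoc_of% hr]; exact pullback.lift_snd _ _ _⟩
  have hmono : ∀ {T : Over S} (r r' : T ⟶ L), r ≫ ℓ = r' ≫ ℓ → r ≫ ll = r' ≫ ll := by
    intro T r r' e
    refine hG T _ _ (by simp only [Category.assoc, hlf, reassoc_of% e]) ?_
    have h2 := hlrel r'
    rw [← reassoc_of% e] at h2
    exact ((hlrel r).symm P).trans P h2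
  have : IsOpenImmersion j.left := inferInstanceAs (IsOpenImmersion C.ι)
  have : Mono ℓ := ⟨fun r r' e => by
    have e2 := hmono r r' e
    have : r ≫ j = r' ≫ j := pullback.hom_ext (by simpa [ℓ] using e) (by simpa [ll] using e2)
    exact Over.OverMorphism.ext ((cancel_mono C.ι).1 (congrArg (fun k : _ ⟶ D => k.left) this))⟩
  have : Mono ℓ.left := inferInstance
  have : Etale ℓ.left := by
    have : Etale (pullback.fst P.zU P.f).left :=
      MorphismProperty.of_isPullback (isPullback_map_left (IsPullback.of_hasPullback P.zU P.f)).flip ‹Etale P.f.left›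
    exact inferInstanceAs (Etale (j.left ≫ (pullback.fst P.zU P.f).left))
  have : IsOpenImmersion ℓ.left := IsOpenImmersion.of_flat_of_mono ℓ.left
  obtain ⟨hzf, hzfl, hzfp⟩ := P.zV_props hp
  -- the invariant open
  let V₀ : P.V.left.Opens := ⟨(P.zV.left '' (Set.range ℓ.left)ᶜ)ᶜ,
    (P.zV.left.isClosedMap _ ℓ.left.opensRange.2.isClosed_compl).isOpen_compl⟩
  have hV₀ : ∀ b, b ∈ V₀ ↔ ∀ z, P.zV.left z = b → z ∈ Set.range ℓ.left :=
    fun b => ⟨fun h z hz => by_contra fun hc => h ⟨z, hc, hz⟩, fun h ⟨z, hc, hz⟩ => hc (h z hz)⟩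
  let V : Over S := Over.mk (V₀.ι ≫ P.V.hom)
  let i : V ⟶ P.V := Over.homMk V₀.ι rfl
  have hi : IsOpenImmersion i.left := inferInstanceAs (IsOpenImmersion V₀.ι)
  have : Mono i := ⟨fun a b e => Over.OverMorphism.ext ((cancel_mono V₀.ι).1 (congrArg (fun k : _ ⟶ P.V => k.left) e))⟩
  have hmemV : ∀ {T : Over S} (c : T ⟶ P.V), (∀ x, c.left x ∈ V₀) → ∃ r : T ⟶ V, r ≫ i = c :=
    fun c h => exists_lift_of_forall_mem i c fun x => by
      change c.left x ∈ Set.range V₀.ι; rw [Scheme.Opens.range_ι]; exact h x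
  let O : L.left.Opens := (ℓ ≫ P.zV).left ⁻¹ᵁ V₀
  let R : Over S := Over.mk (O.ι ≫ L.hom)
  let o : R ⟶ L := Over.homMk O.ι rfl
  have ho : IsOpenImmersion o.left := inferInstanceAs (IsOpenImmersion O.ι)
  obtain ⟨s, hs⟩ := hmemV (o ≫ ℓ ≫ P.zV) (fun x => x.2)
  -- invariance
  have hinv : ∀ l : L.left, l ∈ O → ll.left l ∈ V₀ := by
    intro l hl
    rw [hV₀]
    intro z hz
    let K := pullback (o ≫ ll) P.zV
    let q₁ : K ⟶ R := pullback.fst _ _
    let q₂ : K ⟶ P.Z := pullback.snd _ _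
    obtain ⟨w, -, hw2⟩ := exists_point_of_isPullback
      (isPullback_map_left (IsPullback.of_hasPullback (o ≫ ll) P.zV)) (⟨l, hl⟩ : O) z hz.symm
    have hr : P.Rel (q₁ ≫ o ≫ ℓ ≫ P.zV) (q₂ ≫ P.zV) := by
      have := hlrel (q₁ ≫ o)
      simp only [Category.assoc] at this
      rwa [show q₁ ≫ o ≫ ll = q₂ ≫ P.zV from pullback.condition] at this
    obtain ⟨z', hz1, hz2⟩ := (P.mem_iff _ _).1 ((hr.symm P).mem P (P.mem_zU_zV.map P q₂))
    obtain ⟨r', hr'⟩ := exists_lift_of_forall_mem ℓ z' (fun x => (hV₀ _).1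
      (show (q₁ ≫ o ≫ ℓ ≫ P.zV).left x ∈ V₀ from (q₁.left x).2) (z'.left x)
      (congrArg (fun k : K ⟶ P.V => k.left x) hz2))
    have h3 : P.Rel (q₂ ≫ P.zV) (r' ≫ ll) := by
      have := hlrel r'
      rw [reassoc_of% hr', hz2] at this
      exact (hr.symm P).trans P this
    obtain ⟨r'', hr'', -⟩ := hlift q₂ (r' ≫ ll) (by
      rw [Category.assoc, hlf, reassoc_of% hr', hz1]) h3
    exact ⟨r''.left w, (congrArg (fun k : K ⟶ P.Z => k.left w) hr'').trans hw2⟩
  obtain ⟨t, ht⟩ := hmemV (o ≫ ll) (fun x => hinv _ x.2)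
  have sqs : s ≫ i = o ≫ ℓ ≫ P.zV → IsPullback (o ≫ ℓ).left s.left P.zV.left i.left := by
    intro hs
    have hsl : (o ≫ ℓ).left ≫ P.zV.left = s.left ≫ i.left := by
      rw [← Over.comp_left, ← Over.comp_left, hs, Category.assoc]
    have : IsOpenImmersion (o ≫ ℓ).left := inferInstanceAs (IsOpenImmersion (o.left ≫ ℓ.left))
    refine (IsOpenImmersion.isPullback s.left (o ≫ ℓ).left i.left P.zV.left hsl ?_).flip
    ext z
    constructor
    · intro hz
      have hz' : P.zV.left z ∈ V₀ := by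
        obtain ⟨y, hy⟩ := hz
        exact hy ▸ y.2
      obtain ⟨l, rfl⟩ := (hV₀ _).1 hz' z rfl
      exact ⟨(⟨l, hz'⟩ : O), rfl⟩
    · rintro ⟨y, rfl⟩
      exact ⟨s.left y, congrArg (fun k : R ⟶ P.V => k.left y) hs⟩
  let g : V ⟶ U := i ≫ P.f
  have hRel : ∀ {T : Over S} (r : T ⟶ R), P.Rel (r ≫ t ≫ i) (r ≫ s ≫ i) := by
    intro T r
    rw [hs, ht]
    have := (hlrel (r ≫ o)).symm P
    simpa only [Category.assoc] using this
  have hR : ∀ {T : Over S} (a b : T ⟶ V), P.Rel (a ≫ i) (b ≫ i) → ∃ r : T ⟶ R, r ≫ t = a ∧ r ≫ s = b := by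
    intro T a b hab
    have hm : P.Mem (a ≫ g) (a ≫ i) := by
      have := hid.map P (a ≫ i)
      simpa only [g, Category.assoc, Category.comp_id] using this
    obtain ⟨z, hz1, hz2⟩ := (P.mem_iff _ _).1 (hab.mem P hm)
    have hzV : ∀ x, P.zV.left (z.left x) ∈ V₀ := fun x => by
      rw [show P.zV.left (z.left x) = i.left (b.left x) from congrArg (fun k : T ⟶ P.V => k.left x) hz2]
      exact (b.left x).2
    obtain ⟨r₁, hr₁⟩ := exists_lift_of_forall_mem ℓ z (fun x => (hV₀ _).1 (hzV x) _ rfl)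
    have h2 : r₁ ≫ ll = a ≫ i := by
      refine hG T _ _ (by rw [Category.assoc, hlf, reassoc_of% hr₁, hz1, Category.assoc]) ?_
      have := (hlrel r₁).symm P
      rw [reassoc_of% hr₁, hz2] at this
      exact this.trans P (hab.symm P)
    have hro : ∀ x, r₁.left x ∈ O := fun x => by
      have e : (r₁ ≫ ℓ ≫ P.zV).left x = i.left (b.left x) :=
        congrArg (fun k : T ⟶ P.V => k.left x) ((by rw [reassoc_of% hr₁, hz2]) : r₁ ≫ ℓ ≫ P.zV = b ≫ i)
      show (ℓ ≫ P.zV).left (r₁.left x) ∈ V₀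
      exact e ▸ (b.left x).2
    obtain ⟨r, hr⟩ := exists_lift_of_forall_mem o r₁ (fun x => by
      change r₁.left x ∈ Set.range O.ι; rw [Scheme.Opens.range_ι]; exact hro x)
    exact ⟨r, (cancel_mono i).1 (by rw [Category.assoc, ht, reassoc_of% hr, h2]),
      (cancel_mono i).1 (by rw [Category.assoc, hs, reassoc_of% hr, reassoc_of% hr₁, hz2])⟩
  -- the chosen point
  obtain ⟨σ, hσ1, hσ2⟩ := (P.mem_iff _ _).1 hid
  obtain ⟨σ', hσ', -⟩ := hlift σ (𝟙 _) (by rw [Category.id_comp, hσ1]) (by rw [hσ2]; exact Pc.Rel.refl P _)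
  have hv : v ∈ V₀ := (hV₀ v).2 fun z hz => by
    have e : z = σ.left v := by
      refine Subtype.ext (huniq _ _ z.2 (σ.left v).2 hz ?_)
      exact congrArg (fun k : P.V ⟶ P.V => k.left v) hσ2
    exact ⟨σ'.left v, (congrArg (fun k : P.V ⟶ P.Z => k.left v) hσ').trans e.symm⟩
  refine ⟨V, R, g, t, s, (⟨v, hv⟩ : V₀), inferInstanceAs (Etale (V₀.ι ≫ P.f.left)),
    inferInstanceAs (IsSeparated (V₀.ι ≫ P.f.left)), rfl, ⟨fun T r r' h1 h2 => ?_, fun T => ⟨fun a => hR a a
      (Pc.Rel.refl P _), ?_, ?_⟩⟩, ?_, ?_, ?_, ?_, fun T a b hab => ?_⟩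
  · have e : (r ≫ o) ≫ ℓ = (r' ≫ o) ≫ ℓ := by
      refine P.z_hom_ext ?_ ?_
      · simp only [Category.assoc, ← hlf]
        have := congrArg (· ≫ i ≫ P.f) h1
        simpa only [Category.assoc, reassoc_of% ht] using this
      · have := congrArg (· ≫ i) h2
        simpa only [Category.assoc, hs] using this
    have e' : r ≫ o = r' ≫ o := (cancel_mono ℓ).1 e
    exact Over.OverMorphism.ext ((cancel_mono O.ι).1 (congrArg (fun k : _ ⟶ L => k.left) e'))
  · rintro a b ⟨r, rfl, rfl⟩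
    exact hR _ _ (by simpa only [Category.assoc] using (hRel r).symm P)
  · rintro a b c ⟨r, rfl, rfl⟩ ⟨r', h1, rfl⟩
    refine hR _ _ ?_
    have h' := (hRel r')
    rw [← Category.assoc r' t i, h1] at h'
    simpa only [Category.assoc] using (hRel r).trans P (by simpa only [Category.assoc] using h')
  · -- `s` is finite locally free
    exact MorphismProperty.of_isPullback (P := @IsFinite) (sqs hs) hzf
  · exact MorphismProperty.of_isPullback (P := @Flat) (sqs hs) hzfl
  · exact MorphismProperty.of_isPullback (P := @LocallyOfFinitePresentation) (sqs hs) hzfp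
  · have := (hRel (𝟙 R)).1
    simpa only [g, Category.id_comp, Category.assoc] using this
  · obtain ⟨C', -, hC'⟩ := P.exists_locus hp (a ≫ i) (b ≫ i) (by simpa only [g, Category.assoc] using hab)
    refine ⟨C', fun T' k => ?_⟩
    rw [← hC' T' k]
    constructor
    · rintro ⟨r, h1, h2⟩
      have := hRel r
      rw [reassoc_of% h1, reassoc_of% h2] at this
      exact this
    · intro h
      exact hR _ _ (by simpa only [Category.assoc] using h)

end Groth.Agent.AlgSpB.Art
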