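import Groth.Agent.AlgSpB.QuotRel
import Groth.Agent.AlgSpB.Open
import Groth.Agent.AlgSpB.EqvQuot
import Groth.Agent.AlgSpB.Art.Translate
import Groth.Agent.AlgSp.Quot
import Groth.Prelude.Def_Grpd

/-!
# The restriction of a groupoid along a map with open saturation
-/

universe u

open CategoryTheory CategoryTheory.Limits AlgebraicGeometry Opposite

set_option backward.isDefEq.respectTransparency false
set_option backward.isDefEq.respectTransparency.types false
set_option autoImplicit false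

namespace Groth.Agent.AlgSpB.Art

open _root_.AlgSp
open Groth.Agent.AlgSp (yEquiv yEquiv_comp yEquiv_map mono_of_yon yπ)

variable {S : Scheme.{u}}

theorem yπ_condition {R U : Over S} (s t : R ⟶ U) :
    (yon S).map s ≫ yπ s t = (yon S).map t ≫ yπ s t := by
  simp only [Groth.Agent.AlgSp.yπ, ← Category.assoc, ← Groth.Agent.AlgSp.repMap_repIso]
  simp only [Category.assoc]
  exact congrArg (_ ≫ ·) (coequalizer.condition _ _)

theorem exists_sieve_rel_yπ {R U : Over S} {s t : R ⟶ U} (h : IsPreEqvRelSp ((yon S).map s) ((yon S).map t))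
    {T : Over S} (a b : (yon S).obj T ⟶ (yon S).obj U) (e : a ≫ yπ s t = b ≫ yπ s t) :
    ∃ Sv ∈ J S T, ∀ ⦃T' : Over S⦄ (f : T' ⟶ T), Sv f →
      ∃ r : (yon S).obj T' ⟶ (yon S).obj R, r ≫ (yon S).map t = (yon S).map f ≫ a ∧
        r ≫ (yon S).map s = (yon S).map f ≫ b := by
  refine exists_sieve_rel h a b ?_
  have hm : ∀ {V W : Over S} (k : V ⟶ W), QuotSh.repMap Scheme.fppfPrecoverage k ≫
      (QuotSh.repIsoUliftYoneda Scheme.fppfPrecoverage W).hom =
      (QuotSh.repIsoUliftYoneda Scheme.fppfPrecoverage V).hom ≫ (yon S).map k := fun {V W} k => by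
    rw [← Iso.inv_comp_eq, ← Category.assoc, Groth.Agent.AlgSp.repMap_repIso, Category.assoc, Iso.inv_hom_id,
      Category.comp_id]
  let φ : QuotSh.quot Scheme.fppfPrecoverage s t ⟶ quotSp ((yon S).map s) ((yon S).map t) :=
    coequalizer.desc ((QuotSh.repIsoUliftYoneda Scheme.fppfPrecoverage U).hom ≫
      quotSpπ ((yon S).map s) ((yon S).map t)) (by
        rw [← Category.assoc, ← Category.assoc, hm, hm, Category.assoc, Category.assoc, quotSp_condition])
  have hφ : yπ s t ≫ φ = quotSpπ ((yon S).map s) ((yon S).map t) := by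
    have hd : QuotSh.quotπ Scheme.fppfPrecoverage s t ≫ φ = _ := coequalizer.π_desc _ _
    simp only [Groth.Agent.AlgSp.yπ, Category.assoc, hd, Iso.inv_hom_id_assoc]
  rw [← hφ, ← Category.assoc, e, Category.assoc]

theorem isPreEqvRelSp_grpd (G : Grpd.GroupoidScheme S) :
    IsPreEqvRelSp ((yon S).map (Over.homMk G.s G.s_over : Over.mk G.pR ⟶ Over.mk G.pU))
      ((yon S).map (Over.homMk G.t G.t_over : Over.mk G.pR ⟶ Over.mk G.pU)) := by
  intro T
  have key : ∀ a b : (yon S).obj T ⟶ (yon S).obj (Over.mk G.pU),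
      (∃ r : (yon S).obj T ⟶ (yon S).obj (Over.mk G.pR),
        r ≫ (yon S).map (Over.homMk G.t G.t_over : Over.mk G.pR ⟶ Over.mk G.pU) = a ∧
        r ≫ (yon S).map (Over.homMk G.s G.s_over : Over.mk G.pR ⟶ Over.mk G.pU) = b) ↔
      ∃ r : T.left ⟶ G.R, r ≫ G.t = ((yon S).preimage a).left ∧ r ≫ G.s = ((yon S).preimage b).left := by
    intro a b
    obtain ⟨a, rfl⟩ := (yon S).map_surjective a
    obtain ⟨b, rfl⟩ := (yon S).map_surjective b
    simp only [Functor.preimage_map]
    constructor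
    · rintro ⟨r, h1, h2⟩
      obtain ⟨r, rfl⟩ := (yon S).map_surjective r
      rw [← Functor.map_comp] at h1 h2
      exact ⟨r.left, congrArg (fun k : T ⟶ Over.mk G.pU => k.left) ((yon S).map_injective h1),
        congrArg (fun k : T ⟶ Over.mk G.pU => k.left) ((yon S).map_injective h2)⟩
    · rintro ⟨r, h1, h2⟩
      refine ⟨(yon S).map (Over.homMk r (by
        show r ≫ G.pR = T.hom
        rw [← G.t_over, ← Category.assoc, h1]
        exact Over.w a)), ?_, ?_⟩ <;> rw [← Functor.map_comp]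
      · exact congrArg (yon S).map (Over.OverMorphism.ext h1)
      · exact congrArg (yon S).map (Over.OverMorphism.ext h2)
  refine ⟨fun a => (key a a).2 ⟨((yon S).preimage a).left ≫ G.e, by simp [G.e_t], by simp [G.e_s]⟩,
    fun {a b} hab => ?_, fun {a b c} hab hbc => ?_⟩
  · obtain ⟨r, h1, h2⟩ := (key a b).1 hab
    exact (key b a).2 ⟨r ≫ G.i, by rw [Category.assoc, G.i_t, h2], by rw [Category.assoc, G.i_s, h1]⟩
  · obtain ⟨r, h1, h2⟩ := (key a b).1 hab
    obtain ⟨r', h1', h2'⟩ := (key b c).1 hbc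
    exact (key a c).2 ⟨pullback.lift r r' (h2.trans h1'.symm) ≫ G.c,
      (G.comp_t r r' (h2.trans h1'.symm)).trans h1, (G.comp_s r r' (h2.trans h1'.symm)).trans h2'⟩

theorem repWith_isOpenImmersion_restriction {R U R' U' : Over S} (s t : R ⟶ U)
    (hpre : IsPreEqvRelSp ((yon S).map s) ((yon S).map t)) (g : U' ⟶ U)
    (W : U.left.Opens) (hW : ∀ ρ : R.left, t.left ρ ∈ Set.range g.left → s.left ρ ∈ W)
    (hlift : ∀ (T : Over S) (a : T ⟶ U), (∀ x, a.left x ∈ W) → ∃ Sv ∈ J S T, ∀ ⦃T' : Over S⦄ (f : T' ⟶ T),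
      Sv f → ∃ (u' : T' ⟶ U') (r : T' ⟶ R), r ≫ t = u' ≫ g ∧ r ≫ s = f ≫ a)
    (hWle : ∀ u ∈ W, ∃ (ρ : R.left) (u' : U'.left), t.left ρ = g.left u' ∧ s.left ρ = u)
    (s' t' : R' ⟶ U') (r : R' ⟶ R) (hsq : IsPullback (prod.lift t' s') r (prod.map g g) (prod.lift t s))
    (ψ : QuotSh.quot Scheme.fppfPrecoverage s' t' ⟶ QuotSh.quot Scheme.fppfPrecoverage s t)
    (hψ : yπ s' t' ≫ ψ = (yon S).map g ≫ yπ s t) : RepWith @IsOpenImmersion ψ := by
  have hs' := Groth.Agent.AlgSp.isLocallySurjective_yπ s' t'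
  have hsQ := Groth.Agent.AlgSp.isLocallySurjective_yπ s t
  have : Epi (yπ s' t') := Sheaf.epi_of_isLocallySurjective _
  have : Epi (yπ s t) := Sheaf.epi_of_isLocallySurjective _
  have hm : Mono ψ := by
    refine mono_of_yon ψ fun T x y e => ?_
    obtain ⟨Sx, hSx, hx⟩ := exists_sieve_lift (yπ s' t') x
    obtain ⟨Sy, hSy, hy⟩ := exists_sieve_lift (yπ s' t') y
    refine yon_hom_ext_of_mem ((J S).intersection_covering hSx hSy) x y fun T' f hf => ?_
    obtain ⟨a, ha⟩ := hx f hf.1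
    obtain ⟨b, hb⟩ := hy f hf.2
    obtain ⟨a, rfl⟩ := (yon S).map_surjective a
    obtain ⟨b, rfl⟩ := (yon S).map_surjective b
    have e1 : (yon S).map (a ≫ g) ≫ yπ s t = (yon S).map (b ≫ g) ≫ yπ s t := by
      simp only [Functor.map_comp, Category.assoc, ← hψ]
      rw [reassoc_of% ha, reassoc_of% hb, e]
    obtain ⟨Sv, hSv, hr⟩ := exists_sieve_rel_yπ hpre _ _ e1
    rw [← ha, ← hb]
    refine yon_hom_ext_of_mem hSv _ _ fun T'' f' hf' => ?_
    obtain ⟨ρ, hr1, hr2⟩ := hr f' hf'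
    obtain ⟨ρ, rfl⟩ := (yon S).map_surjective ρ
    rw [← Functor.map_comp, ← Functor.map_comp] at hr1 hr2
    obtain ⟨ρ', h1, -⟩ := hsq.exists_lift (prod.lift (f' ≫ a) (f' ≫ b)) ρ (by
      apply prod.hom_ext
      · simpa [prod.lift_fst] using ((yon S).map_injective hr1).symm
      · simpa [prod.lift_snd] using ((yon S).map_injective hr2).symm)
    have e2 : ρ' ≫ t' = f' ≫ a := by
      have := congrArg (· ≫ prod.fst) h1
      simpa [prod.lift_fst] using this
    have e3 : ρ' ≫ s' = f' ≫ b := by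
      have := congrArg (· ≫ prod.snd) h1
      simpa [prod.lift_snd] using this
    rw [← Functor.map_comp_assoc, ← Functor.map_comp_assoc, ← e2, ← e3, Functor.map_comp_assoc,
      Functor.map_comp_assoc, yπ_condition]
  have hsat : ∀ u : U.left, Points.ofPt (yπ s t) u ∈ Set.range (Points.map ψ) ↔ u ∈ W := by
    intro u
    constructor
    · rintro ⟨z, hz⟩
      obtain ⟨y, rfl⟩ := surjective_map_of_isLocallySurjective (yπ s' t') z
      obtain ⟨v', hv'⟩ := surjective_ofPt
        (Groth.Agent.AlgSp.repWith_mono (fun _ h => h) (repWith_id @Surjective U')) y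
      rw [← hv', ← Points.map_comp, hψ, Points.map_ofPt, Category.id_comp, ofPt_map_comp] at hz
      obtain ⟨p, hp1, hp2⟩ := exists_of_isPullback (IsPullback.of_hasPullback (yπ s t) (yπ s t))
        (Points.ofPt (𝟙 _) (g.left v')) (Points.ofPt (𝟙 _) u)
        (by rw [Points.map_ofPt, Points.map_ofPt, Category.id_comp]; exact hz)
      obtain ⟨x, hx⟩ := exists_eq_ofPt_toHom p
      obtain ⟨a, ha⟩ := (yon S).map_surjective (x.toHom ≫ pullback.fst _ _)
      obtain ⟨b, hb⟩ := (yon S).map_surjective (x.toHom ≫ pullback.snd _ _)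
      obtain ⟨Sv, hSv, hr⟩ := exists_sieve_rel_yπ hpre ((yon S).map a) ((yon S).map b)
        (by rw [ha, hb, Category.assoc, Category.assoc, pullback.condition])
      obtain ⟨P, hP, hPS⟩ := Groth.Agent.AlgSp.exists_cover_of_mem hSv
      obtain ⟨ι, X, k, rfl⟩ := P.exists_eq_ofArrows
      let x₀ : x.pt.left := IsLocalRing.closedPoint x.K
      obtain ⟨i, w, hw⟩ := ((Scheme.ofArrows_mem_precoverage_iff _).1 hP).1 x₀
      obtain ⟨ρ, h1, h2⟩ := hr _ (hPS (k i) (Presieve.ofArrows.mk i))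
      obtain ⟨ρ, rfl⟩ := (yon S).map_surjective ρ
      rw [← Functor.map_comp, ← Functor.map_comp] at h1 h2
      have hta : a.left x₀ = g.left v' := by
        rw [← hx x₀, Points.map_ofPt, ← ha] at hp1
        have := congrArg (Points.toScheme U) hp1
        rw [← Category.comp_id ((yon S).map a), ofPt_map_comp, ← (yon S).map_id] at this
        simpa [Points.toScheme_ofPt] using this
      have hsb : b.left x₀ = u := by
        rw [← hx x₀, Points.map_ofPt, ← hb] at hp2
        have := congrArg (Points.toScheme U) hp2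
        rw [← Category.comp_id ((yon S).map b), ofPt_map_comp, ← (yon S).map_id] at this
        simpa [Points.toScheme_ofPt] using this
      have k1 : t.left (ρ.left w) = a.left (k i w) :=
        congrArg (fun q : _ ⟶ U => q.left w) ((yon S).map_injective h1)
      have k2 : s.left (ρ.left w) = b.left (k i w) :=
        congrArg (fun q : _ ⟶ U => q.left w) ((yon S).map_injective h2)
      rw [hw, hta] at k1
      rw [hw, hsb] at k2
      exact k2 ▸ hW _ ⟨v', k1.symm⟩
    · intro hu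
      obtain ⟨ρ, u', h1, rfl⟩ := hWle u hu
      refine ⟨Points.ofPt (yπ s' t') u', ?_⟩
      rw [Points.map_ofPt, hψ, ofPt_map_comp, ← h1, ← ofPt_map_comp, ← ofPt_map_comp, yπ_condition]
  refine MorphismProperty.relative.of_exists fun T ξ => ?_
  let Cs : Set T.left := Points.ofPt ξ ⁻¹' Set.range (Points.map ψ)
  obtain ⟨Sx, hSx, hx⟩ := exists_sieve_lift (yπ s t) ξ
  obtain ⟨P, hP, hPS⟩ := Groth.Agent.AlgSp.exists_cover_of_mem hSx
  obtain ⟨ι, X, k, rfl⟩ := P.exists_eq_ofArrows
  obtain ⟨hsur, hk⟩ := (Scheme.ofArrows_mem_precoverage_iff _).1 hP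
  choose a ha using fun i => hx _ (hPS (k i) (Presieve.ofArrows.mk i))
  choose a' ha' using fun i => (yon S).map_surjective (a i)
  have hCk : ∀ i w, k i w ∈ Cs ↔ (a' i).left w ∈ W := fun i w => by
    rw [← hsat]
    show Points.ofPt ξ (k i w) ∈ Set.range (Points.map ψ) ↔ _
    rw [← ofPt_map_comp (a' i) (yπ s t) w, ha' i, ha i, ofPt_map_comp]
    rfl
  have hCs : IsOpen Cs := by
    have : Cs = ⋃ i, k i '' ((a' i).left ⁻¹' W) := by
      ext x
      obtain ⟨i, w, rfl⟩ := hsur x
      constructor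
      · exact fun h => Set.mem_iUnion.2 ⟨i, w, (hCk i w).1 h, rfl⟩
      · intro h
        obtain ⟨i', w', hw', e⟩ := Set.mem_iUnion.1 h
        rw [← e]; exact (hCk i' w').2 hw'
    rw [this]
    refine isOpen_iUnion fun i => ?_
    obtain ⟨_, _⟩ := hk i
    exact (k i).isOpenMap _ (W.2.preimage (a' i).left.continuous)
  let C : T.left.Opens := ⟨Cs, hCs⟩
  let j : Over.mk (C.ι ≫ T.hom) ⟶ T := Over.homMk C.ι rfl
  have : IsOpenImmersion j.left := inferInstanceAs (IsOpenImmersion C.ι)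
  let E := pullback ψ ((yon S).map j ≫ ξ)
  let e2 : E ⟶ (yon S).obj (Over.mk (C.ι ≫ T.hom)) := pullback.snd ψ ((yon S).map j ≫ ξ)
  have he2 : Sheaf.IsLocallySurjective e2 := by
    refine ⟨fun {V} c => ?_⟩
    obtain ⟨h, hh⟩ := (yon S).map_surjective (yEquiv.symm c)
    obtain ⟨S1, hS1, h1⟩ := exists_sieve_lift (yπ s t) ((yon S).map (h ≫ j) ≫ ξ)
    refine (J S).transitive hS1 _ fun V' f hf => ?_
    obtain ⟨α, hα⟩ := h1 f hf
    obtain ⟨α, rfl⟩ := (yon S).map_surjective α
    have hαW : ∀ x, α.left x ∈ W := fun x => by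
      rw [← hsat, ← ofPt_map_comp, hα, ofPt_map_comp, ofPt_map_comp]
      exact (h.left (f.left x)).2
    obtain ⟨S2, hS2, h2⟩ := hlift V' α hαW
    refine (J S).superset_covering (fun V'' f' hf' => ?_) hS2
    obtain ⟨u', ρ, e1, e3⟩ := h2 f' hf'
    refine ⟨yEquiv (pullback.lift ((yon S).map u' ≫ yπ s' t') ((yon S).map (f' ≫ f ≫ h)) ?_), ?_⟩
    · rw [Category.assoc, hψ, ← Functor.map_comp_assoc, ← e1, Functor.map_comp_assoc, ← yπ_condition,
        ← Functor.map_comp_assoc, e3, Functor.map_comp_assoc, hα]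
      simp only [Functor.map_comp, Category.assoc]
    · show e2.hom.app _ (yEquiv _) = ((yon S).obj (Over.mk (C.ι ≫ T.hom))).obj.map (f' ≫ f).op c
      rw [← yEquiv_comp, show c = yEquiv ((yon S).map h) from (by rw [hh, Equiv.apply_symm_apply]), ← yEquiv_map]
      simp only [e2, pullback.lift_snd, Functor.map_comp, Category.assoc]
  have hmono : Mono e2 := inferInstanceAs (Mono (pullback.snd ψ ((yon S).map j ≫ ξ)))
  have : Epi e2 := Sheaf.epi_of_isLocallySurjective e2
  have : IsIso e2 := isIso_of_mono_of_epi e2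
  refine ⟨Over.mk (C.ι ≫ T.hom), inv e2 ≫ pullback.fst ψ ((yon S).map j ≫ ξ), j, ?_,
    (inferInstance : IsOpenImmersion j.left)⟩
  have hj : RepWith @IsOpenImmersion ((yon S).map j) :=
    (repWith_yon_map_iff _ _).2 (inferInstance : IsOpenImmersion j.left)
  have := mono_of_isOpenImmersion hj
  have hfac : ∀ z : PullbackCone ψ ξ, ∃ l, l ≫ (yon S).map j = z.snd := fun z => by
    refine (exists_factor_isOpenImmersion_iff hj z.snd).2 ?_
    rintro _ ⟨q, rfl⟩
    obtain ⟨v, hv⟩ := surjective_ofPt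
      (Groth.Agent.AlgSp.repWith_mono (fun _ h => h) (repWith_id @Surjective T)) (Points.map z.snd q)
    have hvC : v ∈ C := by
      show Points.ofPt ξ v ∈ Set.range (Points.map ψ)
      refine ⟨Points.map z.fst q, ?_⟩
      rw [← Points.map_comp, z.condition, Points.map_comp, ← hv, Points.map_ofPt, Category.id_comp]
    refine ⟨Points.ofPt (𝟙 _) (⟨v, hvC⟩ : C), ?_⟩
    rw [Points.map_ofPt, Category.id_comp, ← hv, ← Category.comp_id ((yon S).map j), ofPt_map_comp]
    rfl
  choose l hl using hfac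
  have w0 : pullback.fst ψ ((yon S).map j ≫ ξ) ≫ ψ = e2 ≫ (yon S).map j ≫ ξ := pullback.condition
  refine IsPullback.of_isLimit' ⟨?_⟩ (PullbackCone.IsLimit.mk _ l (fun z => ?_) hl fun z l' _ h2 => ?_)
  · rw [Category.assoc, w0, IsIso.inv_hom_id_assoc]
  · rw [← cancel_mono ψ, Category.assoc, Category.assoc, w0, IsIso.inv_hom_id_assoc, ← Category.assoc, hl,
      z.condition]
  · rw [← cancel_mono ((yon S).map j), hl]
    exact h2

end Groth.Agent.AlgSpB.Art
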