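import Groth.Agent.AlgSpD.DecentPoint
import Groth.Agent.AlgSpD.DecentCrit
import Groth.Agent.AlgSp.DescentSepLqf
import Groth.Agent.AlgSpB.Points
import Groth.Agent.AlgSpB.Bootstrap
import Groth.Prelude.Def_AlgSpGpd

/-!
# Sections of decent spaces over a field are closed immersions
-/

universe u

open CategoryTheory CategoryTheory.Limits AlgebraicGeometry Opposite

set_option backward.isDefEq.respectTransparency false
set_option backward.isDefEq.respectTransparency.types false
set_option autoImplicit false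

namespace Groth.Agent.AlgSpB.Art

open Groth.Agent Groth.Agent.AlgSpD

variable {S : Scheme.{u}}

theorem isClosedImmersion_section (X : AlgSp.Space S) (hX : AlgSp.IsDecent X.obj) {k : Type u} [Field k]
    (σ : Spec (CommRingCat.of k) ⟶ S) (π : X.obj ⟶ (AlgSp.yon S).obj (Over.mk σ))
    (e : (AlgSp.yon S).obj (Over.mk σ) ⟶ X.obj) (he : e ≫ π = 𝟙 _) :
    AlgSp.RepWith @IsClosedImmersion e := by
  let T : Over S := Over.mk σ
  let r : AlgSp.FieldPt X.obj :=
    { K := k, str := σ, val := (AlgSp.J S).uliftYonedaEquiv e }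
  have hre : r.toHom = e := (AlgSp.J S).uliftYonedaEquiv.symm_apply_apply e
  have hrm : Mono r.toHom := by rw [hre]; exact mono_of_mono_fac he
  obtain ⟨q, hq, hm, hqc⟩ := hX (AlgSp.Points.mk r)
  obtain ⟨c, hc⟩ := exists_factor_of_mono X q r hm hq.symm
  obtain ⟨sQ, hsQ⟩ := (AlgSp.yon S).map_surjective (q.toHom ≫ π)
  have hcsQ : c ≫ sQ = 𝟙 T := (AlgSp.yon S).map_injective (by
    rw [Functor.map_comp, hsQ, ← Category.assoc, hc, hre, CategoryTheory.Functor.map_id]
    exact he)
  have hrc : AlgSp.RepWith @QuasiCompact r.toHom := repWith_quasiCompact_of_eq X q r hm hqc hq.symm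
  have hfin : ∀ (V : Over S) (b : (AlgSp.yon S).obj V ⟶ X.obj), IsAffine V.left →
      AlgSp.RepWith @Etale b → (AlgSp.Points.ofPt b ⁻¹' {AlgSp.Points.mk q}).Finite := fun V b _ hb => by
    have : CompactSpace ↥V.left := inferInstance
    exact finite_preimage_of_qc_point q hqc b hb
  have hclosed : ∀ (V : Over S) (b : (AlgSp.yon S).obj V ⟶ X.obj), IsAffine V.left →
      AlgSp.RepWith @Etale b → ∀ v, AlgSp.Points.ofPt b v = AlgSp.Points.mk q → IsClosed ({v} : Set ↥V.left) := by
    intro V b hV hb v hv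
    obtain ⟨c', hc', hcc'⟩ := exists_finite_factor_of_chart X q hm b hb v hv
    obtain ⟨sV, hsV⟩ := (AlgSp.yon S).map_surjective (b ≫ π)
    have : Surjective c'.left := ⟨fun y => ⟨IsLocalRing.closedPoint _,
      @Subsingleton.elim _ (inferInstanceAs (Subsingleton (PrimeSpectrum q.K))) _ _⟩⟩
    let j : (AlgSp.FieldPt.ofPt b v).pt ⟶ V := Over.homMk (V.left.fromSpecResidueField v) rfl
    have hj : j ≫ sV = c' ≫ sQ := (AlgSp.yon S).map_injective (by
      rw [Functor.map_comp, Functor.map_comp, hsV, hsQ, ← Category.assoc, ← Category.assoc, hcc',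
        AlgSp.FieldPt.toHom_ofPt b v])
    have : IsAffine T.left := inferInstanceAs (IsAffine (Spec (CommRingCat.of k)))
    exact isClosed_singleton_of_fields (IsLocalRing.closedPoint r.K) c.left c'.left
      (V.left.fromSpecResidueField v) v (fun _ => Scheme.fromSpecResidueField_apply _ _) sQ.left sV.left
      (congrArg (fun m => m.left) hj) (by
        rw [← Over.comp_left, hcsQ]
        exact (inferInstance : IsIntegralHom (𝟙 T.left)))
  obtain ⟨U, a, ha, has⟩ := X.property.atlas
  have hcl : IsClosed ({AlgSp.Points.mk r} : Set (AlgSp.Points X.obj)) := by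
    rw [← hq]
    refine (isClosed_iff_chart ha has).2 ?_
    rw [← isOpen_compl_iff, isOpen_iff_forall_mem_open]
    intro y hy
    obtain ⟨A, hA, hyA, -⟩ := exists_isAffineOpen_mem_and_subset (x := y) (U := ⊤) trivial
    let F : Set ↥U.left := AlgSp.Points.ofPt a ⁻¹' {AlgSp.Points.mk q} ∩ (A : Set ↥U.left)
    have hF : F.Finite := finite_preimage_inter a ha _ hfin A hA
    refine ⟨(A : Set ↥U.left) ∩ (⋃ v ∈ F, closure {v})ᶜ, ?_,
      A.isOpen.inter (hF.isClosed_biUnion fun _ _ => isClosed_closure).isOpen_compl, hyA, ?_⟩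
    · rintro z ⟨hzA, hz⟩ hzq
      exact hz (Set.mem_iUnion₂.2 ⟨z, ⟨hzq, hzA⟩, subset_closure rfl⟩)
    · intro h
      obtain ⟨v, hv, hyv⟩ := Set.mem_iUnion₂.1 h
      have hc := hclosed (Over.mk (A.ι ≫ U.hom)) _ (show IsAffine A.toScheme from hA)
        (repWith_etale_restrict a ha A) (⟨v, hv.2⟩ : ↥A) ((ofPt_restrict a A _).trans hv.1)
      have hsp : (⟨v, hv.2⟩ : ↥A) ⤳ (⟨y, hyA⟩ : ↥A) :=
        (subtype_specializes_iff _ _).2 (specializes_iff_mem_closure.2 hyv)
      have := hsp.mem_closed hc (Set.mem_singleton _)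
      exact hy (by rw [show y = v from congrArg Subtype.val this]; exact hv.1)
  rw [← hre]
  exact isClosedImmersion_of_isClosed X r hrm hrc hcl

/-- The diagonal of a field over the base is a closed immersion. -/
theorem isSeparatedSp_field {k : Type u} [Field k] (σ : Spec (CommRingCat.of k) ⟶ S) :
    AlgSp.IsSeparatedSp ((AlgSp.yon S).obj (Over.mk σ)) := by
  refine (AlgSp.repWith_diag_yon_iff @IsClosedImmersion _).2 ?_
  let p : Spec (CommRingCat.of k) := IsLocalRing.closedPoint k
  obtain ⟨V, hV, hpV, -⟩ := exists_isAffineOpen_mem_and_subset (x := σ p) (U := ⊤) trivial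
  have hr : Set.range σ ⊆ Set.range V.ι := by
    rintro _ ⟨x, rfl⟩
    rw [Scheme.Opens.range_ι, @Subsingleton.elim _ (inferInstanceAs (Subsingleton (PrimeSpectrum k))) x p]
    exact hpV
  have : IsAffine V.toScheme := hV
  let g := IsOpenImmersion.lift V.ι σ hr
  have hg : g ≫ V.ι = σ := IsOpenImmersion.lift_fac _ _ _
  have : IsSeparated g := IsSeparated.of_comp g (terminal.from V.toScheme)
  have : IsSeparated σ := hg ▸ inferInstance
  exact IsSeparated.isClosedImmersion_diagonal (f := σ)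

theorem gpdComp_congr {B : AlgSp.Sp S} (G : AlgSp.GroupoidSp B) {T : AlgSp.Sp S} {α α' β β' : T ⟶ G.R}
    (hα : α = α') (hβ : β = β') (h : α ≫ G.s = β ≫ G.t) :
    pullback.lift α β h ≫ G.c = pullback.lift α' β' (by rw [← hα, ← hβ]; exact h) ≫ G.c := by
  subst hα hβ; rfl

/-- `α ∘ β⁻¹` is an identity only for `α = β`. -/
theorem gpd_eq_of_comp_inv {B : AlgSp.Sp S} (G : AlgSp.GroupoidSp B) {T : AlgSp.Sp S} (α β : T ⟶ G.R)
    (h : α ≫ G.s = β ≫ G.s) (v : T ⟶ G.U)
    (hv : v ≫ G.e = pullback.lift α (β ≫ G.i) (by rw [Category.assoc, G.i_t]; exact h) ≫ G.c) :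
    α = β ∧ v = β ≫ G.t := by
  have hv' : v = β ≫ G.t := by
    have h2 := congrArg (· ≫ G.s) hv
    simp only [G.comp_s, Category.assoc, G.i_s] at h2
    rwa [G.e_s, Category.comp_id] at h2
  refine ⟨?_, hv'⟩
  have hi : (β ≫ G.i) ≫ G.s = β ≫ G.t := by rw [Category.assoc, G.i_s]
  have e1 : pullback.lift (β ≫ G.i) β hi ≫ G.c = α ≫ G.s ≫ G.e := by
    rw [G.i_comp, ← Category.assoc, ← Category.assoc, h]
  rw [← G.comp_e α, gpdComp_congr G rfl e1.symm, ← G.assoc α (β ≫ G.i) β
      (by rw [Category.assoc, G.i_t]; exact h) hi, gpdComp_congr G hv.symm rfl]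
  conv_rhs => rw [← G.e_comp β]
  exact gpdComp_congr G (by rw [hv', Category.assoc]) rfl _

/-- A groupoid over a field whose arrows form a decent space has separated arrows. -/
theorem isSeparatedSp_gpd {B : AlgSp.Sp S} (G : AlgSp.GroupoidSp B) (hR : AlgSp.IsAlgSpace G.R)
    (hd : AlgSp.IsDecent G.R) {k : Type u} [Field k] (σ : Spec (CommRingCat.of k) ⟶ S)
    (eU : G.U ≅ (AlgSp.yon S).obj (Over.mk σ)) : AlgSp.IsSeparatedSp G.R := by
  have he₀ : AlgSp.RepWith @IsClosedImmersion (eU.inv ≫ G.e) :=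
    isClosedImmersion_section ⟨G.R, hR⟩ hd σ (G.t ≫ eU.hom) _ (by simp [reassoc_of% G.e_t])
  have he : AlgSp.RepWith @IsClosedImmersion G.e :=
    (MorphismProperty.cancel_left_of_respectsIso _ eU.inv G.e).1 he₀
  have hdU : AlgSp.RepWith @IsClosedImmersion (Limits.diag G.U) := by
    have := MorphismProperty.of_isPullback (P := (AlgSp.RepWith @IsClosedImmersion : MorphismProperty (AlgSp.Sp S)))
      (AlgSp.isPullback_diag_of_mono eU.hom) (isSeparatedSp_field σ)
    exact this
  let D := pullback G.s G.s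
  let p₁ : D ⟶ G.R := pullback.fst G.s G.s
  let p₂ : D ⟶ G.R := pullback.snd G.s G.s
  have hp : p₁ ≫ G.s = (p₂ ≫ G.i) ≫ G.t := by rw [Category.assoc, G.i_t]; exact pullback.condition
  let φ : D ⟶ G.R := pullback.lift p₁ (p₂ ≫ G.i) hp ≫ G.c
  let δ : G.R ⟶ D := pullback.lift (𝟙 _) (𝟙 _) rfl
  have hlift : ∀ {W Z : AlgSp.Sp S} (m : W ⟶ Z) (α β : Z ⟶ G.R) (h : α ≫ G.s = β ≫ G.t),
      m ≫ pullback.lift α β h ≫ G.c = pullback.lift (m ≫ α) (m ≫ β)
        (by rw [Category.assoc, Category.assoc, h]) ≫ G.c := by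
    intro W Z m α β h
    rw [← Category.assoc]
    congr 1
    apply pullback.hom_ext <;> simp
  have hδ : δ ≫ φ = G.t ≫ G.e := by
    rw [hlift]
    have := G.comp_i (𝟙 G.R)
    simp only [Category.id_comp] at this
    simp only [δ, p₁, p₂, pullback.lift_fst, pullback.lift_snd_assoc, Category.id_comp]
    exact this
  have key : ∀ z : PullbackCone G.e φ, z.snd ≫ p₁ = z.snd ≫ p₂ ∧ z.fst = (z.snd ≫ p₂) ≫ G.t := fun z =>
    gpd_eq_of_comp_inv G _ _ (by rw [Category.assoc, Category.assoc]; exact z.snd ≫= pullback.condition) z.fst (by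
      rw [z.condition, hlift]
      exact gpdComp_congr G rfl (Category.assoc _ _ _).symm _)
  have sq : IsPullback G.t δ G.e φ := by
    refine IsPullback.of_isLimit' ⟨hδ.symm⟩ (PullbackCone.IsLimit.mk _ (fun z => z.snd ≫ p₂) (fun z => ?_)
      (fun z => ?_) fun z m _ hm => ?_)
    · exact (key z).2.symm
    · apply pullback.hom_ext
      · rw [Category.assoc, pullback.lift_fst, Category.comp_id]
        exact (key z).1.symm
      · rw [Category.assoc, pullback.lift_snd, Category.comp_id]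
    · rw [← hm, Category.assoc, show δ ≫ p₂ = 𝟙 _ from pullback.lift_snd _ _ _, Category.comp_id]
  have hδc : AlgSp.RepWith @IsClosedImmersion δ := MorphismProperty.of_isPullback sq he
  let m : D ⟶ G.R ⨯ G.R := prod.lift p₁ p₂
  have sqm : IsPullback (p₁ ≫ G.s) m (Limits.diag G.U) (prod.map G.s G.s) :=
    AlgSp.isPullback_diag_prodMap G.s (IsPullback.of_hasPullback G.s G.s)
  have hm : AlgSp.RepWith @IsClosedImmersion m := MorphismProperty.of_isPullback sqm hdU
  have e : Limits.diag G.R = δ ≫ m := by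
    apply prod.hom_ext
    · rw [Category.assoc, prod.lift_fst, prod.lift_fst]
      exact (pullback.lift_fst _ _ _).symm
    · rw [Category.assoc, prod.lift_snd, prod.lift_snd]
      exact (pullback.lift_snd _ _ _).symm
  rw [AlgSp.IsSeparatedSp, e]
  exact (AlgSp.RepWith @IsClosedImmersion : MorphismProperty (AlgSp.Sp S)).comp_mem δ m hδc hm

end Groth.Agent.AlgSpB.Art
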