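import Groth.Agent.AlgSpB.Art.SliceAlg
import Groth.Agent.AlgSpB.Art.Translate
import Groth.Agent.EtStruct.QFinPts
import Groth.Agent.GrpdLib.QuasiSection
import Mathlib.AlgebraicGeometry.ZariskisMainTheorem

/-!
# Slicing a flat cover to relative dimension zero
-/

universe u

open CategoryTheory CategoryTheory.Limits AlgebraicGeometry

set_option backward.isDefEq.respectTransparency false
set_option backward.isDefEq.respectTransparency.types false
set_option autoImplicit false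

namespace Groth.Agent.AlgSpB.Art

open _root_.AlgSp

variable {S : Scheme.{u}} {F : Sp S} {U : Over S}

/-- Quotienting by an ideal commutes with base change. -/
theorem isPushout_quotient {A B : CommRingCat.{u}} (φ : A ⟶ B) (J : Ideal A) :
    IsPushout φ (CommRingCat.ofHom (Ideal.Quotient.mk J))
      (CommRingCat.ofHom (Ideal.Quotient.mk (J.map φ.hom)))
      (CommRingCat.ofHom (Ideal.quotientMap (J.map φ.hom) φ.hom Ideal.le_comap_map)) := by
  refine IsPushout.of_isColimit' ⟨CommRingCat.hom_ext rfl⟩ (PushoutCocone.IsColimit.mk _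
    (fun c => CommRingCat.ofHom (Ideal.Quotient.lift (J.map φ.hom) c.inl.hom ?_))
    (fun c => CommRingCat.hom_ext (Ideal.Quotient.lift_comp_mk _ _ _)) (fun c => ?_) (fun c m h1 _ => ?_))
  · intro a ha
    refine (Ideal.map_le_iff_le_comap.2 fun x hx => ?_ : J.map φ.hom ≤ RingHom.ker c.inl.hom) ha
    have e := congr(($c.condition).hom x)
    simp only [CommRingCat.hom_comp, RingHom.comp_apply, CommRingCat.hom_ofHom,
      Ideal.Quotient.eq_zero_iff_mem.2 hx, map_zero] at e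
    exact e
  · refine CommRingCat.hom_ext (Ideal.Quotient.ringHom_ext ?_)
    ext x
    exact congr(($c.condition).hom x)
  · refine CommRingCat.hom_ext (Ideal.Quotient.ringHom_ext ?_)
    exact (congrArg CommRingCat.Hom.hom h1).trans (Ideal.Quotient.lift_comp_mk _ _ _).symm

theorem isPullback_comp_mono' {C : Type*} [Category C] {P X Y Z W : C} {a : P ⟶ X} {b : P ⟶ Y} {f : X ⟶ Z}
    {g : Y ⟶ Z} (h : IsPullback a b f g) (m : Z ⟶ W) [Mono m] : IsPullback a b (f ≫ m) (g ≫ m) := by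
  refine ⟨⟨by rw [reassoc_of% h.w]⟩, ⟨PullbackCone.IsLimit.mk _ (fun c => h.lift c.fst c.snd ?_)
    (fun c => h.lift_fst _ _ _) (fun c => h.lift_snd _ _ _) (fun c k h1 h2 => h.hom_ext ?_ ?_)⟩⟩
  · exact (cancel_mono m).1 (by simpa only [Category.assoc] using c.condition)
  · rw [h.lift_fst, h1]
  · rw [h.lift_snd, h2]

set_option maxHeartbeats 1600000 in
/-- Slices of a flat cover of relative dimension zero through the fibre of a given point. -/
theorem exists_slice {p : (yon S).obj U ⟶ F} (hp : RepWith (@Flat ⊓ @LocallyOfFinitePresentation) p)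
    (u₀ : U.left) :
    ∃ (Z' : Over S) (q : Z' ⟶ U) (U₀ : U.left.Opens) (Y : Over S) (yZ : Y ⟶ Z')
      (y₀ : Y ⟶ Over.mk (U₀.ι ≫ U.hom)) (y : Y.left),
      LocallyOfFinitePresentation q.left ∧
      IsPullback ((yon S).map yZ) ((yon S).map y₀) ((yon S).map q ≫ p)
        ((yon S).map (Over.homMk U₀.ι rfl : Over.mk (U₀.ι ≫ U.hom) ⟶ U) ≫ p) ∧
      (U₀.ι (y₀.left y) = u₀) ∧
      ∃ O : Y.left.Opens, y ∈ O ∧ Flat (O.ι ≫ y₀.left) ∧ LocallyQuasiFinite (O.ι ≫ y₀.left) := by
  obtain ⟨_, ⟨W₀, hW₀, rfl⟩, hu₀, -⟩ := U.left.isBasis_affineOpens.exists_subset_of_mem_open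
    (Set.mem_univ u₀) isOpen_univ
  let U₀ : U.left.Opens := W₀
  let T₀ : Over S := Over.mk (U₀.ι ≫ U.hom)
  let ι₀ : T₀ ⟶ U := Over.homMk U₀.ι rfl
  have : IsAffine T₀.left := hW₀
  obtain ⟨XR, rU, r₀, sR⟩ := exists_pullback_yon hp.1 ((yon S).map ι₀ ≫ p)
  have hr₀f : Flat r₀.left := (hp.2 _ _ _ sR).1
  have hr₀p : LocallyOfFinitePresentation r₀.left := (hp.2 _ _ _ sR).2
  obtain ⟨δ, hδ1, hδ2⟩ := sR.exists_lift ((yon S).map ι₀) (𝟙 _) (by rw [Category.id_comp])
  obtain ⟨δ, rfl⟩ := (yon S).map_surjective δ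
  rw [← Functor.map_comp] at hδ1 hδ2
  have d1 : δ ≫ rU = ι₀ := (yon S).map_injective hδ1
  have d2 : δ ≫ r₀ = 𝟙 T₀ := (yon S).map_injective (hδ2.trans ((yon S).map_id T₀).symm)
  let t₀ : T₀.left := (⟨u₀, hu₀⟩ : U₀)
  let e₀ : XR.left := δ.left t₀
  have he₀ : r₀.left e₀ = t₀ := congrArg (fun k : T₀ ⟶ T₀ => k.left t₀) d2
  obtain ⟨_, ⟨Z₁, hZ₁, rfl⟩, he₁, -⟩ := U.left.isBasis_affineOpens.exists_subset_of_mem_open
    (Set.mem_univ (rU.left e₀)) isOpen_univ
  obtain ⟨_, ⟨O, hO, rfl⟩, heO, hOZ⟩ := XR.left.isBasis_affineOpens.exists_subset_of_mem_open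
    (show e₀ ∈ rU.left ⁻¹ᵁ Z₁ from he₁) (rU.left ⁻¹ᵁ Z₁).2
  replace hO : IsAffineOpen O := hO
  replace hZ₁ : IsAffineOpen Z₁ := hZ₁
  have eZ : O ≤ rU.left ⁻¹ᵁ Z₁ := hOZ
  have hT : IsAffineOpen (⊤ : T₀.left.Opens) := isAffineOpen_top _
  have eT : O ≤ r₀.left ⁻¹ᵁ ⊤ := le_top
  let R := Γ(T₀.left, ⊤)
  let A := Γ(U.left, Z₁)
  let B := Γ(XR.left, O)
  let φ : A ⟶ B := rU.left.appLE Z₁ O eZ
  let ρ : R ⟶ B := r₀.left.appLE ⊤ O eT
  letI : Algebra R B := ρ.hom.toAlgebra
  have : Algebra.FinitePresentation R B := r₀.left.finitePresentation_appLE hT hO eT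
  have : Module.Flat R B := hr₀f.flat_appLE hT hO eT
  let p₀ := (hT.primeIdealOf ⟨t₀, trivial⟩).asIdeal
  -- the fibre is nonempty
  have hQ₀ : (hO.primeIdealOf ⟨e₀, heO⟩).asIdeal.comap (algebraMap R B) = p₀ := by
    have e : Spec.map ρ (hO.primeIdealOf ⟨e₀, heO⟩) = hT.primeIdealOf ⟨t₀, trivial⟩ := by
      apply hT.fromSpec.isOpenEmbedding.injective
      rw [← Scheme.Hom.comp_apply, IsAffineOpen.SpecMap_appLE_fromSpec r₀.left hT hO eT, Scheme.Hom.comp_apply,
        IsAffineOpen.fromSpec_primeIdealOf, IsAffineOpen.fromSpec_primeIdealOf]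
      exact he₀
    exact congrArg PrimeSpectrum.asIdeal e
  have : Nontrivial (p₀.Fiber B) := by
    have P := PrimeSpectrum.preimageEquivFiber R B ⟨p₀, inferInstance⟩
      ⟨hO.primeIdealOf ⟨e₀, heO⟩, PrimeSpectrum.ext hQ₀⟩
    exact PrimeSpectrum.nonempty_iff_nontrivial.1 ⟨P⟩
  -- the fibre sits in a product of the base point and `U`
  have hepi : JointEpi p₀.ResidueField ((fibMap p₀).comp φ.hom) := by
    intro C _ f g hk hA
    have hR : (f.comp (fibMap p₀)).comp ρ.hom = (g.comp (fibMap p₀)).comp ρ.hom := by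
      have e : (fibMap (B := B) p₀).comp ρ.hom =
          (algebraMap p₀.ResidueField (p₀.Fiber B)).comp (algebraMap R p₀.ResidueField) := by
        rw [show (fibMap (B := B) p₀).comp ρ.hom = algebraMap R (p₀.Fiber B) from
          (Algebra.TensorProduct.includeRight : B →ₐ[R] p₀.Fiber B).comp_algebraMap,
          ← IsScalarTower.algebraMap_eq]
      rw [RingHom.comp_assoc, e, ← RingHom.comp_assoc, hk, RingHom.comp_assoc, ← e, ← RingHom.comp_assoc]
    let f' : B ⟶ CommRingCat.of C := CommRingCat.ofHom (f.comp (fibMap p₀))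
    let g' : B ⟶ CommRingCat.of C := CommRingCat.ofHom (g.comp (fibMap p₀))
    let a := Spec.map f' ≫ hO.fromSpec
    let b := Spec.map g' ≫ hO.fromSpec
    have h0 : a ≫ r₀.left = b ≫ r₀.left := by
      simp only [a, b, Category.assoc, ← IsAffineOpen.SpecMap_appLE_fromSpec r₀.left hT hO eT, ← Spec.map_comp_assoc]
      rw [show r₀.left.appLE ⊤ O eT ≫ f' = r₀.left.appLE ⊤ O eT ≫ g' from CommRingCat.hom_ext hR]
    have hU : a ≫ rU.left = b ≫ rU.left := by
      simp only [a, b, Category.assoc, ← IsAffineOpen.SpecMap_appLE_fromSpec rU.left hZ₁ hO eZ, ← Spec.map_comp_assoc]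
      rw [show φ ≫ f' = φ ≫ g' from CommRingCat.hom_ext hA]
    let T : Over S := Over.mk (a ≫ XR.hom)
    let a' : T ⟶ XR := Over.homMk a rfl
    let b' : T ⟶ XR := Over.homMk b (by
      show b ≫ XR.hom = a ≫ XR.hom
      rw [← Over.w r₀, reassoc_of% h0])
    have e : a' = b' := (yon S).map_injective (sR.hom_ext
      (by rw [← Functor.map_comp, ← Functor.map_comp]; exact congrArg (yon S).map (Over.OverMorphism.ext hU))
      (by rw [← Functor.map_comp, ← Functor.map_comp]; exact congrArg (yon S).map (Over.OverMorphism.ext h0)))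
    have e' : f.comp (fibMap p₀) = g.comp (fibMap p₀) := by
      have := congrArg (fun k : T ⟶ XR => k.left) e
      exact congrArg CommRingCat.Hom.hom (Spec.map_injective ((cancel_mono hO.fromSpec).1 this) : f' = g')
    refine RingHom.ext fun x => ?_
    induction x using TensorProduct.induction_on with
    | zero => rw [map_zero, map_zero]
    | add x y hx hy => rw [map_add, map_add, hx, hy]
    | tmul c b =>
      have e2 : c ⊗ₜ[R] b = algebraMap p₀.ResidueField (p₀.Fiber B) c * fibMap p₀ b := by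
        change _ = (c ⊗ₜ[R] (1 : B)) * ((1 : p₀.ResidueField) ⊗ₜ[R] b)
        rw [Algebra.TensorProduct.tmul_mul_tmul, mul_one, one_mul]
      rw [e2, map_mul, map_mul]
      exact congrArg₂ (· * ·) congr($hk c) congr($e' b)
  obtain ⟨J, Q, g, hJ, hQp, hJQ, hQ, hgQ, hflat, hiso⟩ := exists_slice_qf p₀ φ.hom hepi
  -- the slice
  let Aq : CommRingCat := CommRingCat.of (A ⧸ J)
  let mk₁ : A ⟶ Aq := CommRingCat.ofHom (Ideal.Quotient.mk J)
  let zι : Spec Aq ⟶ U.left := Spec.map mk₁ ≫ hZ₁.fromSpec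
  let Z' : Over S := Over.mk (zι ≫ U.hom)
  let q : Z' ⟶ U := Over.homMk zι rfl
  have hqp : LocallyOfFinitePresentation q.left := by
    have : LocallyOfFinitePresentation (Spec.map mk₁) := by
      rw [HasRingHomProperty.Spec_iff (P := @LocallyOfFinitePresentation)]
      exact RingHom.FinitePresentation.of_surjective _ Ideal.Quotient.mk_surjective
        (by show (RingHom.ker (Ideal.Quotient.mk J)).FG; rwa [Ideal.mk_ker])
    exact inferInstanceAs (LocallyOfFinitePresentation (Spec.map mk₁ ≫ hZ₁.fromSpec))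
  let Y := pullback rU q
  let yZ : Y ⟶ Z' := pullback.snd rU q
  let y₀ : Y ⟶ T₀ := pullback.fst rU q ≫ r₀
  have sY : IsPullback ((yon S).map yZ) ((yon S).map y₀) ((yon S).map q ≫ p) ((yon S).map ι₀ ≫ p) := by
    simp only [y₀, Functor.map_comp]
    exact ((IsPullback.of_hasPullback rU q).map (yon S)).flip.paste_vert sR
  -- the sliced fibre chart
  let Bq : CommRingCat := CommRingCat.of (B ⧸ J.map φ.hom)
  let mk₂ : B ⟶ Bq := CommRingCat.ofHom (Ideal.Quotient.mk (J.map φ.hom))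
  let φq : Aq ⟶ Bq := CommRingCat.ofHom (Ideal.quotientMap (J.map φ.hom) φ.hom Ideal.le_comap_map)
  have sB : IsPullback (Spec.map mk₂) (Spec.map φq) (Spec.map φ) (Spec.map mk₁) :=
    isPullback_SpecMap_of_isPushout _ _ _ _ (isPushout_quotient φ J)
  have sB' : IsPullback (Spec.map mk₂) (Spec.map φq) (Spec.map φ ≫ hZ₁.fromSpec) zι :=
    isPullback_comp_mono' sB hZ₁.fromSpec
  rw [IsAffineOpen.SpecMap_appLE_fromSpec rU.left hZ₁ hO eZ] at sB'
  have sYl : IsPullback (pullback.fst rU q).left yZ.left rU.left zι :=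
    isPullback_map_left (IsPullback.of_hasPullback rU q)
  obtain ⟨j₀, hj1, hj2⟩ := sYl.exists_lift (Spec.map mk₂ ≫ hO.fromSpec) (Spec.map φq) (by
    rw [Category.assoc]; exact sB'.w)
  have sj : IsPullback (Spec.map mk₂) j₀ hO.fromSpec (pullback.fst rU q).left :=
    IsPullback.of_bot (by rw [hj2]; exact sB') hj1.symm sYl
  have hj : IsOpenImmersion j₀ := MorphismProperty.of_isPullback (P := @IsOpenImmersion) sj inferInstance
  let M := Algebra.algebraMapSubmonoid (B ⧸ J.map φ.hom) (Submonoid.powers g)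
  let Cq := Localization M
  let ℓ : Bq ⟶ CommRingCat.of Cq := CommRingCat.ofHom (algebraMap (B ⧸ J.map φ.hom) Cq)
  have : IsLocalization.Away (Ideal.Quotient.mk (J.map φ.hom) g) Cq := by
    have e : M = Submonoid.powers (Ideal.Quotient.mk (J.map φ.hom) g) := Submonoid.map_powers _ g
    rw [IsLocalization.Away, ← e]
    infer_instance
  have hℓ : IsOpenImmersion (Spec.map ℓ) := IsOpenImmersion.of_isLocalization (Ideal.Quotient.mk (J.map φ.hom) g)
  let jW : Spec (CommRingCat.of Cq) ⟶ Y.left := Spec.map ℓ ≫ j₀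
  have hy₀ : jW ≫ y₀.left = Spec.map (ρ ≫ mk₂ ≫ ℓ) ≫ hT.fromSpec := by
    simp only [jW, y₀, Over.comp_left, Category.assoc, reassoc_of% hj1, Spec.map_comp]
    rw [← IsAffineOpen.SpecMap_appLE_fromSpec r₀.left hT hO eT]
  have hWflat : Flat (jW ≫ y₀.left) := by
    rw [hy₀]
    have : Flat (Spec.map (ρ ≫ mk₂ ≫ ℓ)) := by
      rw [HasRingHomProperty.Spec_iff (P := @Flat)]
      have hfl : Module.Flat R Cq :=
        FlatOpen.flat_of_flatAt_basicOpen (R := R) g
          (IsScalarTower.toAlgHom B (B ⧸ J.map φ.hom) Cq).toLinearMap fun P _ hgP => hflat P hgP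
      exact RingHom.flat_algebraMap_iff.2 hfl
    infer_instance
  -- the point
  have hQne : Ideal.Quotient.mk (J.map φ.hom) g ∉ Q.map (Ideal.Quotient.mk (J.map φ.hom)) := fun h => by
    rw [Ideal.mem_quotient_iff_mem_sup, sup_of_le_left hJQ] at h
    exact hgQ h
  have hQq : (Q.map (Ideal.Quotient.mk (J.map φ.hom))).IsPrime :=
    Ideal.map_isPrime_of_surjective Ideal.Quotient.mk_surjective (by rwa [Ideal.mk_ker])
  let Qq : PrimeSpectrum (B ⧸ J.map φ.hom) := ⟨_, hQq⟩
  obtain ⟨w, hw⟩ : Qq ∈ Set.range (PrimeSpectrum.comap (algebraMap (B ⧸ J.map φ.hom) Cq)) := by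
    rw [PrimeSpectrum.localization_away_comap_range Cq (Ideal.Quotient.mk (J.map φ.hom) g)]
    exact hQne
  have hover : ∀ w' : Spec (CommRingCat.of Cq), (jW ≫ y₀.left) w' = t₀ →
      (Spec.map (mk₂ ≫ ℓ) w').asIdeal = Q := by
    intro w' hw'
    let P := Spec.map (mk₂ ≫ ℓ) w'
    refine hiso P.asIdeal P.2 (fun hgP => ?_) ?_ ?_
    · exact w'.2.ne_top (Ideal.eq_top_of_isUnit_mem _ hgP
        (IsLocalization.Away.algebraMap_isUnit (S := Cq) (Ideal.Quotient.mk (J.map φ.hom) g)))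
    · intro x hx
      show algebraMap (B ⧸ J.map φ.hom) Cq (Ideal.Quotient.mk _ x) ∈ w'.asIdeal
      rw [Ideal.Quotient.eq_zero_iff_mem.2 hx, map_zero]
      exact w'.asIdeal.zero_mem
    · rw [hy₀, Scheme.Hom.comp_apply] at hw'
      exact congrArg PrimeSpectrum.asIdeal
        (hT.fromSpec.isOpenEmbedding.injective (hw'.trans (hT.fromSpec_primeIdealOf ⟨t₀, trivial⟩).symm))
  have hwQ : (Spec.map (mk₂ ≫ ℓ) w).asIdeal = Q := by
    have e : (PrimeSpectrum.comap (algebraMap (B ⧸ J.map φ.hom) Cq) w).asIdeal =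
        Q.map (Ideal.Quotient.mk (J.map φ.hom)) := congrArg PrimeSpectrum.asIdeal hw
    show (PrimeSpectrum.comap (algebraMap (B ⧸ J.map φ.hom) Cq) w).asIdeal.comap
      (Ideal.Quotient.mk (J.map φ.hom)) = Q
    rw [e, Ideal.comap_map_of_surjective _ Ideal.Quotient.mk_surjective, ← RingHom.ker_eq_comap_bot,
      Ideal.mk_ker, sup_of_le_left hJQ]
  have hwt : (jW ≫ y₀.left) w = t₀ := by
    rw [hy₀, Scheme.Hom.comp_apply]
    refine Eq.trans ?_ (hT.fromSpec_primeIdealOf ⟨t₀, trivial⟩)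
    congr 1
    refine PrimeSpectrum.ext ?_
    show (Spec.map (mk₂ ≫ ℓ) w).asIdeal.comap (algebraMap R B) = p₀
    rw [hwQ, hQ]
  -- quasi-finite at the point
  let fW := jW ≫ y₀.left
  have : LocallyOfFinitePresentation q.left := hqp
  have hpf : LocallyOfFinitePresentation y₀.left := by
    have : LocallyOfFinitePresentation (pullback.fst rU q).left :=
      MorphismProperty.of_isPullback sYl.flip hqp
    exact inferInstanceAs (LocallyOfFinitePresentation ((pullback.fst rU q).left ≫ r₀.left))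
  have hjW : IsOpenImmersion jW := inferInstance
  have hfW : LocallyOfFinitePresentation fW := inferInstance
  have hqf : fW.QuasiFiniteAt w := by
    rw [Scheme.Hom.quasiFiniteAt_iff_isOpen_singleton_asFiber]
    have : Subsingleton (fW.fiber (fW w)) := by
      refine ⟨fun a b => (fW.fiberHomeo (fW w)).injective (Subtype.ext ?_)⟩
      have key : ∀ c : fW.fiber (fW w), (fW.fiberHomeo (fW w) c).1 = w := fun c => by
        have hc : fW (fW.fiberHomeo (fW w) c).1 = t₀ := ((fW.fiberHomeo (fW w) c).2 : _ = fW w).trans hwt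
        have : IsClosedImmersion (Spec.map mk₂) := IsClosedImmersion.spec_of_surjective mk₂ Ideal.Quotient.mk_surjective
        have : IsPreimmersion (Spec.map (mk₂ ≫ ℓ)) := by rw [Spec.map_comp]; infer_instance
        refine (Spec.map (mk₂ ≫ ℓ)).isEmbedding.injective ?_
        exact PrimeSpectrum.ext ((hover _ hc).trans hwQ.symm)
      rw [key a, key b]
    exact isOpen_discrete _
  let G : (Spec (CommRingCat.of Cq)).Opens := fW.quasiFiniteLocus
  refine ⟨Z', q, U₀, Y, yZ, y₀, jW w, hqp, sY, congrArg U₀.ι hwt,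
    jW ''ᵁ G, ⟨w, hqf, rfl⟩, ?_, ?_⟩
  · rw [← jW.isoImage_inv_ι_assoc G]
    have : Flat (G.ι ≫ jW ≫ y₀.left) := inferInstanceAs (Flat (G.ι ≫ fW))
    infer_instance
  · rw [← jW.isoImage_inv_ι_assoc G]
    have : LocallyQuasiFinite (G.ι ≫ fW) := by
      rw [← Scheme.Hom.quasiFiniteLocus_eq_top_iff]
      exact TopologicalSpace.Opens.ext (Set.eq_univ_of_forall fun x =>
        Scheme.Hom.quasiFiniteAt_comp_iff_of_isOpenImmersion.2 x.2)
    exact inferInstanceAs (LocallyQuasiFinite ((jW.isoImage G).inv ≫ G.ι ≫ fW))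

end Groth.Agent.AlgSpB.Art
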