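import Groth.Agent.AlgSpB.Art.FieldMono
import Groth.Agent.FlatOpen.Slice
import Mathlib.RingTheory.LocalRing.ResidueField.Fiber
import Mathlib.RingTheory.Ideal.AssociatedPrime.Finiteness

/-!
# Slicing a flat algebra to relative dimension zero at a point of a given fibre
-/

universe u

open TensorProduct

namespace Groth.Agent.AlgSpB.Art

variable {R B : Type u} [CommRing R] [CommRing B] [Algebra R B] (p : Ideal R) [p.IsPrime]

/-- The canonical map to the fibre. -/
noncomputable def fibMap : B →+* p.Fiber B :=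
  (Algebra.TensorProduct.includeRight : B →ₐ[R] p.Fiber B).toRingHom

theorem mem_map_algEquiv_iff {B A C : Type u} [CommRing B] [CommRing A] [CommRing C] [Algebra B A]
    [Algebra B C] (e : A ≃ₐ[B] C) (K : Ideal B) (b : B) :
    algebraMap B A b ∈ K.map (algebraMap B A) ↔ algebraMap B C b ∈ K.map (algebraMap B C) := by
  have aux : ∀ {A C : Type u} [CommRing A] [CommRing C] [Algebra B A] [Algebra B C] (f : A →ₐ[B] C),
      algebraMap B A b ∈ K.map (algebraMap B A) → algebraMap B C b ∈ K.map (algebraMap B C) := by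
    intro A C _ _ _ _ f h
    have := Ideal.mem_map_of_mem f.toRingHom h
    rwa [Ideal.map_map, show f.toRingHom.comp (algebraMap B A) = algebraMap B C from f.comp_algebraMap,
      show f.toRingHom (algebraMap B A b) = _ from f.commutes b] at this
  exact ⟨aux e.toAlgHom, aux e.symm.toAlgHom⟩

theorem mem_map_fibMap_iff (K : Ideal B) (b : B) :
    fibMap p b ∈ K.map (fibMap p) ↔ ∃ c ∉ p, algebraMap R B c * b ∈ K ⊔ p.map (algebraMap R B) := by
  letI : Algebra B (p.Fiber B) := Algebra.TensorProduct.rightAlgebra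
  let Bp := Localization (Algebra.algebraMapSubmonoid B p.primeCompl)
  let pB := p.map (algebraMap R B)
  let e := Ideal.Fiber.algEquivAux₁ (S := B) p
  have hι : fibMap (B := B) p = algebraMap B (p.Fiber B) := rfl
  rw [hι]
  have h1 := mem_map_algEquiv_iff e K b
  rw [h1, IsScalarTower.algebraMap_eq B Bp (Bp ⧸ _), ← Ideal.map_map, RingHom.comp_apply,
    Ideal.Quotient.algebraMap_eq]
  erw [Ideal.mem_quotient_iff_mem_sup]
  rw [← Ideal.map_sup, IsLocalization.algebraMap_mem_map_algebraMap_iff (Algebra.algebraMapSubmonoid B p.primeCompl)]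
  constructor
  · rintro ⟨_, ⟨c, hc, rfl⟩, h⟩; exact ⟨c, hc, h⟩
  · rintro ⟨c, hc, h⟩; exact ⟨_, ⟨c, hc, rfl⟩, h⟩

theorem exists_fibMap_eq (x : p.Fiber B) :
    ∃ b : B, ∀ P : Ideal (p.Fiber B), [P.IsPrime] → (fibMap p b ∈ P ↔ x ∈ P) := by
  obtain ⟨r, hr, s, hs⟩ := Ideal.Fiber.exists_smul_eq_one_tmul p x
  refine ⟨s, fun P _ => ?_⟩
  change (1 : p.ResidueField) ⊗ₜ[R] s ∈ P ↔ _
  rw [← hs, Algebra.smul_def]
  refine Ideal.IsPrime.mul_mem_left_iff fun h => hr ?_
  have := (Ideal.over_def P p)
  rw [this]; exact h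

theorem comap_fibMap_over (P : Ideal (p.Fiber B)) [P.IsPrime] :
    (P.comap (fibMap p)).comap (algebraMap R B) = p := by
  rw [Ideal.comap_comap, show (fibMap p).comp (algebraMap R B) = algebraMap R (p.Fiber B) from
    (Algebra.TensorProduct.includeRight : B →ₐ[R] p.Fiber B).comp_algebraMap]
  exact (Ideal.over_def P p).symm

theorem flatAt_equiv {M N : Type u} [AddCommGroup M] [Module B M] [Module R M] [IsScalarTower R B M]
    [AddCommGroup N] [Module B N] [Module R N] [IsScalarTower R B N] (E : M ≃ₗ[B] N) (P : Ideal B)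
    [P.IsPrime] (h : FlatCA.FlatAt R P M) : FlatCA.FlatAt R P N := by
  have : Module.Flat R (LocalizedModule P.primeCompl M) := h
  let g := (LocalizedModule.mkLinearMap P.primeCompl N).comp E.toLinearMap
  have : IsLocalizedModule P.primeCompl g := IsLocalizedModule.of_linearEquiv_right _ _ E
  let e := IsLocalizedModule.linearEquiv P.primeCompl g (LocalizedModule.mkLinearMap P.primeCompl M)
  exact Module.Flat.of_linearEquiv (e.restrictScalars R)

theorem flatAt_self [Module.Flat R B] (P : Ideal B) [P.IsPrime] : FlatCA.FlatAt R P B := by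
  have : Module.Flat B (Localization.AtPrime P) := IsLocalization.flat _ P.primeCompl
  have : Module.Flat R (Localization.AtPrime P) := Module.Flat.trans R B _
  let e := IsLocalizedModule.linearEquiv P.primeCompl (LocalizedModule.mkLinearMap P.primeCompl B)
    (Algebra.linearMap B (Localization.AtPrime P))
  exact Module.Flat.of_linearEquiv (e.restrictScalars R)

/-- Maps out of `F` are determined by their restrictions to `k` and along `θ`. -/
def JointEpi (k : Type u) {A F : Type u} [CommRing k] [CommRing A] [CommRing F] [Algebra k F] (θ : A →+* F) :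
    Prop :=
  ∀ (C : Type u) [CommRing C] (f g : F →+* C),
    f.comp (algebraMap k F) = g.comp (algebraMap k F) → f.comp θ = g.comp θ → f = g

/-- In a Noetherian module of fractions, an element killed by an element outside the only associated
prime not containing `h` is killed by a power of `h`. -/
theorem exists_pow_mul_mem {F : Type u} [CommRing F] [IsNoetherianRing F] (I : Ideal F) (h x m : F)
    (hass : ∀ P : Ideal F, IsAssociatedPrime P (F ⧸ I) → x ∈ P → h ∈ P) (hxm : x * m ∈ I) :
    ∃ N, h ^ N * m ∈ I := by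
  classical
  by_contra hN
  push Not at hN
  let T : Set (Ideal F) := {K | ∃ c, (∀ N, h ^ N * c ∉ I) ∧ K = I.colon {c} ∧ x ∈ K}
  have hne : T.Nonempty := ⟨_, m, hN, rfl, by rw [Submodule.mem_colon_singleton]; exact hxm⟩
  obtain ⟨K, ⟨c, hc, rfl, hxK⟩, hmax⟩ := set_has_maximal_iff_noetherian.2 inferInstance T hne
  have hmem : ∀ a, a ∈ I.colon {c} ↔ a * c ∈ I := fun a => Submodule.mem_colon_singleton
  have hmax' : ∀ d : F, (∀ N, h ^ N * d ∉ I) → I.colon {c} ≤ I.colon {d} → I.colon {c} = I.colon {d} :=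
    fun d hd hle => hle.eq_of_not_lt fun hlt => hmax _ ⟨d, hd, rfl, hle hxK⟩ hlt
  have hP : (I.colon {c}).IsPrime := by
    refine ⟨fun htop => hc 0 ?_, fun {a b} hab => ?_⟩
    · rw [pow_zero]; exact (hmem 1).1 (htop ▸ Submodule.mem_top)
    · by_contra hor
      rw [not_or] at hor
      obtain ⟨ha, hb⟩ := hor
      have hd : ∀ N, h ^ N * (a * c) ∉ I := fun N hmm => by
        have hle : I.colon {c} ≤ I.colon {h ^ N * c} := fun y hy => by
          rw [Submodule.mem_colon_singleton, smul_eq_mul, mul_left_comm]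
          exact I.mul_mem_left _ ((hmem y).1 hy)
        have := hmax' (h ^ N * c) (fun N' hh => hc (N' + N) (by rwa [pow_add, mul_assoc])) hle
        refine ha ?_
        rw [this, Submodule.mem_colon_singleton, smul_eq_mul, mul_left_comm]
        exact hmm
      have hle : I.colon {c} ≤ I.colon {a * c} := fun y hy => by
        rw [Submodule.mem_colon_singleton, smul_eq_mul, mul_left_comm]
        exact I.mul_mem_left _ ((hmem y).1 hy)
      have := hmax' _ hd hle
      refine hb ?_
      rw [this, Submodule.mem_colon_singleton, smul_eq_mul, ← mul_assoc, mul_comm b a]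
      exact (hmem _).1 hab
  have hassoc : IsAssociatedPrime (I.colon {c}) (F ⧸ I) := by
    refine ⟨hP, Ideal.Quotient.mk I c, ?_⟩
    suffices e : I.colon {c} = (⊥ : Submodule F (F ⧸ I)).colon {Ideal.Quotient.mk I c} by
      rw [← e, hP.radical]
    ext y
    rw [hmem, Submodule.mem_colon_singleton, Submodule.mem_bot, Algebra.smul_def,
      Ideal.Quotient.algebraMap_eq, ← map_mul, Ideal.Quotient.eq_zero_iff_mem]
  exact hc 1 (by rw [pow_one]; exact (hmem h).1 (hass _ hassoc hxK))

variable {A : Type u} [CommRing A] (φ : A →+* B)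

set_option maxHeartbeats 400000 in
/-- An element of `A` which is neither nilpotent nor invertible on a nonempty open part of a
positive dimensional irreducible component of an algebra over a field. -/
theorem exists_elt {k A F : Type u} [Field k] [CommRing A] [CommRing F] [Algebra k F] [Algebra.FiniteType k F]
    (θ₀ : A →+* F) (hepi : JointEpi k θ₀)
    (η : Ideal F) [η.IsPrime] (hη : ¬ η.IsMaximal) (h : F) (hh : h ∉ η) :
    ∃ (a : A) (Q : Ideal F), Q.IsPrime ∧ η ≤ Q ∧ h ∉ Q ∧ θ₀ a ∉ η ∧ θ₀ a ∈ Q := by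
  classical
  by_contra hno
  push Not at hno
  let D := F ⧸ η
  let h' : D := Ideal.Quotient.mk η h
  have hh' : h' ≠ 0 := fun e => hh (Ideal.Quotient.eq_zero_iff_mem.1 e)
  let C := Localization.Away h'
  have hle : Submonoid.powers h' ≤ nonZeroDivisors D := powers_le_nonZeroDivisors_of_noZeroDivisors hh'
  have : IsDomain C := IsLocalization.isDomain_localization hle
  have : Algebra.FiniteType D C := IsLocalization.finiteType_of_monoid_fg (Submonoid.powers h') C
  have : Algebra.FiniteType k C := Algebra.FiniteType.trans (R := k) (S := D) (A := C) inferInstance inferInstance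
  let θ : A →+* C := (algebraMap D C).comp ((Ideal.Quotient.mk η).comp θ₀)
  have hinj : Function.Injective (algebraMap D C) := IsLocalization.injective C hle
  -- elements outside the kernel are invertible
  have hunit : ∀ a, θ a ≠ 0 → IsUnit (θ a) := by
    intro a ha
    by_contra hu
    obtain ⟨M, hM, haM⟩ := exists_max_ideal_of_mem_nonunits hu
    let Q : Ideal F := M.comap ((algebraMap D C).comp (Ideal.Quotient.mk η))
    have : Q.IsPrime := Ideal.IsPrime.comap _
    have hηQ : η ≤ Q := fun x hx => by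
      rw [Ideal.mem_comap, RingHom.comp_apply, Ideal.Quotient.eq_zero_iff_mem.2 hx, map_zero]
      exact M.zero_mem
    have hhQ : h ∉ Q := fun hx =>
      hM.ne_top (Ideal.eq_top_of_isUnit_mem _ hx (IsLocalization.Away.algebraMap_isUnit h'))
    have hane : θ₀ a ∉ η := fun hx => ha (by
      simp only [θ, RingHom.comp_apply, Ideal.Quotient.eq_zero_iff_mem.2 hx, map_zero])
    exact hno a Q this hηQ hhQ hane haM
  have : (RingHom.ker θ).IsPrime := RingHom.ker_isPrime θ
  let A' := A ⧸ RingHom.ker θ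
  let L := FractionRing A'
  let θ' : A' →+* C := RingHom.kerLift θ
  have hθ' : ∀ y : nonZeroDivisors A', IsUnit (θ' y) := by
    rintro ⟨y, hy⟩
    obtain ⟨a, rfl⟩ := Ideal.Quotient.mk_surjective y
    exact hunit a fun h0 => nonZeroDivisors.ne_zero hy (Ideal.Quotient.eq_zero_iff_mem.2 h0)
  let φL : L →+* C := IsLocalization.lift hθ'
  have hC : IsField C := isField_of_epi k L φL fun C' _ f g hk hL => by
    refine IsLocalization.ringHom_ext (Submonoid.powers h') (Ideal.Quotient.ringHom_ext ?_)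
    refine hepi C' _ _ ?_ ?_
    · ext c
      exact congr($hk c)
    · ext a
      have : φL (algebraMap A' L (Ideal.Quotient.mk _ a)) = θ a := IsLocalization.lift_eq hθ' _
      have e2 := congr($hL (algebraMap A' L (Ideal.Quotient.mk _ a)))
      simp only [RingHom.comp_apply] at e2
      rw [this] at e2
      exact e2
  -- but the component has a further closed point
  have : IsJacobsonRing F := isJacobsonRing_of_finiteType (A := k)
  obtain ⟨m, ⟨hηm, hm⟩, hhm⟩ : ∃ m ∈ {J : Ideal F | η ≤ J ∧ J.IsMaximal}, h ∉ m := by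
    by_contra hall
    push Not at hall
    refine hh ?_
    rw [← IsJacobsonRing.out' η (Ideal.IsPrime.isRadical ‹_›)]
    exact Ideal.mem_sInf.2 fun {J} hJ => hall J hJ
  obtain ⟨x, hxm, hxη⟩ := SetLike.exists_of_lt (lt_of_le_of_ne hηm fun e => hη (e ▸ hm))
  have hx0 : algebraMap D C (Ideal.Quotient.mk η x) ≠ 0 := fun e =>
    hxη (Ideal.Quotient.eq_zero_iff_mem.1 (hinj (e.trans (map_zero _).symm)))
  obtain ⟨y, hy⟩ := hC.mul_inv_cancel hx0
  obtain ⟨⟨d, _, N, rfl⟩, hd⟩ := IsLocalization.surj (Submonoid.powers h') y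
  obtain ⟨d, rfl⟩ := Ideal.Quotient.mk_surjective d
  have e : Ideal.Quotient.mk η (x * d) = Ideal.Quotient.mk η (h ^ N) := hinj (by
    rw [map_mul, map_mul, map_pow, ← hd, ← mul_assoc, hy, one_mul])
  refine hhm (hm.isPrime.mem_of_pow_mem N ?_)
  have := hηm (Ideal.Quotient.eq.1 e)
  simpa using m.sub_mem (m.mul_mem_right d hxm) this

/-- The points of the sliced fibre. -/
def fibSet (J : Ideal A) (w : B) : Set (PrimeSpectrum (p.Fiber B)) :=
  {P | (J.map φ).map (fibMap p) ≤ P.asIdeal ∧ fibMap p w ∉ P.asIdeal}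

set_option maxHeartbeats 1600000 in
theorem exists_slice_qf [Algebra.FinitePresentation R B] [Module.Flat R B] [Nontrivial (p.Fiber B)]
    (hepi : JointEpi p.ResidueField ((fibMap p).comp φ)) :
    ∃ (J : Ideal A) (Q : Ideal B) (g : B), J.FG ∧ Q.IsPrime ∧ J.map φ ≤ Q ∧ Q.comap (algebraMap R B) = p ∧
      g ∉ Q ∧ (∀ (P : Ideal B) [P.IsPrime], g ∉ P → FlatCA.FlatAt R P (B ⧸ J.map φ)) ∧
      ∀ P : Ideal B, P.IsPrime → g ∉ P → J.map φ ≤ P → P.comap (algebraMap R B) = p → P = Q := by
  classical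
  let F := p.Fiber B
  have : IsNoetherianRing F := Algebra.FiniteType.isNoetherianRing p.ResidueField F
  suffices key : ∀ (I : Ideal F) (J : Ideal A) (w : B), J.FG → (fibSet p φ J w).Nonempty →
      PrimeSpectrum.vanishingIdeal (fibSet p φ J w) = I →
      (∀ (P : Ideal B) [P.IsPrime], w ∉ P → FlatCA.FlatAt R P (B ⧸ J.map φ)) →
      ∃ (J' : Ideal A) (w' : B), J'.FG ∧ (fibSet p φ J' w').Nonempty ∧
        (∀ P ∈ fibSet p φ J' w', P.asIdeal.IsMaximal) ∧
        (∀ (P : Ideal B) [P.IsPrime], w' ∉ P → FlatCA.FlatAt R P (B ⧸ J'.map φ)) by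
    obtain ⟨P₀⟩ : Nonempty (PrimeSpectrum F) := inferInstance
    obtain ⟨J, w, hJ, ⟨Q₀, hQ₀⟩, hmax, hflat⟩ := key _ ⊥ 1 Submodule.fg_bot
      ⟨P₀, by simp, by rw [map_one]; exact fun h => P₀.2.ne_top (Ideal.eq_top_of_isUnit_mem _ h isUnit_one)⟩
      rfl fun P _ _ => flatAt_equiv (Submodule.quotEquivOfEqBot _ Ideal.map_bot).symm P (flatAt_self P)
    -- finitely many, closed points
    let S := fibSet p φ J w
    have hsub : ∀ P ∈ S, P.asIdeal ∈ ((J.map φ).map (fibMap p)).minimalPrimes := by
      intro P hP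
      obtain ⟨P', hP', hle⟩ := Ideal.exists_minimalPrimes_le hP.1
      have := hP'.1.1
      have hmax' := hmax ⟨P', hP'.1.1⟩ ⟨hP'.1.2, fun h => hP.2 (hle h)⟩
      rwa [← hmax'.eq_of_le P.2.ne_top hle]
    have hfin : S.Finite := Set.Finite.of_injOn (f := PrimeSpectrum.asIdeal) hsub
      (fun a _ b _ => PrimeSpectrum.ext) (Ideal.finite_minimalPrimes_of_isNoetherianRing F _)
    let Q := Q₀.asIdeal.comap (fibMap p)
    have hQp : Q.IsPrime := Ideal.IsPrime.comap _
    have hsep : ∀ P ∈ S, P ≠ Q₀ → ∃ b : B, fibMap p b ∈ P.asIdeal ∧ fibMap p b ∉ Q₀.asIdeal := by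
      intro P hP hne
      by_contra hall
      push Not at hall
      refine hne (PrimeSpectrum.ext ((hmax P hP).eq_of_le Q₀.2.ne_top fun x hx => ?_))
      obtain ⟨b, hb⟩ := exists_fibMap_eq p x
      exact (hb Q₀.asIdeal).1 (hall b ((hb P.asIdeal).2 hx))
    choose! b hb1 hb2 using hsep
    let g := w * ∏ P ∈ hfin.toFinset.erase Q₀, b P
    have hg : g ∉ Q := fun h => by
      rcases hQp.mem_or_mem h with h | h
      · exact hQ₀.2 h
      · obtain ⟨P, hP, hPQ⟩ := (hQp.prod_mem_iff).1 h
        rw [Finset.mem_erase, Set.Finite.mem_toFinset] at hP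
        exact hb2 P hP.2 hP.1 hPQ
    refine ⟨J, Q, g, hJ, hQp, Ideal.map_le_iff_le_comap.1 hQ₀.1, comap_fibMap_over p _, hg,
      fun P _ h => hflat P fun hw => h (P.mul_mem_right _ hw), fun P hP hgP hJP hPp => ?_⟩
    -- a prime of the fibre
    obtain ⟨P', rfl⟩ : ∃ P' : PrimeSpectrum F, P'.asIdeal.comap (fibMap p) = P := by
      obtain ⟨⟨q, hq⟩, e⟩ : ∃ q : (PrimeSpectrum.comap (algebraMap R B)) ⁻¹' {⟨p, ‹_›⟩}, q.1.asIdeal = P :=
        ⟨⟨⟨P, hP⟩, by rw [Set.mem_preimage, Set.mem_singleton_iff]; exact PrimeSpectrum.ext hPp⟩, rfl⟩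
      let q' : PrimeSpectrum F := PrimeSpectrum.preimageEquivFiber R B ⟨p, ‹_›⟩ ⟨q, hq⟩
      refine ⟨q', ?_⟩
      have := congrArg (fun x => x.1.asIdeal) ((PrimeSpectrum.preimageEquivFiber R B ⟨p, ‹_›⟩).symm_apply_apply ⟨q, hq⟩)
      exact this.trans e
    have hP'S : P' ∈ S := ⟨Ideal.map_le_iff_le_comap.2 hJP, fun hw => hgP (Ideal.mul_mem_right _ _ hw)⟩
    by_contra hne
    have hne' : P' ≠ Q₀ := fun e => hne (by rw [e])
    refine hgP (Ideal.mul_mem_left _ _ (Ideal.prod_mem _ (i := P') ?_ (hb1 P' hP'S hne')))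
    rw [Finset.mem_erase, Set.Finite.mem_toFinset]
    exact ⟨hne', hP'S⟩
  intro I
  induction I using IsNoetherian.induction with
  | hgt I ih =>
    intro J w hJ hne hI hflat
    by_cases hall : ∀ P ∈ fibSet p φ J w, P.asIdeal.IsMaximal
    · exact ⟨J, w, hJ, hne, hall, hflat⟩
    push Not at hall
    obtain ⟨P₀, hP₀, hP₀max⟩ := hall
    let JF := (J.map φ).map (fibMap p)
    obtain ⟨η, hη, hηP⟩ := Ideal.exists_minimalPrimes_le hP₀.1
    have : η.IsPrime := hη.1.1
    have hηmax : ¬ η.IsMaximal := fun h => hP₀max (h.eq_of_le P₀.2.ne_top hηP ▸ h)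
    have hwη : fibMap p w ∉ η := fun h => hP₀.2 (hηP h)
    have hηS : (⟨η, ‹_›⟩ : PrimeSpectrum F) ∈ fibSet p φ J w := ⟨hη.1.2, hwη⟩
    -- avoid the other associated primes
    have hchoice : ∀ P ∈ associatedPrimes F (F ⧸ JF), P ≠ η → ∃ x ∈ P, x ∉ η := by
      intro P hP hne
      refine SetLike.not_le_iff_exists.1 fun hle => hne (le_antisymm hle (hη.2 ⟨hP.isPrime, ?_⟩ hle))
      obtain ⟨_, c, rfl⟩ := hP
      intro y hy
      refine Ideal.le_radical ?_
      rw [Submodule.mem_colon_singleton, Submodule.mem_bot]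
      obtain ⟨c, rfl⟩ := Ideal.Quotient.mk_surjective c
      show Ideal.Quotient.mk JF (y * c) = 0
      rw [Ideal.Quotient.eq_zero_iff_mem]
      exact Ideal.mul_mem_right _ _ hy
    choose! x hx1 hx2 using hchoice
    let T := (associatedPrimes.finite F (F ⧸ JF)).toFinset.erase η
    obtain ⟨b, hb⟩ := exists_fibMap_eq p (∏ P ∈ T, x P)
    let h : B := b * w
    have hbη : fibMap p b ∉ η := fun hbm => by
      obtain ⟨P, hP, hPη⟩ := (Ideal.IsPrime.prod_mem_iff (p := η)).1 ((hb η).1 hbm)
      rw [Finset.mem_erase, Set.Finite.mem_toFinset] at hP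
      exact hx2 P hP.2 hP.1 hPη
    have hhη : fibMap p h ∉ η := by
      rw [map_mul]; exact fun hm => (‹η.IsPrime›.mem_or_mem hm).elim hbη hwη
    obtain ⟨a, Q', hQ', hηQ', hhQ', haη, haQ'⟩ := exists_elt _ hepi η hηmax (fibMap p h) hhη
    let Q := Q'.comap (fibMap p)
    have : Q.IsPrime := Ideal.IsPrime.comap _
    have hQp : Q.comap (algebraMap R B) = p := comap_fibMap_over p Q'
    -- the map
    let M := B ⧸ J.map φ
    have : Module.FinitePresentation B M := Module.finitePresentation_of_surjective (J.map φ).mkQ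
      (Submodule.mkQ_surjective _) (by rw [Submodule.ker_mkQ]; exact hJ.map φ)
    let u : M →ₗ[B] M := LinearMap.lsmul B M (φ a)
    have hfib : ∀ m : M, u m ∈ (Q.comap (algebraMap R B)).map (algebraMap R B) • (⊤ : Submodule B M) →
        ∃ s ∉ Q, s • m ∈ (Q.comap (algebraMap R B)).map (algebraMap R B) • (⊤ : Submodule B M) := by
      rw [hQp]
      have hmem : ∀ y : B, Submodule.Quotient.mk y ∈ p.map (algebraMap R B) • (⊤ : Submodule B M) ↔
          y ∈ J.map φ ⊔ p.map (algebraMap R B) := fun y => by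
        rw [← (J.map φ).mkQ_apply, ← Submodule.mem_comap,
          show (⊤ : Submodule B M) = (⊤ : Submodule B B).map (J.map φ).mkQ from by
            rw [Submodule.map_top, Submodule.range_mkQ],
          ← Submodule.map_smul'', Submodule.comap_map_eq, Submodule.ker_mkQ, sup_comm, smul_eq_mul,
          ← Ideal.one_eq_top, mul_one]
      intro m hm
      obtain ⟨m, rfl⟩ := Submodule.mkQ_surjective _ m
      replace hm : φ a * m ∈ J.map φ ⊔ p.map (algebraMap R B) := (hmem _).1 hm
      have h1 : fibMap p (φ a) * fibMap p m ∈ JF := by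
        rw [← map_mul]
        exact (mem_map_fibMap_iff p _ _).2 ⟨1, fun h1 => (‹p.IsPrime›).ne_top (p.eq_top_of_isUnit_mem h1 isUnit_one), by rw [map_one, one_mul]; exact hm⟩
      obtain ⟨N, hN⟩ := exists_pow_mul_mem JF (fibMap p h) (fibMap p (φ a)) (fibMap p m) (fun P hP hPa => by
        have hne : P ≠ η := fun e => haη (e ▸ hPa)
        have := hP.isPrime
        have hbP : fibMap p b ∈ P := (hb P).2 (Ideal.prod_mem _ (i := P) (f := x) (s := T) (by
          rw [Finset.mem_erase, Set.Finite.mem_toFinset]; exact ⟨hne, hP⟩) (hx1 P hP hne))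
        rw [map_mul]; exact P.mul_mem_right _ hbP) h1
      rw [← map_pow, ← map_mul] at hN
      obtain ⟨c, hc, hcm⟩ := (mem_map_fibMap_iff p _ _).1 hN
      refine ⟨algebraMap R B c * h ^ N, fun hs => ?_, ?_⟩
      · rcases (inferInstance : Q.IsPrime).mem_or_mem hs with hs | hs
        · exact hc (hQp ▸ (Ideal.mem_comap.2 hs : c ∈ Q.comap (algebraMap R B)))
        · exact hhQ' ((inferInstance : Q.IsPrime).mem_of_pow_mem N hs)
      · rw [Submodule.mkQ_apply, ← Submodule.Quotient.mk_smul, hmem, smul_eq_mul, mul_assoc]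
        exact hcm
    have hwQ : w ∉ Q := fun hwQ => hhQ' (by
      rw [map_mul]; exact Q'.mul_mem_left _ hwQ)
    have hmemQ := FlatOpen.injective_coker_flat_of_fibEq R B u Q (hflat Q hwQ) hfib
    obtain ⟨-, ⟨_, ⟨g, rfl⟩, rfl⟩, hgQ, hg⟩ := PrimeSpectrum.isBasis_basic_opens.exists_subset_of_mem_open
      (show (⟨Q, inferInstance⟩ : PrimeSpectrum B) ∈ _ from hmemQ) (FlatOpen.isOpen_injective_coker_flat R B u)
    let J' := J ⊔ Ideal.span {a}
    let w' := g * h
    have hJF : JF ≤ ((J'.map φ).map (fibMap p)) := Ideal.map_mono (Ideal.map_mono le_sup_left)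
    have hsub : fibSet p φ J' w' ⊆ fibSet p φ J w := fun P hP =>
      ⟨hJF.trans hP.1, fun hw => hP.2 (by rw [map_mul, map_mul]; exact P.asIdeal.mul_mem_left _ (P.asIdeal.mul_mem_left _ hw))⟩
    have haS : fibMap p (φ a) ∈ PrimeSpectrum.vanishingIdeal (fibSet p φ J' w') := by
      rw [PrimeSpectrum.mem_vanishingIdeal]
      exact fun P hP => hP.1 (Ideal.mem_map_of_mem _ (Ideal.mem_map_of_mem _ (Ideal.mem_sup_right (Ideal.mem_span_singleton_self a) : a ∈ J')))
    have hlt : I < PrimeSpectrum.vanishingIdeal (fibSet p φ J' w') := by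
      rw [← hI]
      refine lt_of_le_of_ne (PrimeSpectrum.vanishingIdeal_anti_mono hsub) fun e => ?_
      rw [← e, PrimeSpectrum.mem_vanishingIdeal] at haS
      exact haη (haS _ hηS)
    refine ih _ hlt J' w' (Submodule.FG.sup hJ (Submodule.fg_span_singleton a)) ⟨⟨Q', hQ'⟩, ?_, ?_⟩ rfl fun P hP hw' => ?_
    · rw [Ideal.map_map, Ideal.map_le_iff_le_comap, sup_le_iff, Ideal.span_singleton_le_iff_mem]
      refine ⟨?_, haQ'⟩
      rw [← Ideal.map_le_iff_le_comap, ← Ideal.map_map]
      exact hη.1.2.trans hηQ'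
    · show fibMap p (g * h) ∉ Q'
      rw [map_mul]
      exact fun hm => (hQ'.mem_or_mem hm).elim hgQ hhQ'
    · have hgP : g ∉ P := fun hgm => hw' (P.mul_mem_right _ hgm)
      have hC := (hg (show (⟨P, hP⟩ : PrimeSpectrum B) ∈ ↑(PrimeSpectrum.basicOpen g) from hgP)).1
      let π : M →ₗ[B] B ⧸ J'.map φ := Submodule.factor (Ideal.map_mono le_sup_left)
      have hπ : Function.Surjective π := Submodule.factor_surjective _
      have hker : LinearMap.range u = LinearMap.ker π := by
        ext z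
        obtain ⟨z, rfl⟩ := Submodule.mkQ_surjective _ z
        rw [LinearMap.mem_range, LinearMap.mem_ker]
        show (∃ y, u y = Submodule.Quotient.mk z) ↔ (Submodule.Quotient.mk z : B ⧸ J'.map φ) = 0
        rw [Submodule.Quotient.mk_eq_zero, Ideal.map_sup, Ideal.map_span, Set.image_singleton]
        constructor
        · rintro ⟨y, hy⟩
          obtain ⟨y, rfl⟩ := Submodule.mkQ_surjective _ y
          rw [LinearMap.lsmul_apply, Submodule.mkQ_apply, ← Submodule.Quotient.mk_smul, Submodule.Quotient.eq] at hy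
          have : z = -((φ a • y) - z) + φ a * y := by simp [smul_eq_mul]
          rw [this]
          exact add_mem (Ideal.mem_sup_left (neg_mem hy))
            (Ideal.mem_sup_right (Ideal.mul_mem_right _ _ (Ideal.mem_span_singleton_self _)))
        · intro hz
          obtain ⟨j, hj, s, hs, rfl⟩ := Submodule.mem_sup.1 hz
          obtain ⟨t, rfl⟩ := Ideal.mem_span_singleton'.1 hs
          refine ⟨Submodule.Quotient.mk t, ?_⟩
          rw [LinearMap.lsmul_apply, ← Submodule.Quotient.mk_smul, Submodule.Quotient.eq, smul_eq_mul,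
            mul_comm, sub_add_cancel_right]
          exact neg_mem hj
      let E := (Submodule.quotEquivOfEq _ _ hker).trans (π.quotKerEquivOfSurjective hπ)
      exact flatAt_equiv E P hC

end Groth.Agent.AlgSpB.Art
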