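import Groth.Agent.AlgSpB.Art.Artin
import Groth.Agent.AlgSpB.EqvQuot

/-!
# Consequences of Artin's theorem: covers by algebraic spaces and flat equivalence relations
-/

universe u

open CategoryTheory CategoryTheory.Limits AlgebraicGeometry

set_option backward.isDefEq.respectTransparency false
set_option backward.isDefEq.respectTransparency.types false
set_option autoImplicit false

namespace Groth.Agent.AlgSpB.Art

open _root_.AlgSp

variable {S : Scheme.{u}}

/-- A sheaf with a flat, lfp, surjective map from an algebraic space, representable by algebraic spaces,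
is an algebraic space. -/
theorem isAlgSpace_of_repBy {F X : Sp S} (hX : IsAlgSpace X) (p : X ⟶ F)
    (hp : RepBySpWith (IsSurjectiveMor ⊓ LocP @Flat ⊓ LocP @LocallyOfFinitePresentation) p.hom) :
    IsAlgSpace F := by
  have hd := (representable_diag_of_fppf_cover hX p hp).1
  obtain ⟨V, q, hqe, hqs⟩ := hX.atlas
  have hc : Representable (q ≫ p) := Functor.relativelyRepresentable.of_diag hd _
  have key : ∀ ⦃T : Over S⦄ (g : (yon S).obj T ⟶ F),
      (@Flat ⊓ @LocallyOfFinitePresentation : MorphismProperty Scheme.{u}) (hc.snd g).left := by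
    intro T g
    obtain ⟨-, ⟨-, hf⟩, hl⟩ := pullback_props hp g
    obtain ⟨l, hl1, hl2⟩ := (IsPullback.of_hasPullback p g).exists_lift (hc.fst g ≫ q) ((yon S).map (hc.snd g))
      (by rw [Category.assoc]; exact hc.w g)
    have sl : IsPullback (hc.fst g) l q (pullback.fst p g) := by
      refine IsPullback.of_bot ?_ hl1.symm (IsPullback.of_hasPullback p g)
      rw [hl2]
      exact hc.isPullback g
    have hle : RepWith @Etale l := MorphismProperty.of_isPullback sl hqe
    have hid : RepWith @Etale (𝟙 ((yon S).obj T)) := repWith_of_isIso _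
    exact ⟨hf l (𝟙 _) _ hle hid (by rw [hl2, Category.comp_id]),
      hl l (𝟙 _) _ hle hid (by rw [hl2, Category.comp_id])⟩
  refine isAlgSpace_of_fppf_cover hd (q ≫ p) (Groth.Agent.AlgSp.repWith_of_snd hc key)
    (repWith_surjective_of_surjective_ofPt hc fun x => ?_)
  obtain ⟨x', hx'⟩ := exists_eq_ofPt_toHom x
  obtain ⟨W, k, l, -, _, -, hl⟩ := exists_fppf_lift hp x'.toHom
  obtain ⟨w, -⟩ := k.left.surjective (IsLocalRing.closedPoint x'.K)
  obtain ⟨v, hv⟩ := surjective_ofPt hqs (Points.ofPt l w)
  refine ⟨v, ?_⟩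
  rw [← Points.map_ofPt, hv, Points.map_ofPt, hl, ofPt_map_comp]
  exact hx' _

/-- The composite of an atlas with a locally surjective map whose kernel pair is flat and lfp. -/
theorem cover_of_kernelPair {X R F : Sp S} (hR : IsAlgSpace R) {V : Over S}
    {q : (yon S).obj V ⟶ X} (hqe : RepWith @Etale q) (hqs : RepWith @Surjective q) (π : X ⟶ F)
    [Sheaf.IsLocallySurjective π] {t s : R ⟶ X} (sq : IsPullback t s π π) (hf : LocP @Flat s)
    (hl : LocP @LocallyOfFinitePresentation s) :
    Representable (Limits.diag F) ∧ RepWith (@Flat ⊓ @LocallyOfFinitePresentation) (q ≫ π) ∧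
      RepWith @Surjective (q ≫ π) := by
  have := Groth.Agent.AlgSp.isLocallySurjective_of_etale_surjective q hqe hqs
  have : Sheaf.IsLocallySurjective (q ≫ π) := Sheaf.isLocallySurjective_comp _ _
  have key : ∀ {K : Sp S} (kt ks : K ⟶ (yon S).obj V), IsPullback kt ks (q ≫ π) (q ≫ π) →
      ∃ ρ : K ⟶ R, RepWith @Etale ρ ∧ RepWith @Surjective ρ ∧ ρ ≫ s = ks ≫ q := by
    intro K kt ks sqK
    obtain ⟨ρ, h1, h2⟩ := sq.exists_lift (kt ≫ q) (ks ≫ q) (by simpa using sqK.w)
    have s1 : IsPullback ρ (prod.lift kt ks) (prod.lift t s) (prod.map q q) := by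
      refine IsPullback.of_right ?_ ?_ (Groth.Agent.AlgSp.isPullback_diag_prodMap π sq)
      · have := Groth.Agent.AlgSp.isPullback_diag_prodMap (q ≫ π) sqK
        rwa [reassoc_of% h1, prod.map_map]
      · apply prod.hom_ext <;> simp [h1, h2]
    exact ⟨ρ, MorphismProperty.of_isPullback s1.flip (Groth.Agent.AlgSp.prodMap_mem (Q := RepWith @Etale) hqe hqe),
      MorphismProperty.of_isPullback s1.flip (Groth.Agent.AlgSp.prodMap_mem (Q := RepWith @Surjective) hqs hqs), h2⟩
  have hd : Representable (Limits.diag F) := by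
    have sqK := IsPullback.of_hasPullback (q ≫ π) (q ≫ π)
    obtain ⟨ρ, hρe, hρs, hρ⟩ := key _ _ sqK
    have hK : IsAlgSpace (pullback (q ≫ π) (q ≫ π)) := by
      obtain ⟨A, v, hve, hvs⟩ := hR.atlas
      obtain ⟨W, w, fw, sw⟩ := hρe.1 v
      exact Groth.Agent.AlgSp.isAlgSpace_of_etale_surjective fw (MorphismProperty.of_isPullback sw.flip hve)
        (MorphismProperty.of_isPullback sw.flip hvs)
    let kt := pullback.fst (q ≫ π) (q ≫ π)
    let ks := pullback.snd (q ≫ π) (q ≫ π)
    let m : pullback (q ≫ π) (q ≫ π) ⟶ (yon S).obj (V ⨯ V) :=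
      prod.lift kt ks ≫ inv (prodComparison (yon S) V V)
    have hm : Mono m := by
      refine Groth.Agent.AlgSp.mono_of_yon m fun W a b hab => ?_
      have e1 := congrArg (· ≫ prodComparison (yon S) V V ≫ prod.fst) hab
      have e2 := congrArg (· ≫ prodComparison (yon S) V V ≫ prod.snd) hab
      simp only [m, Category.assoc, IsIso.inv_hom_id_assoc, prod.lift_fst, prod.lift_snd] at e1 e2
      exact sqK.hom_ext e1 e2
    have hms : m ≫ (yon S).map prod.snd = ks := by
      simp only [m, Category.assoc]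
      rw [IsIso.eq_inv_comp _ |>.2 (prodComparison_snd (yon S) (A := V) (B := V)) |>.symm]
      exact prod.lift_snd _ _
    have hlft : LocP @LocallyOfFiniteType m := by
      intro A B a b h ha hb w
      obtain ⟨c, rfl⟩ := (yon S).map_surjective b
      have hlp : LocallyOfFinitePresentation (h ≫ c ≫ prod.snd).left :=
        hl (a ≫ ρ) q _ ((RepWith @Etale : MorphismProperty (Sp S)).comp_mem a ρ ha hρe) hqe (by
          simp only [Functor.map_comp, Category.assoc, hρ, ← hms, ks]
          rw [← Category.assoc ((yon S).map h), ← w]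
          simp only [Category.assoc])
      have : LocallyOfFiniteType (h.left ≫ (c ≫ prod.snd).left) := by
        rw [← Over.comp_left]; infer_instance
      exact locallyOfFiniteType_of_comp h.left (c ≫ prod.snd).left
    have hq := repWith_sepLqf_of_space hK m (locP_lqf_of_mono hK m hlft) (isSeparatedMor_of_mono m)
    have : Sheaf.IsLocallySurjective (prod.map (q ≫ π) (q ≫ π)) :=
      Groth.Agent.AlgSp.isLocallySurjective_prodMap _ _
    refine (Groth.Agent.AlgSp.repWith_sepLqf_of_baseChange (Limits.diag F) (prod.map (q ≫ π) (q ≫ π))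
      (Groth.Agent.AlgSp.isPullback_diag_prodMap (q ≫ π) sqK) ?_).1
    have e : prod.lift kt ks = m ≫ prodComparison (yon S) V V := by simp [m]
    rw [e]
    exact (MorphismProperty.cancel_right_of_respectsIso _ _ _).2 hq
  have hc : Representable (q ≫ π) := Functor.relativelyRepresentable.of_diag hd _
  obtain ⟨K, kt, ks, sqK⟩ := exists_pullback_yon hc (q ≫ π)
  obtain ⟨ρ, hρe, -, hρ⟩ := key _ _ sqK
  have hfs : Flat ks.left := hf ρ q ks hρe hqe hρ
  have hls : LocallyOfFinitePresentation ks.left := hl ρ q ks hρe hqe hρ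
  obtain ⟨e, -, he⟩ := sqK.exists_lift (𝟙 _) (𝟙 _) rfl
  obtain ⟨e, rfl⟩ := (yon S).map_surjective e
  have he' : e ≫ ks = 𝟙 V := (yon S).map_injective (by simpa using he)
  refine ⟨hd, Groth.Agent.AlgSp.repWith_inf ?_ ?_, ?_⟩
  · exact Groth.Agent.AlgSp.repWith_of_isPullback_of_isLocallySurjective _ hc (q ≫ π) _ _ sqK @Flat
      ((repWith_yon_map_iff _ _).2 hfs)
  · exact Groth.Agent.AlgSp.repWith_of_isPullback_of_isLocallySurjective _ hc (q ≫ π) _ _ sqK
      @LocallyOfFinitePresentation ((repWith_yon_map_iff _ _).2 hls)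
  · exact Groth.Agent.AlgSp.repWith_of_isPullback_of_isLocallySurjective _ hc (q ≫ π) _ _ sqK @Surjective
      ((repWith_yon_map_iff _ _).2 ⟨fun x => ⟨e.left x, congrArg (fun k : V ⟶ V => k.left x) he'⟩⟩)

/-- A sheaf with a locally surjective map from an algebraic space with flat lfp kernel pair is an algebraic space. -/
theorem isAlgSpace_of_kernelPair_flat {X R F : Sp S} (hX : IsAlgSpace X) (hR : IsAlgSpace R) (π : X ⟶ F)
    [Sheaf.IsLocallySurjective π] {t s : R ⟶ X} (sq : IsPullback t s π π) (hf : LocP @Flat s)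
    (hl : LocP @LocallyOfFinitePresentation s) : IsAlgSpace F := by
  obtain ⟨V, q, hqe, hqs⟩ := hX.atlas
  obtain ⟨hd, hp, hs⟩ := cover_of_kernelPair hR hqe hqs π sq hf hl
  exact isAlgSpace_of_fppf_cover hd _ hp hs

/-- The quotient map of a flat lfp equivalence relation of schemes is a flat lfp cover. -/
theorem cover_yπ {R U : Over S} {s t : R ⟶ U} (h : IsEqvRel s t) [Flat s.left]
    [LocallyOfFinitePresentation s.left] :
    Representable (Limits.diag (QuotSh.quot Scheme.fppfPrecoverage s t)) ∧
      RepWith (@Flat ⊓ @LocallyOfFinitePresentation) (Groth.Agent.AlgSp.yπ s t) ∧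
      RepWith @Surjective (Groth.Agent.AlgSp.yπ s t) := by
  have := Groth.Agent.AlgSp.isLocallySurjective_yπ s t
  have hf : LocP @Flat ((yon S).map s) :=
    AlgSpCov.locP_of_repWith AlgSpCov.etaleLocal_flat ((repWith_yon_map_iff _ _).2 ‹Flat s.left›)
  have hl : LocP @LocallyOfFinitePresentation ((yon S).map s) :=
    AlgSpCov.locP_of_repWith AlgSpCov.etaleLocal_locallyOfFinitePresentation
      ((repWith_yon_map_iff _ _).2 ‹LocallyOfFinitePresentation s.left›)
  have := cover_of_kernelPair (IsAlgSpace.yon_obj R) (q := 𝟙 ((yon S).obj U))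
    (repWith_of_isIso _) (repWith_of_isIso _) _ (Groth.Agent.AlgSp.isPullback_yπ s t h) hf hl
  simpa only [Category.id_comp] using this

end Groth.Agent.AlgSpB.Art
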