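import Groth.Agent.StFib.RepSp
import Groth.Agent.AlgSp.InfGlue
import Mathlib.AlgebraicGeometry.Morphisms.UniversallyOpen

/-!
# Zariski sheaves covered by fppf subsheaves are fppf sheaves
-/

universe v u

open CategoryTheory CategoryTheory.Limits AlgebraicGeometry Opposite

set_option backward.isDefEq.respectTransparency false
set_option backward.isDefEq.respectTransparency.types false
set_option autoImplicit false

namespace Groth.Agent.AlgSpB.Art

open _root_.AlgSp Groth.Agent.StFib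

variable {S : Scheme.{u}}

/-- A covering sieve contains, Zariski locally, fppf coverings by a single morphism. -/
theorem exists_open_single_cover {T : Over S} {R : Sieve T} (hR : R ∈ J S T) (t : T.left) :
    ∃ (U V : Over S) (j : U ⟶ T) (g : V ⟶ U), IsOpenImmersion j.left ∧ t ∈ Set.range j.left ∧
      Flat g.left ∧ LocallyOfFinitePresentation g.left ∧ Surjective g.left ∧ R (g ≫ j) := by
  obtain ⟨P, hP, hPR⟩ := Groth.Agent.AlgSp.exists_cover_of_mem hR
  obtain ⟨ι, X, k, rfl⟩ := P.exists_eq_ofArrows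
  obtain ⟨hs, hk⟩ := (Scheme.ofArrows_mem_precoverage_iff _).1 hP
  obtain ⟨i, w, rfl⟩ := hs t
  obtain ⟨_, _⟩ := hk i
  let O : T.left.Opens := ⟨Set.range (k i), (k i).isOpenMap.isOpen_range⟩
  have hO : Set.range (k i) ⊆ Set.range O.ι := by simp [O]
  let g₀ : X i ⟶ O := IsOpenImmersion.lift O.ι (k i) hO
  have hg₀ : g₀ ≫ O.ι = k i := IsOpenImmersion.lift_fac _ _ _
  let j : Over.mk (O.ι ≫ T.hom) ⟶ T := Over.homMk O.ι rfl
  let g : Over.mk (k i ≫ T.hom) ⟶ Over.mk (O.ι ≫ T.hom) :=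
    Over.homMk g₀ (by simp only [Over.mk_hom, ← hg₀, Category.assoc])
  refine ⟨_, _, j, g, inferInstanceAs (IsOpenImmersion O.ι), by simp [j, O], ?_, ?_, ⟨fun y => ?_⟩, ?_⟩
  · change Flat g₀
    have : Flat (g₀ ≫ O.ι) := hg₀ ▸ inferInstance
    exact MorphismProperty.of_postcomp (W := @Flat) (W' := @IsOpenImmersion) g₀ O.ι inferInstance this
  · change LocallyOfFinitePresentation g₀
    have : LocallyOfFinitePresentation (g₀ ≫ O.ι) := hg₀ ▸ inferInstance
    exact MorphismProperty.of_postcomp (W := @LocallyOfFinitePresentation) (W' := @IsOpenImmersion) g₀ O.ι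
      inferInstance this
  · obtain ⟨a, ha⟩ := y.2
    exact ⟨a, Subtype.ext ((congrArg (fun q : X i ⟶ T.left => q a) hg₀).trans ha)⟩
  · have e : g ≫ j = (Over.homMk (k i) rfl : Over.mk (k i ≫ T.hom) ⟶ T) := Over.OverMorphism.ext hg₀
    rw [e]
    exact hPR (k i) (Presieve.ofArrows.mk i)

/-- A lift through a monomorphism representable by algebraic spaces descends along a covering. -/
theorem exists_lift_of_fppf {F G : PSp S} (m : G ⟶ F) [Mono m] (hm : RepBySp m) {U V : Over S} (g : V ⟶ U)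
    [Flat g.left] [LocallyOfFinitePresentation g.left] [Surjective g.left] (x : (pyon S).obj U ⟶ F)
    (z : (pyon S).obj V ⟶ G) (hz : z ≫ m = (pyon S).map g ≫ x) : ∃ w, w ≫ m = x := by
  obtain ⟨hP, -⟩ := hm x _ _ (IsPullback.of_hasPullback m x)
  let R : Sieve U := Sieve.generate (Presieve.singleton g)
  have hR : R ∈ J S U := Groth.Agent.AlgSp.mem_of_fppf g (Sieve.le_generate _ _ _ (Presieve.singleton_self g))
  have hex : ∀ ⦃W : Over S⦄ (f : W ⟶ U), R f → ∃ l : (pyon S).obj W ⟶ pullback m x,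
      l ≫ pullback.snd m x = (pyon S).map f := by
    rintro W f ⟨_, h, _, ⟨⟩, rfl⟩
    exact ⟨pullback.lift ((pyon S).map h ≫ z) ((pyon S).map (h ≫ g))
      (by rw [Category.assoc, hz, Functor.map_comp, Category.assoc]), pullback.lift_snd _ _ _⟩
  choose l hl using hex
  obtain ⟨s, hs⟩ := exists_glue_pyon hP hR l fun A B a f hf => by
    rw [← cancel_mono (pullback.snd m x), Category.assoc, hl, hl, Functor.map_comp]
  have hs' : s ≫ pullback.snd m x = 𝟙 _ := by
    refine pyon_hom_ext_of_cover ((isAlgSpaceP_pyon_sheaf U)) hR fun W f hf => ?_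
    rw [← Category.assoc, hs f hf, hl, Category.comp_id]
  exact ⟨s ≫ pullback.fst m x, by rw [Category.assoc, pullback.condition, reassoc_of% hs']⟩
where
  isAlgSpaceP_pyon_sheaf (U : Over S) : Presheaf.IsSheaf (J S) ((pyon S).obj U) := ((yon S).obj U).property

theorem isSheaf_fppf_of_zariski (F : PSp S)
    (h1 : Presheaf.IsSheaf (QuotSh.J Scheme.zariskiPrecoverage S) F) {ι : Type v} (Fi : ι → PSp S)
    (m : ∀ i, Fi i ⟶ F) [∀ i, Mono (m i)] (ha : ∀ i, Presheaf.IsSheaf (J S) (Fi i))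
    (hb : ∀ i, RepBySp (m i))
    (hc : ∀ (T : Over S) (x : F.obj (op T)), ∃ R ∈ (J S) T,
      ∀ ⦃T' : Over S⦄ (f : T' ⟶ T), R.arrows f → ∃ i, F.map f.op x ∈ Set.range ((m i).app (op T'))) :
    Presheaf.IsSheaf (J S) F := by
  rw [isSheaf_iff_isSheaf_of_type]
  have hZ := (isSheaf_iff_isSheaf_of_type _ _).1 h1
  -- sections as maps
  have hcov : ∀ (T : Over S) (x : (pyon S).obj T ⟶ F), ∃ R ∈ (J S) T, ∀ ⦃T' : Over S⦄ (f : T' ⟶ T), R f →
      ∃ i z, z ≫ m i = (pyon S).map f ≫ x := by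
    intro T x
    obtain ⟨R, hR, h⟩ := hc T (pEquiv x)
    refine ⟨R, hR, fun T' f hf => ?_⟩
    obtain ⟨i, z, hz⟩ := h f hf
    exact ⟨i, pEquiv.symm z, pEquiv.injective (by rw [pEquiv_map, ← hz]; simp [uliftYonedaEquiv_comp])⟩
  -- Zariski covers
  have hzar : ∀ {T : Over S} {κ : Type u} {U : κ → Over S} (j : ∀ k, U k ⟶ T),
      (∀ k, IsOpenImmersion (j k).left) → (∀ t, ∃ k, t ∈ Set.range (j k).left) →
      Sieve.ofArrows U j ∈ QuotSh.J Scheme.zariskiPrecoverage S T := by
    intro T κ U j hj hs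
    rw [GrothendieckTopology.mem_over_iff, Sieve.overEquiv_ofArrows]
    exact Precoverage.generate_mem_toGrothendieck
      ((Scheme.ofArrows_mem_precoverage_iff (P := @IsOpenImmersion)).2 ⟨hs, hj⟩)
  -- separatedness
  have hsep : ∀ {T : Over S} {R : Sieve T}, R ∈ J S T → ∀ (x y : (pyon S).obj T ⟶ F),
      (∀ ⦃W : Over S⦄ (f : W ⟶ T), R f → (pyon S).map f ≫ x = (pyon S).map f ≫ y) → x = y := by
    intro T R hR x y hxy
    obtain ⟨Rc, hRc, hx⟩ := hcov T x
    choose U V j g hj htj hgf hgl hgs hgR using fun t =>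
      exists_open_single_cover ((J S).intersection_covering hR hRc) t
    have hloc : ∀ t, (pyon S).map (j t) ≫ x = (pyon S).map (j t) ≫ y := by
      intro t
      have := hgf t; have := hgl t; have := hgs t
      obtain ⟨i, z, hz⟩ := hx _ (hgR t).2
      obtain ⟨wx, hwx⟩ := exists_lift_of_fppf (m i) (hb i) (g t) ((pyon S).map (j t) ≫ x) z
        (by rw [hz, Functor.map_comp, Category.assoc])
      obtain ⟨wy, hwy⟩ := exists_lift_of_fppf (m i) (hb i) (g t) ((pyon S).map (j t) ≫ y) z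
        (by rw [hz, hxy _ (hgR t).1, Functor.map_comp, Category.assoc])
      have e : wx = wy := by
        refine pyon_hom_ext_of_cover (ha i) (Groth.Agent.AlgSp.mem_of_fppf (g t)
          (Sieve.le_generate _ _ _ (Presieve.singleton_self (g t)))) ?_
        rintro W f ⟨_, h, _, ⟨⟩, rfl⟩
        rw [← cancel_mono (m i)]
        simp only [Category.assoc, hwx, hwy, Functor.map_comp]
        rw [← Category.assoc ((pyon S).map (g t)), ← Category.assoc ((pyon S).map (g t)) _ y,
          ← Functor.map_comp, hxy _ (hgR t).1]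
      rw [← hwx, e, hwy]
    apply pEquiv.injective
    refine (Presieve.isSeparatedFor_iff_generate.2
      (hZ.isSeparated _ (hzar j hj fun t => ⟨t, htj t⟩))).ext ?_
    rintro W f ⟨t⟩
    rw [← pEquiv_map, ← pEquiv_map, hloc t]
  intro T R hR fam hfam
  rw [Presieve.compatible_iff_sieveCompatible] at hfam
  let x : ∀ ⦃W : Over S⦄ (f : W ⟶ T), R f → ((pyon S).obj W ⟶ F) := fun W f hf => pEquiv.symm (fam f hf)
  have hx : ∀ ⦃W W' : Over S⦄ (a : W' ⟶ W) (f : W ⟶ T) (hf : R f) {f' : W' ⟶ T} (hf' : R f'), a ≫ f = f' →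
      (pyon S).map a ≫ x f hf = x f' hf' := fun W W' a f hf f' hf' e => by
    subst e
    exact (pSymm_map a _).trans (congrArg _ (hfam f a hf).symm)
  choose Rc hRc hRx using fun (W : Over S) (f : W ⟶ T) (hf : R f) => hcov W (x f hf)
  let R' : Sieve T := Sieve.bind R fun W f hf => Rc W f hf
  have hR' : R' ∈ J S T := (J S).bind_covering hR fun W f hf => hRc W f hf
  choose U V j g hj htj hgf hgl hgs hgR using fun t => exists_open_single_cover hR' t
  have hgR₀ : ∀ t, R (g t ≫ j t) := fun t => by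
    obtain ⟨W, a, f, hf, -, e⟩ := hgR t
    rw [← e]
    exact R.downward_closed hf a
  have hloc : ∀ t, ∃ xt : (pyon S).obj (U t) ⟶ F, ∀ ⦃W : Over S⦄ (f : W ⟶ U t) (hf : R (f ≫ j t)),
      (pyon S).map f ≫ xt = x _ hf := by
    intro t
    have := hgf t; have := hgl t; have := hgs t
    obtain ⟨W₀, a₀, f₀, hf₀, ha₀, e₀⟩ := hgR t
    obtain ⟨i, z, hz⟩ := hRx W₀ f₀ hf₀ a₀ ha₀
    rw [hx a₀ f₀ hf₀ (hgR₀ t) e₀] at hz
    let C : Sieve (U t) := Sieve.generate (Presieve.singleton (g t))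
    have hC : C ∈ J S (U t) :=
      Groth.Agent.AlgSp.mem_of_fppf (g t) (Sieve.le_generate _ _ _ (Presieve.singleton_self (g t)))
    have hmem : ∀ ⦃W : Over S⦄ (f : W ⟶ U t), C f → R (f ≫ j t) := by
      rintro W f ⟨_, h, _, ⟨⟩, rfl⟩
      rw [Category.assoc]
      exact R.downward_closed (hgR₀ t) h
    have hex : ∀ ⦃W : Over S⦄ (f : W ⟶ U t) (hf : C f), ∃ w : (pyon S).obj W ⟶ Fi i,
        w ≫ m i = x _ (hmem f hf) := by
      rintro W f ⟨_, h, _, ⟨⟩, rfl⟩
      exact ⟨(pyon S).map h ≫ z, by rw [Category.assoc, hz]; exact hx h _ _ _ (Category.assoc _ _ _).symm⟩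
    choose w hw using hex
    obtain ⟨wt, hwt⟩ := exists_glue_pyon (ha i) hC w fun A B a f hf => by
      rw [← cancel_mono (m i), Category.assoc, hw, hw]
      exact hx a _ _ _ (Category.assoc _ _ _).symm
    refine ⟨wt ≫ m i, fun W f hf => hsep ((J S).pullback_stable f hC) _ _ fun W' e he => ?_⟩
    rw [← Category.assoc, ← Category.assoc, ← Functor.map_comp, hwt _ he, hw]
    exact (hx e _ hf _ (Category.assoc _ _ _).symm).symm
  choose xt hxt using hloc
  have hcompat : ∀ s t (Z : Over S) (a : Z ⟶ U s) (b : Z ⟶ U t), a ≫ j s = b ≫ j t →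
      (pyon S).map a ≫ xt s = (pyon S).map b ≫ xt t := by
    intro s t Z a b w
    refine hsep ((J S).pullback_stable (a ≫ j s) hR) _ _ fun W e he => ?_
    have he1 : R ((e ≫ a) ≫ j s) := by rw [Category.assoc]; exact he
    have he2 : R ((e ≫ b) ≫ j t) := by rw [Category.assoc, ← w]; exact he
    rw [← Category.assoc, ← Category.assoc, ← Functor.map_comp, ← Functor.map_comp, hxt s _ he1, hxt t _ he2]
    congr 1
    simp only [Category.assoc, w]
  have hcovj := hzar j hj fun t => ⟨t, htj t⟩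
  obtain ⟨sec, hsec, -⟩ := (Presieve.isSheafFor_arrows_iff F j).1
    ((Presieve.isSheafFor_iff_generate _).2 (hZ _ hcovj)) (fun t => pEquiv (xt t)) fun s t Z a b w => by
      rw [← pEquiv_map, ← pEquiv_map, hcompat s t Z a b w]
  have hfin : ∀ ⦃W : Over S⦄ (f : W ⟶ T) (hf : R f), (pyon S).map f ≫ pEquiv.symm sec = x f hf := by
    intro W f hf
    refine hsep ((J S).pullback_stable f (Groth.Agent.AlgSp.InfGlue.mem_J j
      (fun t => have := hj t; inferInstance) fun t => ⟨t, htj t⟩)) _ _ fun W' e he => ?_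
    obtain ⟨_, h, _, ⟨t⟩, he'⟩ := he
    have ht : (pyon S).map (j t) ≫ pEquiv.symm sec = xt t :=
      pEquiv.injective (by rw [pEquiv_map, Equiv.apply_symm_apply]; exact hsec t)
    rw [← Category.assoc, ← Functor.map_comp, ← he', Functor.map_comp, Category.assoc, ht,
      hxt t h (by rw [he']; exact R.downward_closed hf e)]
    exact (hx e f hf _ he'.symm).symm
  refine ⟨sec, fun W f hf => ?_, fun y hy => ?_⟩
  · have := congrArg pEquiv (hfin f hf)
    rwa [pEquiv_map, Equiv.apply_symm_apply, Equiv.apply_symm_apply] at this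
  · apply pEquiv.symm.injective
    refine hsep hR _ _ fun W f hf => ?_
    rw [hfin f hf, pSymm_map, hy f hf]

end Groth.Agent.AlgSpB.Art
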